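import Cfsg.Agent.Lib.J4Fusion14.Pair
import Cfsg.Agent.Lib.ZStar.Final

/-!
# The normalizer of `P` lies in the centralizer of `z`

If a conjugate of `z` other than `z` lies in `C`, then conjugation does not move `p` into `E * P`, and the
Z*-theorem in the centralizer of `P` gives that the normalizer of `P` centralizes `z`.
-/

set_option autoImplicit false
set_option linter.unusedSectionVars false

namespace Cfsg.Agent.Lib.J4Fusion14

open Cfsg Cfsg.Agent.Lib.J4Type19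

attribute [local instance] m22_finite

section Generic

variable {α : Type*} [Group α]

theorem eq_one_of_coprime_pow14 {x : α} {m n : ℕ} (hm : x ^ m = 1) (hn : x ^ n = 1) (h : Nat.Coprime m n) :
    x = 1 :=
  orderOf_eq_one_iff.1 (Nat.eq_one_of_dvd_coprimes h (orderOf_dvd_of_pow_eq_one hm) (orderOf_dvd_of_pow_eq_one hn))

theorem eq_one_of_sq14 {x : α} {n : ℕ} (h2 : x * x = 1) (hn : x ^ n = 1) (ho : Odd n) : x = 1 :=
  eq_one_of_coprime_pow14 (m := 2) (by rw [pow_two, h2]) hn (Nat.coprime_two_left.2 ho)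

/-- An element of a group of odd exponent normalized by an involution is inverted times fixed. -/
theorem split14 (O : Subgroup α) {n : ℕ} (hn : Odd n) (hpow : ∀ x ∈ O, x ^ n = 1) {v : α} (hv : v * v = 1)
    (hvO : ∀ x ∈ O, v * x * v ∈ O) {x : α} (hx : x ∈ O) :
    ∃ b ∈ O, ∃ c ∈ O, x = b * c ∧ v * b * v = b⁻¹ ∧ v * c * v = c := by
  obtain ⟨k, rfl⟩ := hn
  obtain ⟨a, ha⟩ : ∃ a, a = x * (v * x * v)⁻¹ := ⟨_, rfl⟩
  have hvi : v⁻¹ = v := inv_eq_of_mul_eq_one_right hv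
  have haO : a ∈ O := ha ▸ mul_mem hx (inv_mem (hvO x hx))
  have hbb : a ^ (k + 1) * a ^ (k + 1) = a := by
    rw [← pow_add, show k + 1 + (k + 1) = 2 * k + 1 + 1 by ring, pow_succ, hpow a haO, one_mul]
  have hva : v * a * v⁻¹ = a⁻¹ := by
    rw [ha, hvi]
    simp only [mul_inv_rev, hvi, ← mul_assoc, inv_inv]
    simp [mul_assoc, hv]
  have hvb : v * a ^ (k + 1) * v = (a ^ (k + 1))⁻¹ := by
    nth_rw 2 [← hvi]
    rw [← conj_pow, hva, inv_pow]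
  refine ⟨_, pow_mem haO _, (a ^ (k + 1))⁻¹ * x, mul_mem (inv_mem (pow_mem haO _)) hx, by group, hvb, ?_⟩
  obtain ⟨b, hb⟩ : ∃ b, b = a ^ (k + 1) := ⟨_, rfl⟩
  rw [← hb] at hbb hvb ⊢
  have hvx : v * x * v = a⁻¹ * x := by
    rw [ha]; group
  calc v * (b⁻¹ * x) * v = (v * b * v)⁻¹ * (v * x * v) := by
        simp only [mul_inv_rev, hvi]; simp [mul_assoc, ← mul_assoc v v, hv]
    _ = b * ((b * b)⁻¹ * x) := by rw [hvb, inv_inv, hvx, hbb]
    _ = b⁻¹ * x := by group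

/-- An element of odd order centralizing `y` and inverted by an involution centralizing `y` is trivial. -/
theorem three_odd14 (Th : Three α) {y s u : α} (hy : orderOf y = 3) (hsy : Commute s y) (huy : Commute u y)
    (hu : u * u = 1) (hus : u * s * u⁻¹ = s⁻¹) {n : ℕ} (hn : Odd n) (hs : s ^ n = 1) : s = 1 := by
  obtain ⟨k, hk⟩ := isConj_iff.1 (Th.isConj y hy)
  obtain ⟨f, hf⟩ : ∃ f : α →* α, f = (MulAut.conj k⁻¹).toMonoidHom := ⟨_, rfl⟩
  have hfy : f y = Th.a := by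
    rw [hf, ← hk]; simp [mul_assoc]
  have hfi : Function.Injective f := hf ▸ (MulAut.conj k⁻¹).injective
  have hsa : Commute (f s) Th.a := hfy ▸ hsy.map f
  have hua : Commute (f u) Th.a := hfy ▸ huy.map f
  have hu2 : f u * f u = 1 := by rw [← map_mul, hu, map_one]
  obtain ⟨a, ha⟩ : ∃ a, a = f s := ⟨_, rfl⟩
  obtain ⟨b, hb⟩ : ∃ b, b = f u := ⟨_, rfl⟩
  rw [← ha] at hsa
  rw [← hb] at hua hu2
  have hab : b * a * b⁻¹ = a⁻¹ := by rw [ha, hb, ← map_inv, ← map_mul, ← map_mul, hus, map_inv]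
  have hc2 : a * b * a⁻¹ * (a * b * a⁻¹) = 1 := by
    simp [mul_assoc, ← mul_assoc b b, hu2]
  have hkey : a * a = (a * b * a⁻¹) * b := by
    have hbi : b⁻¹ = b := inv_eq_of_mul_eq_one_right hu2
    have : b * a⁻¹ * b⁻¹ = a := by rw [← conj_inv, hab, inv_inv]
    rw [hbi] at this
    calc a * a = a * (b * a⁻¹ * b) := by rw [this]
      _ = _ := by group
  have hT : ∀ x, x = 1 ∨ x = Th.t ∨ x = Th.t₁ ∨ x = Th.t * Th.t₁ → Commute x Th.t ∧ Commute x Th.t₁ := by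
    rintro x (rfl | rfl | rfl | rfl)
    exacts [⟨Commute.one_left _, Commute.one_left _⟩, ⟨Commute.refl _, Th.comm⟩, ⟨Th.comm.symm, Commute.refl _⟩,
      ⟨(Commute.refl _).mul_left Th.comm.symm, Th.comm.mul_left (Commute.refl _)⟩]
  obtain ⟨h1, h2⟩ := hT _ (Th.four _ ((hsa.mul_left hua).mul_left hsa.inv_left) hc2)
  have hall : ∀ x, x = 1 ∨ x = Th.t ∨ x = Th.t₁ ∨ x = Th.t * Th.t₁ → Commute (a * b * a⁻¹) x := by
    rintro x (rfl | rfl | rfl | rfl)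
    exacts [Commute.one_right _, h1, h2, h1.mul_right h2]
  have hcomm := hall b (Th.four b hua hu2)
  have h4 : a ^ 4 = 1 := by
    rw [show (4 : ℕ) = 2 * 2 from rfl, pow_mul, pow_two a, hkey, hcomm.mul_pow, pow_two, hc2, pow_two, hu2, one_mul]
  have : a = 1 := eq_one_of_coprime_pow14 h4 (by rw [ha, ← map_pow, hs, map_one])
    (show Nat.Coprime (2 ^ 2) n from (Nat.coprime_two_left.2 hn).pow_left 2)
  exact hfi (by rw [← ha, this, map_one])

end Generic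

variable {G : Type*} [Group G] [Finite G] {z : G} {P : Subgroup G}

theorem P_le_cH14 (D : HData z P) {q : G} (hq : q ∈ P) : q ∈ cH z := by
  rcases (D.mem_P q).1 hq with rfl | rfl | rfl
  exacts [one_mem _, D.pH, mul_mem D.pH D.pH]

theorem P_cube14 (D : HData z P) {q : G} (hq : q ∈ P) : q ^ 3 = 1 := by
  rcases (D.mem_P q).1 hq with rfl | rfl | rfl
  exacts [one_pow 3, D.p3, by rw [← pow_two, ← pow_mul, mul_comm, pow_mul, D.p3, one_pow]]

theorem eq_one_of_odd_cE14 (D : HData z P) {x : G} (hx : x ∈ cE z) {n : ℕ} (hn : Odd n) (h : x ^ n = 1) :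
    x = 1 := by
  refine eq_one_of_coprime_pow14 (m := 2 ^ 13) ?_ h ((Nat.coprime_two_left.2 hn).pow_left 13)
  have := congrArg Subtype.val (cardE D.hJ ▸ pow_card_eq_one' : (⟨x, hx⟩ : ↥(cE z)) ^ (2 ^ 13) = 1)
  simpa using this

theorem cE_of_pow_four14 (D : HData z P) {e q : G} (he : e ∈ cE z) (hq : q ∈ P) (h4 : (e * q) ^ 4 = 1) :
    e * q ∈ cE z := by
  have hqH := P_le_cH14 D hq
  have e4 : (e * q) ^ 4 =
      e * (q * e * q⁻¹) * (q * q * e * (q * q)⁻¹) * (q * q * q * e * (q * q * q)⁻¹) * (q ^ 3 * q) := by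
    simp [pow_succ, mul_assoc]
  rw [h4, P_cube14 D hq, one_mul] at e4
  have hqE : q ∈ cE z := by
    rw [← inv_eq_of_mul_eq_one_right e4.symm]
    exact inv_mem (mul_mem (mul_mem (mul_mem he (cE_conj hqH he)) (cE_conj (mul_mem hqH hqH) he))
      (cE_conj (mul_mem (mul_mem hqH hqH) hqH) he))
  exact mul_mem he hqE

/-- A fixed vector of an involution of `C` lifts to elements commuting with it. -/
theorem fix_comm14 (D : HData z P) {c : ↥(cC z P)} {e : ↥(cE z)} (he : c • mk e = mk e) :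
    Commute (c : G) e := by
  rw [smul_mk, mk_eq D.hJ] at he
  have he' : (e : G) = c * e * (c : G)⁻¹ ∨ (e : G) = c * e * (c : G)⁻¹ * z := he
  rcases he' with h | h
  · exact (eq_mul_inv_iff_mul_eq.1 h).symm
  exfalso
  have hzz := z_sq D.hJ
  have h' : (c : G) * e * (c : G)⁻¹ = e * z := by
    conv_rhs => rw [h, mul_assoc, hzz, mul_one]
  obtain ⟨a, ha⟩ : ∃ a, a = cEAut D.p D.pH e := ⟨_, rfl⟩
  obtain ⟨b, hb⟩ : ∃ b, b = cEAut D.p D.pH a := ⟨_, rfl⟩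
  have hcp : Commute D.p (c : G) := D.comm_p c
  have hzp : Commute z D.p := D.comm_z D.pC
  have hstep : ∀ f : ↥(cE z), (c : G) * f * (c : G)⁻¹ = f * z →
      (c : G) * (cEAut D.p D.pH f : ↥(cE z)) * (c : G)⁻¹ = (cEAut D.p D.pH f : ↥(cE z)) * z := by
    intro f hf
    show (c : G) * (D.p * f * D.p⁻¹) * (c : G)⁻¹ = D.p * f * D.p⁻¹ * z
    calc (c : G) * (D.p * f * D.p⁻¹) * (c : G)⁻¹
        = ((c : G) * D.p) * f * (D.p⁻¹ * (c : G)⁻¹) := by group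
      _ = D.p * ((c : G) * f * (c : G)⁻¹) * D.p⁻¹ := by
          rw [← hcp.eq, ← hcp.symm.inv_inv.eq]; group
      _ = D.p * f * (z * D.p⁻¹) := by rw [hf]; group
      _ = D.p * f * D.p⁻¹ * z := by rw [hzp.inv_right.eq]; group
  have h1 : (c : G) * a * (c : G)⁻¹ = a * z := ha ▸ hstep e h'
  have h2 : (c : G) * b * (c : G)⁻¹ = b * z := hb ▸ hstep a h1
  have hsum : mk (e * a * b) = 0 := by
    rw [mk_mul, mk_mul, hb, ha]
    exact D.toJMod.ω_sum (mk e)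
  have hX : (c : G) * ((e : G) * a * b) * (c : G)⁻¹ = (e : G) * a * b := by
    rcases (mk_eq_zero D.hJ).1 hsum with k | k
    · rw [show ((e : G) * a * b) = 1 from k]; group
    · rw [show ((e : G) * a * b) = z from k, ← D.comm_z c, mul_inv_cancel_right]
  have hmv : ∀ f : ↥(cE z), z * (f : G) = f * z := fun f => ((comm_z_of_cE f.2).eq).symm
  have : (e : G) * a * b * z = (e : G) * a * b := by
    conv_rhs => rw [← hX]
    rw [show (c : G) * ((e : G) * a * b) * (c : G)⁻¹ =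
      ((c : G) * e * (c : G)⁻¹) * ((c : G) * a * (c : G)⁻¹) * ((c : G) * b * (c : G)⁻¹) by group, h', h1, h2]
    simp only [mul_assoc]
    rw [← mul_assoc z (a : G), hmv a, mul_assoc, ← mul_assoc z z, hzz, one_mul]
  exact z_ne D.hJ (mul_eq_left.1 this)

/-- For an involution of `C` outside the kernel, `z` is a commutator of commutators with `p`. -/
theorem exists_comm14 (D : HData z P) {c : ↥(cC z P)} (hc : c * c = 1) (hπ : D.π c ≠ 1) :
    ∃ a₁ ∈ cE z, ∃ a₂ ∈ cE z, Commute (c : G) a₁ ∧ Commute (c : G) a₂ ∧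
      (D.p * a₁ * D.p⁻¹ * a₁⁻¹) * (D.p * a₂ * D.p⁻¹ * a₂⁻¹) * (D.p * a₁ * D.p⁻¹ * a₁⁻¹)⁻¹ *
        (D.p * a₂ * D.p⁻¹ * a₂⁻¹)⁻¹ = z := by
  obtain ⟨F⟩ := exists_mFacts
  obtain ⟨L⟩ := D.toJMod.exists_lifts (F := F)
  have h2 : D.toJMod.π c * D.toJMod.π c = 1 := by rw [← map_mul, hc, map_one]
  have h4 : c ^ 4 = 1 := by rw [show (4 : ℕ) = 2 * 2 from rfl, pow_mul, pow_two c, hc, one_pow]
  obtain ⟨e, e', he, he', hne⟩ : ∃ e e' : ↥(cE z), c • mk e = mk e ∧ c • mk e' = mk e' ∧ ¬ Commute e e' := by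
    by_contra hno
    push Not at hno
    have hle : fixElt (V := cV z) c ≤ perpOf D.toJMod.β (fixElt (V := cV z) c) := by
      intro v hv w hw
      obtain ⟨e, rfl⟩ := mk_surjective v
      obtain ⟨e', rfl⟩ := mk_surjective w
      exact pair_eq_zero.2 (hno e e' hv hw)
    obtain ⟨hr, -, hcard⟩ := D.toJMod.perp_fixElt L h2 hπ h4
    have hfin : Finite (cV z) := D.toJMod.finiteV
    have := AddSubgroup.card_le_of_le hle
    rw [← hr, hcard, D.toJMod.card_fixElt L h2 hπ h4] at this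
    norm_num at this
  have hlift : ∀ e : ↥(cE z), c • mk e = mk e → ∃ a ∈ cE z, Commute (c : G) a ∧
      ∃ d : ↥(cE z), (d : G) = D.p * a * D.p⁻¹ * a⁻¹ ∧ mk d = mk e := by
    intro e he
    obtain ⟨a, ha⟩ : ∃ a, a = cEAut D.p D.pH e := ⟨_, rfl⟩
    have hak : mk a = D.toJMod.ω • mk e := by rw [ha]; rfl
    refine ⟨a, a.2, fix_comm14 D ?_, cEAut D.p D.pH a * a⁻¹, rfl, ?_⟩
    · rw [hak, ← D.toJMod.ω_comm, he]
    · have hai : mk a⁻¹ = mk a := by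
        have h := mk_mul a⁻¹ a
        rw [inv_mul_cancel, mk_one] at h
        rw [eq_neg_of_add_eq_zero_left h.symm, D.toJMod.neg_eq]
      rw [mk_mul, hai, ← D.smul_p_mk, hak]
      have hs := D.toJMod.ω_sum (mk e)
      rw [add_assoc, add_comm (D.toJMod.ω • mk e)] at hs
      exact ((eq_neg_of_add_eq_zero_left hs).trans (D.toJMod.neg_eq _)).symm
  obtain ⟨a₁, ha₁, hc₁, d₁, hd₁, hm₁⟩ := hlift e he
  obtain ⟨a₂, ha₂, hc₂, d₂, hd₂, hm₂⟩ := hlift e' he'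
  refine ⟨a₁, ha₁, a₂, ha₂, hc₁, hc₂, ?_⟩
  rw [← hd₁, ← hd₂]
  refine (comm_or D.hJ d₁ d₂).resolve_left fun h => hne ?_
  rw [← pair_eq_zero, ← form_mk D.hJ, ← hm₁, ← hm₂, form_mk, pair_eq_zero]
  rw [mul_inv_eq_one, mul_inv_eq_iff_eq_mul] at h
  exact Subtype.ext h

theorem sig_mem_cH14 {g d : G} (h : Commute d (g * z * g⁻¹)) : g⁻¹ * d * g ∈ cH z := by
  have := (conj_mem_cH (z := z) (g := g⁻¹) (d := d)).2 (by rwa [inv_inv])
  rwa [inv_inv] at this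

theorem comm_P14 (_D : HData z P) {k : G} (hk : k ∈ Subgroup.centralizer (P : Set G)) {q : G} (hq : q ∈ P) :
    Commute k q :=
  (show Commute q k from Subgroup.mem_centralizer_iff.1 hk q hq).symm

theorem π_ne_of_hne14 (D : HData z P) {g : G} (hC : g * z * g⁻¹ ∈ cC z P) (hne : g * z * g⁻¹ ≠ z) :
    D.π ⟨_, hC⟩ ≠ 1 ∧ (⟨_, hC⟩ : ↥(cC z P)) * ⟨_, hC⟩ = 1 := by
  have h2 : (⟨_, hC⟩ : ↥(cC z P)) * ⟨_, hC⟩ = 1 := Subtype.ext (by
    show g * z * g⁻¹ * (g * z * g⁻¹) = 1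
    rw [← pow_two, conj_pow, pow_two, z_sq D.hJ, mul_one, mul_inv_cancel])
  refine ⟨fun h => ?_, h2⟩
  rcases D.ker_two h h2 with h' | h'
  · exact z_ne D.hJ (conj_eq_one_iff.1 h')
  · exact hne h'

/-- Conjugation moving `z` to another element of `C` does not move `p` into `E * P`. -/
theorem not_core_p (D : HData z P) {g : G} (hC : g * z * g⁻¹ ∈ cC z P) (hne : g * z * g⁻¹ ≠ z) :
    ¬ ∃ e ∈ cE z, ∃ q ∈ P, g⁻¹ * D.p * g = e * q := by
  rintro ⟨e, he, q, hq, hy⟩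
  obtain ⟨hπ, h2⟩ := π_ne_of_hne14 D hC hne
  obtain ⟨a₁, ha₁, a₂, ha₂, hc₁, hc₂, hz'⟩ := exists_comm14 D h2 hπ
  have hyH : g⁻¹ * D.p * g ∈ cH z := hy ▸ mul_mem (cE_le z he) (P_le_cH14 D hq)
  have hyφ : D.φ ⟨_, hyH⟩ = 1 := (D.φ_eq _).2 ⟨e, he, q, hq, hy⟩
  have key : ∀ a ∈ cE z, Commute (g * z * g⁻¹) a → g⁻¹ * (D.p * a * D.p⁻¹ * a⁻¹) * g ∈ cE z := by
    intro a ha hca
    have haH : g⁻¹ * a * g ∈ cH z := sig_mem_cH14 hca.symm
    have hdE : D.p * a * D.p⁻¹ * a⁻¹ ∈ cE z := mul_mem (cE_conj D.pH ha) (inv_mem ha)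
    obtain ⟨w, hw⟩ : ∃ w : ↥(cH z),
        w = ⟨_, hyH⟩ * ⟨_, haH⟩ * (⟨_, hyH⟩ : ↥(cH z))⁻¹ * (⟨_, haH⟩ : ↥(cH z))⁻¹ := ⟨_, rfl⟩
    have hwv : (w : G) = g⁻¹ * (D.p * a * D.p⁻¹ * a⁻¹) * g := by
      rw [hw]
      show g⁻¹ * D.p * g * (g⁻¹ * a * g) * (g⁻¹ * D.p * g)⁻¹ * (g⁻¹ * a * g)⁻¹ = _
      group
    obtain ⟨e', he', q', hq', hw'⟩ := (D.φ_eq w).1 (by
      rw [hw, map_mul, map_mul, map_mul, map_inv, map_inv, hyφ]; group)
    rw [← hwv, hw']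
    refine cE_of_pow_four14 D he' hq' ?_
    have h4 : (D.p * a * D.p⁻¹ * a⁻¹) ^ 4 = 1 := by
      rcases sq_or D.hJ ⟨_, hdE⟩ with h | h <;>
        rw [show (4 : ℕ) = 2 * 2 from rfl, pow_mul, pow_two (D.p * a * D.p⁻¹ * a⁻¹)] <;>
        rw [show D.p * a * D.p⁻¹ * a⁻¹ * (D.p * a * D.p⁻¹ * a⁻¹) = _ from h]
      · exact one_pow 2
      · rw [pow_two, z_sq D.hJ]
    rw [← hw', hwv]
    conv_lhs => arg 1; arg 2; rw [← inv_inv g]
    rw [conj_pow, h4]; group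
  rcases comm_or D.hJ ⟨_, key a₁ ha₁ hc₁⟩ ⟨_, key a₂ ha₂ hc₂⟩ with h | h
  all_goals
    have h' := ((congrArg (fun x => g⁻¹ * x * g) hz').symm.trans (by group)).trans h
  · exact z_ne D.hJ (by
      calc z = g * (g⁻¹ * z * g) * g⁻¹ := by group
        _ = 1 := by rw [h']; group)
  · exact hne (by conv_rhs => rw [← show g * (g⁻¹ * z * g) * g⁻¹ = z by group, h'])

/-- An element of odd order of the centralizer lies in `E * C`. -/
theorem inner14_odd (D : HData z P) {h : G} (hh : h ∈ cH z) {n : ℕ} (hn : Odd n) (hpow : h ^ n = 1) :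
    D.Inner14 h := by
  have h2 : D.Inner14 (h * h) := by
    by_cases hi : D.Inner14 h
    · exact D.inner14_mul hi hi
    · exact inner14_mul_not D hh hh hi hi
  obtain ⟨k, rfl⟩ := hn
  have e : h = (h * h) ^ (k + 1) := by
    rw [← pow_two, ← pow_mul, show 2 * (k + 1) = 2 * k + 1 + 1 by ring, pow_succ, hpow, one_mul]
  rw [e]
  clear e hpow
  induction k + 1 with
  | zero => rw [pow_zero]; exact D.inner14_cE (one_mem _)
  | succ m ih => rw [pow_succ]; exact D.inner14_mul ih h2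

/-- The image of `z` under such a conjugation lies in `E * C`. -/
theorem inner14_sig_z (D : HData z P) {g : G} (hC : g * z * g⁻¹ ∈ cC z P) (hne : g * z * g⁻¹ ≠ z) :
    D.Inner14 (g⁻¹ * z * g) := by
  obtain ⟨hπ, h2⟩ := π_ne_of_hne14 D hC hne
  obtain ⟨a₁, -, a₂, -, hc₁, hc₂, hz'⟩ := exists_comm14 D h2 hπ
  have hcp : Commute (g * z * g⁻¹) D.p := (show Commute D.p (g * z * g⁻¹) from D.comm_p ⟨_, hC⟩).symm
  have key : ∀ a, Commute (g * z * g⁻¹) a → g⁻¹ * (D.p * a * D.p⁻¹ * a⁻¹) * g ∈ cH z := fun a hca =>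
    sig_mem_cH14 (((hcp.mul_right hca).mul_right hcp.inv_right).mul_right hca.inv_right).symm
  have := inner14_commutator D (key a₁ hc₁) (key a₂ hc₂)
  rwa [show g⁻¹ * (D.p * a₁ * D.p⁻¹ * a₁⁻¹) * g * (g⁻¹ * (D.p * a₂ * D.p⁻¹ * a₂⁻¹) * g) *
      (g⁻¹ * (D.p * a₁ * D.p⁻¹ * a₁⁻¹) * g)⁻¹ * (g⁻¹ * (D.p * a₂ * D.p⁻¹ * a₂⁻¹) * g)⁻¹ =
    g⁻¹ * z * g from Eq.trans (by group) (congrArg (fun x => g⁻¹ * x * g) hz')] at this

/-- An element of odd order centralizing `P` and `g z g⁻¹` and inverted by `z` is trivial. -/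
theorem inverted_eq_one14 (D : HData z P) (Th : Three M22t) {g : G} (hC : g * z * g⁻¹ ∈ cC z P)
    (hne : g * z * g⁻¹ ≠ z) {s : G} (hsP : s ∈ Subgroup.centralizer (P : Set G))
    (hsu : Commute s (g * z * g⁻¹)) (hsz : z * s * z = s⁻¹) {n : ℕ} (hn : Odd n) (hpow : s ^ n = 1) : s = 1 := by
  have hzi : z⁻¹ = z := inv_eq_of_mul_eq_one_right (z_sq D.hJ)
  have hs'H : g⁻¹ * s * g ∈ cH z := sig_mem_cH14 hsu
  have hu'H : g⁻¹ * z * g ∈ cH z := inv_conj_mem_cH hC.1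
  have hyH : g⁻¹ * D.p * g ∈ cH z := sig_mem_cH14 (D.comm_p ⟨_, hC⟩)
  obtain ⟨S, hS⟩ : ∃ S : ↥(cH z), S = ⟨_, hs'H⟩ := ⟨_, rfl⟩
  obtain ⟨U, hU⟩ : ∃ U : ↥(cH z), U = ⟨_, hu'H⟩ := ⟨_, rfl⟩
  obtain ⟨Y, hY⟩ : ∃ Y : ↥(cH z), Y = ⟨_, hyH⟩ := ⟨_, rfl⟩
  have hpowc : ∀ (x : G) (k : ℕ), (g⁻¹ * x * g) ^ k = g⁻¹ * x ^ k * g := fun x k => by
    conv_lhs => arg 1; arg 2; rw [← inv_inv g]
    rw [conj_pow, inv_inv]
  have hS' : (g⁻¹ * s * g) ^ n = 1 := by rw [hpowc, hpow]; group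
  have hY' : (g⁻¹ * D.p * g) ^ 3 = 1 := by rw [hpowc, D.p3]; group
  have hUS : U * S * U⁻¹ = S⁻¹ := Subtype.ext (by
    rw [hU, hS]
    show g⁻¹ * z * g * (g⁻¹ * s * g) * (g⁻¹ * z * g)⁻¹ = (g⁻¹ * s * g)⁻¹
    rw [show g⁻¹ * z * g * (g⁻¹ * s * g) * (g⁻¹ * z * g)⁻¹ = g⁻¹ * (z * s * z⁻¹) * g by group, hzi, hsz]
    group)
  have hsig : ∀ x : G, Commute x D.p → Commute (g⁻¹ * x * g) (g⁻¹ * D.p * g) := fun x hx => by
    have := hx.map (MulAut.conj g⁻¹).toMonoidHom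
    simpa using this
  have hSY : Commute S Y := Subtype.ext (by
    rw [hS, hY]; exact (hsig s (comm_P14 D hsP D.p_mem)).eq)
  have hUY : Commute U Y := Subtype.ext (by
    rw [hU, hY]; exact (hsig z (D.comm_z D.pC)).eq)
  obtain ⟨ms, hms⟩ : D.φ S ∈ Inn M22t := (D.inner14_iff S).1 (by rw [hS]; exact inner14_odd D hs'H hn hS')
  obtain ⟨mu, hmu⟩ : D.φ U ∈ Inn M22t := (D.inner14_iff U).1 (by rw [hU]; exact inner14_sig_z D hC hne)
  obtain ⟨my, hmy⟩ : D.φ Y ∈ Inn M22t :=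
    (D.inner14_iff Y).1 (by rw [hY]; exact inner14_odd D hyH (by decide : Odd 3) hY')
  have hinj := m22_conj_injective
  have hmy3 : orderOf my = 3 := by
    refine orderOf_eq_prime (hp := ⟨Nat.prime_three⟩) (hinj ?_) fun h => ?_
    · rw [map_pow, hmy, ← map_pow, show Y ^ 3 = 1 from Subtype.ext (by rw [hY]; exact hY'), map_one, map_one]
    · rw [h, map_one] at hmy
      obtain ⟨e, he, q, hq, hy⟩ := (D.φ_eq Y).1 hmy.symm
      exact not_core_p D hC hne ⟨e, he, q, hq, by rw [← hy, hY]⟩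
  have hms1 : ms = 1 := by
    refine three_odd14 Th hmy3 (hinj ?_) (hinj ?_) (u := mu) (hinj ?_) (hinj ?_) hn (hinj ?_)
    · rw [map_mul, map_mul, hms, hmy, ← map_mul, ← map_mul, hSY.eq]
    · rw [map_mul, map_mul, hmu, hmy, ← map_mul, ← map_mul, hUY.eq]
    · rw [map_mul, hmu, ← map_mul, map_one, ← map_one D.φ]
      congr 1
      rw [hU]
      exact Subtype.ext (by
        show g⁻¹ * z * g * (g⁻¹ * z * g) = 1
        rw [show g⁻¹ * z * g * (g⁻¹ * z * g) = g⁻¹ * (z * z) * g by group, z_sq D.hJ]; group)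
    · rw [map_mul, map_mul, map_inv, map_inv, hms, hmu, ← map_inv, ← map_inv, ← map_mul, ← map_mul, hUS]
    · rw [map_pow, hms, ← map_pow, show S ^ n = 1 from Subtype.ext (by rw [hS]; exact hS'), map_one, map_one]
  rw [hms1, map_one] at hms
  obtain ⟨e, he, q, hq, hsq⟩ := (D.φ_eq S).1 hms.symm
  obtain ⟨eu, heu, cu, hcu, hu⟩ : D.Inner14 (g⁻¹ * z * g) := inner14_sig_z D hC hne
  have hqH := P_le_cH14 D hq
  have hq1 : q = 1 := by
    have hqq : q * q ∈ cE z := by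
      have h1 : (U : G) * (e * q) * (U : G)⁻¹ = (e * q)⁻¹ := by rw [← hsq]; exact congrArg Subtype.val hUS
      have hUv : (U : G) = g⁻¹ * z * g := by rw [hU]
      have h2 : (U : G) * q * (U : G)⁻¹ = eu * (q * eu⁻¹ * q⁻¹) * q := by
        rw [hUv, hu, show eu * cu * q * (eu * cu)⁻¹ = eu * (cu * q * cu⁻¹) * eu⁻¹ by group,
          (comm_P14 D hcu.2 hq).eq, mul_inv_cancel_right]
        group
      have h3 : (1 : G) =
          e * (q * ((U : G) * e * (U : G)⁻¹ * (eu * (q * eu⁻¹ * q⁻¹))) * q⁻¹) * (q * q) := by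
        calc (1 : G) = e * q * ((U : G) * (e * q) * (U : G)⁻¹) := by rw [h1, mul_inv_cancel]
          _ = e * q * ((U : G) * e * (U : G)⁻¹ * ((U : G) * q * (U : G)⁻¹)) := by group
          _ = _ := by rw [h2]; group
      rw [← inv_eq_of_mul_eq_one_right h3.symm]
      exact inv_mem (mul_mem he (cE_conj hqH (mul_mem (cE_conj U.2 he)
        (mul_mem heu (cE_conj hqH (inv_mem heu))))))
    have h3 := P_cube14 D hq
    have := eq_one_of_odd_cE14 D hqq (by decide : Odd 3) (by rw [← pow_two, ← pow_mul, mul_comm, pow_mul, h3, one_pow])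
    exact eq_one_of_sq14 this h3 (by decide)
  have hE : g⁻¹ * s * g ∈ cE z := by
    have : (S : G) = g⁻¹ * s * g := by rw [hS]
    rw [← this, hsq, hq1, mul_one]; exact he
  have hone := eq_one_of_odd_cE14 D hE hn hS'
  calc s = g * (g⁻¹ * s * g) * g⁻¹ := by group
    _ = 1 := by rw [hone]; group

/-- The normalizer of `P` centralizes `z`. -/
theorem normalizer_le (D : HData z P) (Th : Three M22t) (hmain : ∃ g, g * z * g⁻¹ ∈ cC z P ∧ g * z * g⁻¹ ≠ z)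
    (hperf : ⁅cC z P, cC z P⁆ = cC z P) : Subgroup.normalizer (P : Set G) ≤ cH z := by
  classical
  obtain ⟨g, hC, hne⟩ := hmain
  obtain ⟨hπ, h2⟩ := π_ne_of_hne14 D hC hne
  obtain ⟨t, ht⟩ : ∃ t, t = g * z * g⁻¹ := ⟨_, rfl⟩
  have hzz := z_sq D.hJ
  have hzi : z⁻¹ = z := inv_eq_of_mul_eq_one_right hzz
  have htt : t * t = 1 := by rw [ht, ← pow_two, conj_pow, pow_two, hzz, mul_one, mul_inv_cancel]
  have hti : t⁻¹ = t := inv_eq_of_mul_eq_one_right htt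
  have htC : t ∈ cC z P := ht ▸ hC
  obtain ⟨K, hK⟩ : ∃ K, K = Subgroup.centralizer (P : Set G) := ⟨_, rfl⟩
  have hCK : cC z P ≤ K := hK ▸ inf_le_right
  have hzK : z ∈ K := hCK D.z_mem_C
  have htK : t ∈ K := hCK htC
  have hiso : IsIsolatedInvolution (⟨z, hzK⟩ : ↥K) := by
    refine ⟨by rw [Subgroup.orderOf_mk]; exact hz D.hJ, fun k hk => ?_⟩
    by_contra hne'
    have hw : (k : G) * z * (k : G)⁻¹ ∈ cC z P :=
      ⟨Subgroup.mem_centralizer_singleton_iff.2 (congrArg Subtype.val hk.eq).symm,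
        (le_of_eq hK : K ≤ Subgroup.centralizer (P : Set G)) (mul_mem (mul_mem k.2 hzK) (inv_mem k.2))⟩
    refine not_core_p D hw (fun h => hne' (Subtype.ext h)) ⟨1, one_mem _, D.p, D.p_mem, ?_⟩
    rw [one_mul, mul_assoc, ← (comm_P14 D (hK ▸ k.2) D.p_mem).eq, inv_mul_cancel_left]
  have hZ := ZStar.zStar ↥K ⟨z, hzK⟩ hiso
  obtain ⟨O, hO⟩ : ∃ O, O = (oddCore ↥K).map K.subtype := ⟨_, rfl⟩
  obtain ⟨n, hn, hpow⟩ : ∃ n, Odd n ∧ ∀ x ∈ O, x ^ n = 1 := by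
    refine ⟨Nat.card ↥(oddCore ↥K), Nat.coprime_two_right.1 PSolvable.pPrimeCore_coprime, fun x hx => ?_⟩
    rw [hO] at hx
    obtain ⟨x', hx', rfl⟩ := hx
    have h0 : (⟨x', hx'⟩ : ↥(oddCore ↥K)) ^ Nat.card ↥(oddCore ↥K) = 1 := pow_card_eq_one'
    exact congrArg (fun w : ↥(oddCore ↥K) => ((w : ↥K) : G)) h0
  have hOK : O ≤ K := hO ▸ Subgroup.map_subtype_le _
  have hOn : ∀ k ∈ K, ∀ x ∈ O, k * x * k⁻¹ ∈ O := by
    intro k hk x hx
    rw [hO] at hx ⊢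
    obtain ⟨x', hx', rfl⟩ := hx
    exact ⟨⟨k, hk⟩ * x' * ⟨k, hk⟩⁻¹, (pPrimeCore_normal 2 ↥K).conj_mem _ hx' _, rfl⟩
  obtain ⟨F⟩ := exists_mFacts
  have := F.simple
  have hOH : ∀ x ∈ O, Commute x z → x ∈ P := by
    intro x hx hxz
    have hxC : x ∈ cC z P := ⟨Subgroup.mem_centralizer_singleton_iff.2 hxz.eq, hK ▸ hOK hx⟩
    have hnorm : (O.subgroupOf (cC z P)).Normal := ⟨fun a ha c => hOn c (hCK c.2) a ha⟩
    have hbot : (O.subgroupOf (cC z P)).map D.π = ⊥ := by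
      refine (hnorm.map D.π D.πsurj).eq_bot_or_eq_top.resolve_right fun h => hπ ?_
      obtain ⟨w, hw, hw'⟩ := h.ge (Subgroup.mem_top (D.π ⟨_, hC⟩))
      refine eq_one_of_sq14 (by rw [← map_mul, h2, map_one]) ?_ hn
      rw [← hw', ← map_pow, show w ^ n = 1 from Subtype.ext (hpow _ hw), map_one]
    have hπx : D.π ⟨x, hxC⟩ = 1 := Subgroup.mem_bot.1 (hbot ▸ Subgroup.mem_map_of_mem _ (by exact hx))
    obtain ⟨j, h | h⟩ := (D.ker_iff _).1 hπx
    · exact (show x = D.p ^ j from h) ▸ pow_mem D.p_mem j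
    · exfalso
      have h' : x = z * D.p ^ j := h
      have he := hpow x hx
      rw [h', (show Commute z (D.p ^ j) from Commute.pow_right (D.comm_z D.pC) j).mul_pow] at he
      obtain ⟨m, rfl⟩ := hn
      rw [pow_succ z, pow_mul z, pow_two z, hzz, one_pow, one_mul, ← pow_mul] at he
      have hz3 : z ^ 3 = 1 := by
        rw [eq_inv_of_mul_eq_one_left he, inv_pow, ← pow_mul, mul_comm, pow_mul, D.p3, one_pow, inv_one]
      exact z_ne D.hJ (eq_one_of_sq14 hzz hz3 (by decide))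
  have hzO : ∀ x ∈ O, z * x * z ∈ O := fun x hx => by
    have := hOn z hzK x hx; rwa [hzi] at this
  have htO : ∀ x ∈ O, t * x * t ∈ O := fun x hx => by
    have := hOn t htK x hx; rwa [hti] at this
  have hzt : Commute z t := D.comm_z ⟨t, htC⟩
  have hfix : ∀ x ∈ O, t * x * t = x → x ∈ P := by
    intro x hx hxt
    refine hOH x hx ?_
    have hmem : ∀ y ∈ O, t * y * t = y → y ∈ O ⊓ Subgroup.centralizer {t} := fun y hy hy' =>
      ⟨hy, Subgroup.mem_centralizer_singleton_iff.2 (by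
        nth_rw 1 [← hy']; rw [mul_assoc, htt, mul_one])⟩
    have hinv : ∀ y ∈ O ⊓ Subgroup.centralizer {t}, z * y * z ∈ O ⊓ Subgroup.centralizer {t} := fun y hy =>
      ⟨hzO y hy.1, mul_mem (mul_mem (Subgroup.mem_centralizer_singleton_iff.2 hzt.eq) hy.2)
        (Subgroup.mem_centralizer_singleton_iff.2 hzt.eq)⟩
    obtain ⟨b, hb, c, hc, hbc, hbi, hci⟩ :=
      split14 (O ⊓ Subgroup.centralizer {t}) hn (fun y hy => hpow y hy.1) hzz hinv (hmem x hx hxt)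
    have hb1 : b = 1 := inverted_eq_one14 D Th hC hne (hK ▸ hOK hb.1)
      (ht ▸ Subgroup.mem_centralizer_singleton_iff.1 hb.2) hbi hn (hpow b hb.1)
    rw [hbc, hb1, one_mul]
    show c * z = z * c
    nth_rw 1 [← hci]
    rw [mul_assoc, hzz, mul_one]
  -- both involutions invert modulo `P`
  have hcen : ∀ μ ∈ P, ∀ k ∈ K, Commute μ k := fun μ hμ k hk => (comm_P14 D (hK ▸ hk) hμ).symm
  have hmod : ∀ v, v * v = 1 → (∀ x ∈ O, v * x * v ∈ O) → (∀ x ∈ O, v * x * v = x → x ∈ P) →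
      ∀ x ∈ O, ∃ μ ∈ P, v * x * v = x⁻¹ * μ := by
    intro v hv hvO hvf x hx
    obtain ⟨b, hb, c, hc, rfl, hbi, hci⟩ := split14 O hn hpow hv hvO hx
    have hcP := hvf c hc hci
    refine ⟨c * c, mul_mem hcP hcP, ?_⟩
    calc v * (b * c) * v = v * b * v * (v * c * v) := by simp [mul_assoc, ← mul_assoc v v, hv]
      _ = b⁻¹ * c := by rw [hbi, hci]
      _ = c⁻¹ * (b⁻¹ * c) * c := by
          rw [show c⁻¹ * (b⁻¹ * c) * c = (c⁻¹ * b⁻¹) * (c * c) by group,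
            (hcen c hcP b⁻¹ (inv_mem (hOK hb))).inv_left.eq]; group
      _ = (b * c)⁻¹ * (c * c) := by group
  have hzf : ∀ x ∈ O, z * x * z = x → x ∈ P := fun x hx h => hOH x hx (by
    show x * z = z * x
    nth_rw 1 [← h]
    rw [mul_assoc, hzz, mul_one])
  have hcent : ∀ x ∈ O, Commute (z * t) x := by
    intro x hx
    obtain ⟨v, hv⟩ : ∃ v, v = z * t := ⟨_, rfl⟩
    have hvv : v * v = 1 := by rw [hv, hzt.symm.mul_mul_mul_comm, hzz, htt, one_mul]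
    have hvi : v⁻¹ = v := inv_eq_of_mul_eq_one_right hvv
    have hv' : ∀ y ∈ O, ∃ ν ∈ P, v * y * v⁻¹ = y * ν := by
      intro y hy
      obtain ⟨μ₂, hμ₂, h₂⟩ := hmod t htt htO hfix y hy
      obtain ⟨μ₁, hμ₁, h₁⟩ := hmod z hzz hzO hzf y⁻¹ (inv_mem hy)
      refine ⟨μ₁ * μ₂, mul_mem hμ₁ hμ₂, ?_⟩
      calc v * y * v⁻¹ = z * (t * y * t) * z := by rw [hv, mul_inv_rev, hzi, hti]; group
        _ = z * y⁻¹ * z * (z * μ₂ * z) := by rw [h₂]; simp [mul_assoc, ← mul_assoc z z, hzz]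
        _ = y * μ₁ * μ₂ := by
            rw [h₁, inv_inv, ← (hcen μ₂ hμ₂ z hzK).eq, mul_assoc μ₂, hzz, mul_one]
        _ = _ := mul_assoc _ _ _
    obtain ⟨ν, hν, h₁⟩ := hv' x hx
    have hνv : v * ν * v⁻¹ = ν := by
      rw [← (hcen ν hν v (hv ▸ mul_mem hzK htK)).eq, mul_inv_cancel_right]
    have h3 : x = x * (ν * ν) := by
      calc x = v * (v * x * v⁻¹) * v⁻¹ := by rw [hvi]; simp [mul_assoc, ← mul_assoc v v, hvv]
        _ = v * (x * ν) * v⁻¹ := by rw [h₁]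
        _ = v * x * v⁻¹ * (v * ν * v⁻¹) := by group
        _ = _ := by rw [h₁, hνv, mul_assoc]
    rw [eq_one_of_sq14 (left_eq_mul.1 h3) (P_cube14 D hν) (by decide), mul_one, mul_inv_eq_iff_eq_mul] at h₁
    rw [← hv]
    exact h₁
  -- perfectness gives that `C` centralizes the core
  have hCO : cC z P ≤ Subgroup.centralizer (O : Set G) := by
    obtain ⟨N, hN⟩ : ∃ N, N = (Subgroup.centralizer (O : Set G)).subgroupOf (cC z P) := ⟨_, rfl⟩
    have hNn : N.Normal := ⟨fun a ha c => by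
      rw [hN, Subgroup.mem_subgroupOf, Subgroup.mem_centralizer_iff] at ha ⊢
      intro x hx
      have h' := ha _ (hOn _ (inv_mem (hCK c.2)) x hx)
      show x * ((c : G) * a * (c : G)⁻¹) = (c : G) * a * (c : G)⁻¹ * x
      calc x * ((c : G) * a * (c : G)⁻¹) = (c : G) * ((c : G)⁻¹ * x * (c : G)⁻¹⁻¹ * a) * (c : G)⁻¹ := by group
        _ = _ := by rw [h']; group⟩
    have htop : N.map D.π = ⊤ := by
      refine (hNn.map D.π D.πsurj).eq_bot_or_eq_top.resolve_left fun h => hπ ?_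
      have hm : (⟨z, D.z_mem_C⟩ * ⟨_, hC⟩ : ↥(cC z P)) ∈ N := by
        rw [hN, Subgroup.mem_subgroupOf, Subgroup.mem_centralizer_iff]
        intro x hx
        have := (hcent x hx).eq
        rw [ht] at this
        exact this.symm
      have := Subgroup.mem_bot.1 (h ▸ Subgroup.mem_map_of_mem D.π hm)
      rwa [map_mul, (D.ker_iff ⟨z, D.z_mem_C⟩).2 ⟨0, Or.inr (by simp)⟩, one_mul] at this
    rw [← hperf, Subgroup.commutator_le]
    intro a ha b hb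
    obtain ⟨a', ha', ea⟩ := htop.ge (Subgroup.mem_top (D.π ⟨a, ha⟩))
    obtain ⟨b', hb', eb⟩ := htop.ge (Subgroup.mem_top (D.π ⟨b, hb⟩))
    obtain ⟨k, hk⟩ : ∃ k, k = a'⁻¹ * ⟨a, ha⟩ := ⟨_, rfl⟩
    obtain ⟨l, hl⟩ : ∃ l, l = b'⁻¹ * ⟨b, hb⟩ := ⟨_, rfl⟩
    have hkc : ∀ x, Commute k x := D.toJMod.ker_comm k (by
      show D.π k = 1
      rw [hk, map_mul, map_inv, ea, inv_mul_cancel])
    have hlc : ∀ x, Commute l x := D.toJMod.ker_comm l (by
      show D.π l = 1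
      rw [hl, map_mul, map_inv, eb, inv_mul_cancel])
    have e : (⟨a, ha⟩ * ⟨b, hb⟩ * ⟨a, ha⟩⁻¹ * ⟨b, hb⟩⁻¹ : ↥(cC z P)) = a' * b' * a'⁻¹ * b'⁻¹ := by
      rw [show (⟨a, ha⟩ : ↥(cC z P)) = k * a' by rw [(hkc a').eq, hk, mul_inv_cancel_left],
        show (⟨b, hb⟩ : ↥(cC z P)) = l * b' by rw [(hlc b').eq, hl, mul_inv_cancel_left]]
      calc k * a' * (l * b') * (k * a')⁻¹ * (l * b')⁻¹
          = k * (a' * l) * (b' * a'⁻¹) * k⁻¹ * b'⁻¹ * l⁻¹ := by group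
        _ = k * (l * (a' * b' * a'⁻¹)) * k⁻¹ * (b'⁻¹ * l⁻¹) := by rw [← (hlc a').eq]; group
        _ = l * (a' * b' * a'⁻¹) * (b'⁻¹ * l⁻¹) := by rw [(hkc _).eq, mul_inv_cancel_right]
        _ = l * (a' * b' * a'⁻¹ * b'⁻¹) * l⁻¹ := by group
        _ = _ := by rw [(hlc _).eq, mul_inv_cancel_right]
    have hm : (⟨a, ha⟩ * ⟨b, hb⟩ * ⟨a, ha⟩⁻¹ * ⟨b, hb⟩⁻¹ : ↥(cC z P)) ∈ N := by
      rw [e]; exact mul_mem (mul_mem (mul_mem ha' hb') (inv_mem ha')) (inv_mem hb')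
    rw [hN, Subgroup.mem_subgroupOf] at hm
    exact hm
  have hOP : ∀ x ∈ O, x ∈ P := fun x hx =>
    hOH x hx (Subgroup.mem_centralizer_iff.1 (hCO D.z_mem_C) x hx)
  have hKH : ∀ k ∈ K, Commute k z := by
    intro k hk
    obtain ⟨ν, hν⟩ : ∃ ν, ν = z * k * z⁻¹ * k⁻¹ := ⟨_, rfl⟩
    have hνP : ν ∈ P := by
      refine hOP ν ?_
      rw [hO, hν]
      exact ⟨_, hZ ⟨k, hk⟩, rfl⟩
    have h1 : z * k * z⁻¹ = ν * k := by rw [hν, inv_mul_cancel_right]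
    have hνz : z * ν * z⁻¹ = ν := by rw [← (hcen ν hνP z hzK).eq, mul_inv_cancel_right]
    have h3 : k = ν * ν * k := by
      calc k = z * (z * k * z⁻¹) * z⁻¹ := by rw [hzi]; simp [mul_assoc, ← mul_assoc z z, hzz]
        _ = z * (ν * k) * z⁻¹ := by rw [h1]
        _ = z * ν * z⁻¹ * (z * k * z⁻¹) := by group
        _ = _ := by rw [hνz, h1, ← mul_assoc]
    rw [eq_one_of_sq14 (right_eq_mul.1 h3) (P_cube14 D hνP) (by decide), one_mul, mul_inv_eq_iff_eq_mul] at h1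
    exact h1.symm
  intro m hm
  obtain ⟨w, hw⟩ : ∃ w, w = m * z * m⁻¹ := ⟨_, rfl⟩
  have hmK : ∀ k ∈ K, m⁻¹ * k * m ∈ K := by
    intro k hk
    rw [hK] at hk ⊢
    refine Subgroup.mem_centralizer_iff.2 fun x hx => ?_
    have hx' : m * x * m⁻¹ ∈ P := (Subgroup.mem_normalizer_iff.1 hm x).1 hx
    have := (comm_P14 D hk hx').eq
    calc x * (m⁻¹ * k * m) = m⁻¹ * (m * x * m⁻¹ * k) * m := by group
      _ = m⁻¹ * (k * (m * x * m⁻¹)) * m := by rw [this]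
      _ = _ := by group
  have hwK : ∀ k ∈ K, Commute k w := fun k hk => by
    have := (hKH _ (hmK k hk)).map (MulAut.conj m).toMonoidHom
    simpa [hw, mul_assoc] using this
  have hwC : w ∈ cC z P := by
    refine ⟨Subgroup.mem_centralizer_singleton_iff.2 (hwK z hzK).eq.symm,
      Subgroup.mem_centralizer_iff.2 fun x hx => (hwK x ?_).eq⟩
    rw [hK]
    refine Subgroup.mem_centralizer_iff.2 fun y hy => ?_
    rcases (D.mem_P x).1 hx with rfl | rfl | rfl <;> rcases (D.mem_P y).1 hy with rfl | rfl | rfl <;>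
      simp [mul_assoc]
  have hw2 : (⟨w, hwC⟩ : ↥(cC z P)) * ⟨w, hwC⟩ = 1 := Subtype.ext (by
    show w * w = 1
    rw [hw, ← pow_two, conj_pow, pow_two, hzz, mul_one, mul_inv_cancel])
  have hπw : D.π ⟨w, hwC⟩ = 1 := by
    apply m22_conj_injective
    refine MulEquiv.ext fun y => ?_
    obtain ⟨c, rfl⟩ := D.πsurj y
    rw [map_one, MulAut.one_apply, MulAut.conj_apply, ← map_mul, ← map_inv, ← map_mul]
    congr 1
    exact Subtype.ext (by
      show w * (c : G) * w⁻¹ = c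
      rw [← (hwK c (hCK c.2)).eq, mul_inv_cancel_right])
  refine Subgroup.mem_centralizer_singleton_iff.2 ?_
  rcases D.ker_two hπw hw2 with h | h
  · exact absurd (conj_eq_one_iff.1 (show m * z * m⁻¹ = 1 from hw ▸ h)) (z_ne D.hJ)
  · exact mul_inv_eq_iff_eq_mul.1 (show m * z * m⁻¹ = z from hw ▸ h)

end Cfsg.Agent.Lib.J4Fusion14
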