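import Cfsg.Agent.Lib.J4Fusion14.FrameBase

/-!
# Existence of the frame, and the classes seen in it
-/

set_option autoImplicit false

namespace Cfsg.Agent.Lib.J4Fusion14

open Cfsg Cfsg.Agent.Lib.J4Type19

attribute [local instance] m22_finite

variable {G : Type*} [Group G] [Finite G] {z : G} {P : Subgroup G}

theorem frame_c1 {M : Type*} [Group M] (F : MFacts M) : F.c ≠ 1 := by
  intro hc
  have := F.simple
  have : Finite M := Nat.finite_of_card_ne_zero (by rw [F.card]; norm_num)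
  have hN : F.U2.Normal := by
    rw [← Subgroup.normalizer_eq_top_iff, ← top_le_iff, ← F.gen, Subgroup.closure_le]
    intro g hg
    refine Subgroup.mem_normalizer_iff.2 fun x => ?_
    have hfwd : ∀ y ∈ F.U2, g * y * g⁻¹ ∈ F.U2 := by
      rcases hg with rfl | rfl | rfl
      · exact F.hn₁
      · exact F.hn₂
      · intro y hy; rw [hc]; simpa using hy
    refine ⟨hfwd x, fun h => ?_⟩
    have e : Set.MapsTo (fun y => g * y * g⁻¹) (F.U2 : Set M) F.U2 := fun y hy => hfwd y hy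
    obtain ⟨y, hy, hyx⟩ := ((Set.toFinite _).injOn_iff_bijOn_of_mapsTo e).1
      (fun a _ b _ hab => mul_left_cancel (mul_right_cancel hab)) |>.surjOn h
    exact (mul_left_cancel (mul_right_cancel hyx) : y = x) ▸ hy
  rcases hN.eq_bot_or_eq_top with h | h
  · have := F.card2; rw [h, Subgroup.card_bot] at this; omega
  · have := F.card2; rw [h, Subgroup.card_top, F.card] at this; omega

variable (D : HData z P)

/-- A good subgroup normalised by `a` containing the four-group centralising it. -/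
theorem exists_good {F : MFacts M22t} (L : Lifts D.toJMod F) (Th : Three M22t) :
    ∃ U : Subgroup M22t, D.toJMod.Good U ∧ (∀ u ∈ U, Th.a * u * Th.a⁻¹ ∈ U) ∧ Th.t ∈ U ∧ Th.t₁ ∈ U := by
  classical
  obtain ⟨g, hg⟩ := isConj_iff.1 (Th.isConj F.c (three_ne F.c3 (frame_c1 F))).symm
  obtain ⟨g, rfl⟩ := D.πsurj g
  obtain ⟨U, hU⟩ : ∃ U, U = F.U0.map (MulAut.conj (D.π g)).toMonoidHom := ⟨_, rfl⟩
  have hmem : ∀ u, u ∈ U ↔ ∃ v ∈ F.U0, D.π g * v * (D.π g)⁻¹ = u := fun u => by rw [hU]; rfl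
  have hgood : D.toJMod.Good U := hU ▸ D.toJMod.good_map L (D.toJMod.good_U0 L) g
  have hn : ∀ u ∈ U, Th.a * u * Th.a⁻¹ ∈ U := by
    intro u hu
    obtain ⟨v, hv, rfl⟩ := (hmem u).1 hu
    refine (hmem _).2 ⟨F.c * v * F.c⁻¹, F.nc v hv, ?_⟩
    rw [← hg]; group
  refine ⟨U, hgood, hn, ?_⟩
  let σ : Equiv.Perm ↥U :=
    { toFun := fun u => ⟨Th.a * u * Th.a⁻¹, hn _ u.2⟩
      invFun := fun u => ⟨Th.a * (Th.a * u * Th.a⁻¹) * Th.a⁻¹, hn _ (hn _ u.2)⟩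
      left_inv := fun u => Subtype.ext (by
        show Th.a * (Th.a * (Th.a * (u : M22t) * Th.a⁻¹) * Th.a⁻¹) * Th.a⁻¹ = u
        rw [show Th.a * (Th.a * (Th.a * (u : M22t) * Th.a⁻¹) * Th.a⁻¹) * Th.a⁻¹ =
          Th.a ^ 3 * u * (Th.a ^ 3)⁻¹ by simp [pow_succ, mul_assoc], Th.a3]
        group)
      right_inv := fun u => Subtype.ext (by
        show Th.a * (Th.a * (Th.a * (u : M22t) * Th.a⁻¹) * Th.a⁻¹) * Th.a⁻¹ = u
        rw [show Th.a * (Th.a * (Th.a * (u : M22t) * Th.a⁻¹) * Th.a⁻¹) * Th.a⁻¹ =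
          Th.a ^ 3 * u * (Th.a ^ 3)⁻¹ by simp [pow_succ, mul_assoc], Th.a3]
        group) }
  let fσ : Function.End ↥U := ⇑σ
  have hσ : fσ ^ (3 ^ 1) = 1 := by
    funext u
    exact σ.right_inv u
  have hf3 : Fact (Nat.Prime 3) := ⟨Nat.prime_three⟩
  have := Fintype.ofFinite ↥U
  have h16 := Equiv.Perm.card_fixedPoints_modEq hσ
  rw [← Nat.card_eq_fintype_card, hgood.1, ← Nat.card_eq_fintype_card] at h16
  obtain ⟨S, hS⟩ : ∃ S, S = U ⊓ Subgroup.centralizer ({Th.a} : Set M22t) := ⟨_, rfl⟩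
  have hfix : Nat.card ↥(Function.fixedPoints fσ) = Nat.card ↥S := by
    refine Nat.card_congr
      { toFun := fun u => ⟨((u : ↥U) : M22t), hS.ge ⟨(u : ↥U).2, Subgroup.mem_centralizer_singleton_iff.2 ?_⟩⟩
        invFun := fun s => ⟨⟨(s : M22t), (hS.le s.2).1⟩, Subtype.ext ?_⟩
        left_inv := fun _ => rfl
        right_inv := fun _ => rfl }
    · have h : Th.a * ((u : ↥U) : M22t) * Th.a⁻¹ = (u : ↥U) := congrArg Subtype.val u.2
      exact (mul_inv_eq_iff_eq_mul.1 h).symm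
    · show Th.a * (s : M22t) * Th.a⁻¹ = s
      rw [← Subgroup.mem_centralizer_singleton_iff.1 (hS.le s.2).2, mul_inv_cancel_right]
  rw [hfix] at h16
  have hf : D.π g * F.f * (D.π g)⁻¹ ∈ S := by
    refine hS.ge ⟨(hmem _).2 ⟨F.f, F.f0, rfl⟩, Subgroup.mem_centralizer_singleton_iff.2 ?_⟩
    rw [← hg, show D.π g * F.f * (D.π g)⁻¹ * (D.π g * F.c * (D.π g)⁻¹) = D.π g * (F.f * F.c) * (D.π g)⁻¹ by group,
      ← F.cf.eq]
    group
  have hne : Nontrivial ↥S :=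
    ⟨⟨_, hf⟩, 1, fun h => F.f1 (conj_eq_one_iff.1 (congrArg Subtype.val h))⟩
  have h2 : 2 ≤ Nat.card ↥S := Finite.one_lt_card_iff_nontrivial.2 hne
  obtain ⟨s, hs⟩ : ∃ s : Finset M22t, s = {1, Th.t, Th.t₁, Th.t * Th.t₁} := ⟨_, rfl⟩
  have hsub : (S : Set M22t) ⊆ s := by
    intro u hu
    have hu' := hS.le hu
    rw [hs]
    simpa using Th.four u (Subgroup.mem_centralizer_singleton_iff.1 hu'.2) (hgood.2.1 u hu'.1)
  have hcs : Nat.card ↥S = (S : Set M22t).ncard := Nat.card_coe_set_eq _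
  have hs4 : s.card ≤ 4 := hs ▸ Finset.card_le_four
  have h4 : Nat.card ↥S = 4 := by
    have hle : Nat.card ↥S ≤ 4 := by
      have := Set.ncard_le_ncard hsub s.finite_toSet
      rw [Set.ncard_coe_finset] at this
      omega
    have hd : Nat.card ↥S ∣ 16 := hgood.1 ▸ Subgroup.card_dvd_of_le (hS ▸ inf_le_left)
    have h3 : Nat.card ↥S % 3 = 1 := by
      have : 16 % 3 = Nat.card ↥S % 3 := h16
      omega
    omega
  have heq : (S : Set M22t) = s :=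
    Set.eq_of_subset_of_ncard_le hsub (by rw [Set.ncard_coe_finset]; omega) s.finite_toSet
  have hin : ∀ u ∈ s, u ∈ U := fun u hu => (hS.le (show u ∈ (S : Set M22t) from heq ▸ hu)).1
  exact ⟨hin _ (by simp [hs]), hin _ (by simp [hs])⟩

theorem exists_frame (Th : Three M22t) : Nonempty (Frame D) := by
  classical
  have hfV := D.toJMod.finiteV
  obtain ⟨F⟩ := exists_mFacts
  obtain ⟨L⟩ := D.toJMod.exists_lifts F
  obtain ⟨x₀, hπ₀, hx₀, -⟩ := exists_three_lift D L Th (three_ne Th.a3 Th.a1)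
  obtain ⟨w, hπw, hww⟩ := exists_inv_lift D (F := F) Th.tt Th.t1
  have hw4 : w ^ 4 = 1 := by rw [show (4 : ℕ) = 2 * 2 from rfl, pow_mul, pow_two w, hww, one_pow]
  have hx₀w : Commute x₀ w := commute_of_π D hww hx₀ (by rw [hπ₀, hπw]; exact Th.ta.symm)
  obtain ⟨k₀, hk₀, hk4⟩ := parts D.toJMod L hx₀
    (card_eig_three D L Th hx₀ (by rw [hπ₀]; exact Th.a1)) hww
    (show D.π w ≠ 1 by rw [hπw]; exact Th.t1) hx₀w
  obtain ⟨x, hx⟩ : ∃ x, x = D.toJMod.ω ^ (2 * k₀) * x₀ := ⟨_, rfl⟩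
  have hπx : D.π x = Th.a := by
    rw [hx, map_mul, map_pow, show D.π D.toJMod.ω = 1 from D.toJMod.πω, one_pow, one_mul, hπ₀]
  have hωc : ∀ (n : ℕ) (g : ↥(cC z P)), Commute (D.toJMod.ω ^ n) g := fun n g =>
    (D.toJMod.ker_comm _ D.toJMod.πω g).pow_left n
  have hx3 : x ^ 3 = 1 := by
    rw [hx, (hωc _ x₀).mul_pow, hx₀, mul_one, ← pow_mul, mul_comm, pow_mul, D.toJMod.ω3, one_pow]
  have hxw : Commute x w := hx ▸ (hωc _ w).mul_left hx₀w
  have h16 := card_eig_three D L Th hx3 (by rw [hπx]; exact Th.a1)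
  have hpart : ∀ m, part D.toJMod x w m = part D.toJMod x₀ w (m + k₀) := fun m => by
    rw [part, part, hx, eig_ωmul, D.toJMod.eig_congr x₀ (n := m + 2 * (2 * k₀)) (m := m + k₀) (by omega)]
  have hp0 : Nat.card ↥(part D.toJMod x w 0) = 16 := by rw [hpart, zero_add]; exact hk₀
  have hp4 : ∀ m, m % 3 ≠ 0 → Nat.card ↥(part D.toJMod x w m) = 4 := fun m hm => by
    rw [hpart]; exact hk4 _ (by omega)
  have hle0 : D.toJMod.eig x 0 ≤ fixElt w :=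
    (D.toJMod.eq_of_card (S := part D.toJMod x w 0) (T := D.toJMod.eig x 0) inf_le_right
      (by rw [hp0, h16])).ge.trans inf_le_left
  -- the element of order three moving `w`
  have hq1 : Th.q ≠ 1 := fun h => Th.t₁t (by have := Th.qt; rw [h] at this; simpa using this.symm)
  obtain ⟨q, hπq, hq3, -⟩ := exists_three_lift D L Th (three_ne Th.q3 hq1)
  have hqx : ¬ Commute q x := fun h => D.nonab x q hx3 hq3 (by rw [hπx]; exact Th.a1)
    (by rw [hπq]; exact hq1) (by rw [hπq, hπx]; exact Th.qne) (by rw [hπq, hπx]; exact Th.qne') h.symm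
  obtain ⟨f, hf, hfq⟩ := exists_shift D hx3 (by rw [hπq, hπx]; exact Th.qa) hqx
  obtain ⟨w₁, hw₁⟩ : ∃ w₁, w₁ = q * w * q⁻¹ := ⟨_, rfl⟩
  have hπw₁ : D.π w₁ = Th.t₁ := by rw [hw₁, map_mul, map_mul, map_inv, hπq, hπw, Th.qt]
  have hww₁ : w₁ * w₁ = 1 := by
    rw [hw₁, show q * w * q⁻¹ * (q * w * q⁻¹) = q * (w * w) * q⁻¹ by group, hww]; group
  have hw₁4 : w₁ ^ 4 = 1 := hw₁ ▸ D.toJMod.conj_four hw4
  have hxw₁ : Commute x w₁ := commute_of_π D hww₁ hx3 (by rw [hπx, hπw₁]; exact Th.t₁a.symm)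
  have hmove : ∀ m, part D.toJMod x w₁ (m + 2 * f) = moveSub q (part D.toJMod x w m) := fun m => by
    rw [part, part, show D.toJMod.eig x (m + 2 * f) = moveSub q (D.toJMod.eig x m) by
        rw [← eig_conj, hfq, eig_ωmul],
      show fixElt w₁ = moveSub q (fixElt (V := cV z) w) from D.toJMod.fixElt_move
        (show D.π w₁ = D.π q * D.π w * (D.π q)⁻¹ by rw [hw₁, map_mul, map_mul, map_inv]) hw4 hw₁4]
    exact (AddSubgroup.map_inf _ _ _ (MulAction.injective q)).symm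
  have hp₁ : Nat.card ↥(part D.toJMod x w₁ 0) = 4 := by
    rw [part_congr D.toJMod x w₁ (n := 0) (m := f + 2 * f) (by omega), hmove, card_moveSub]
    exact hp4 f hf
  obtain ⟨U, hgood, hnorm, htU, ht₁U⟩ := exists_good D L Th
  have hmem : ∀ (e : ↥(cE z)), mk e ∈ D.toJMod.eig x 0 ↔ Commute (e : G) (x : G) := eig_zero_iff D x
  refine ⟨{ F := F, L := L, Th := Th, x := x, w := w, w₁ := w₁, q := q, πx := hπx, πw := hπw, πw₁ := hπw₁,
            πq := hπq, x3 := hx3, ww := hww, ww₁ := hww₁, q3 := hq3, xw := hxw, xw₁ := hxw₁, qx := hqx,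
            U := U, good := hgood, tU := htU, t₁U := ht₁U
            card_x := ?_, nondeg := ?_, w_fix := ?_, card_w₁ := ?_, w₁_abel := ?_, plane := ?_ }⟩
  · rw [card_cent_pre D (D.toJMod.eig x 0) _ fun e => ?_, h16]
    rw [hmem]
    exact ⟨fun h y hy => by rw [Set.mem_singleton_iff.1 hy]; exact h.symm, fun h => (h _ rfl).symm⟩
  · intro e he hex hall
    have hv : ∀ u ∈ D.toJMod.eig x 0, D.toJMod.β (mk ⟨e, he⟩) u = 0 := by
      intro u hu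
      obtain ⟨d, rfl⟩ := mk_surjective u
      exact pair_eq_zero.2 (Subtype.ext (hall d d.2 ((hmem d).1 hu)).eq)
    have hx0 : x • mk (⟨e, he⟩ : ↥(cE z)) = mk ⟨e, he⟩ :=
      smul_eq_of_commute x ⟨e, he⟩ (show Commute (x : G) e from hex.symm)
    have hk : ∀ k, k % 3 ≠ 0 → ∀ u ∈ D.toJMod.eig x k, D.toJMod.β (mk ⟨e, he⟩) u = 0 := by
      intro k hk u hu
      have h1 : ∀ u' ∈ D.toJMod.eig x k, D.toJMod.β (mk ⟨e, he⟩) (u' + D.toJMod.ω ^ k • u') = 0 := by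
        intro u' hu'
        have h := D.toJMod.inv x (mk ⟨e, he⟩) u'
        rw [hx0, show x • u' = D.toJMod.ω ^ k • u' from hu'] at h
        rw [map_add, h]
        exact (by decide : ∀ r : ZMod 2, r + r = 0) _
      have hu' : D.toJMod.ω ^ k • u ∈ D.toJMod.eig x k :=
        eig_comm_mem D.toJMod (hωc k x).symm k hu
      have h := h1 _ hu'
      rw [D.toJMod.ωpow_add] at h
      suffices hs : D.toJMod.ω ^ k • u + D.toJMod.ω ^ (k + k) • u = u by rwa [hs] at h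
      have h3 := D.toJMod.ω_sum u
      rw [add_assoc, add_eq_zero_iff_eq_neg, D.toJMod.neg_eq] at h3
      rcases (by omega : k % 3 = 1 ∨ k % 3 = 2) with e' | e'
      · rw [D.toJMod.ωpow_congr (n := k) (m := 1) (by omega), D.toJMod.ωpow_congr (n := k + k) (m := 2) (by omega),
          pow_one, pow_two, mul_smul, ← h3]
      · rw [D.toJMod.ωpow_congr (n := k) (m := 2) (by omega), D.toJMod.ωpow_congr (n := k + k) (m := 1) (by omega),
          pow_one, pow_two, mul_smul, add_comm, ← h3]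
    have hperp : mk (⟨e, he⟩ : ↥(cE z)) ∈ perpOf D.toJMod.β ⊤ := fun u _ => by
      rw [← D.toJMod.proj_sum x u, map_add, map_add, hv _ (D.toJMod.proj_mem hx3 0 u),
        hk 1 (by norm_num) _ (D.toJMod.proj_mem hx3 1 u), hk 2 (by norm_num) _ (D.toJMod.proj_mem hx3 2 u),
        add_zero, add_zero]
    have hbot : perpOf D.toJMod.β (⊤ : AddSubgroup (cV z)) = ⊥ := by
      refine AddSubgroup.eq_bot_of_card_eq _ ?_
      have h := D.toJMod.perp ⊤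
      rw [AddSubgroup.card_top, D.toJMod.cardV] at h
      exact (mul_eq_left₀ (by norm_num)).1 h
    rw [hbot, AddSubgroup.mem_bot] at hperp
    exact (mk_eq_zero D.hJ).1 hperp
  · intro e he hex
    exact (fixElt_iff D w ⟨e, he⟩).1 (hle0 ((hmem ⟨e, he⟩).2 hex))
  · rw [card_cent_pre D (part D.toJMod x w₁ 0) _ fun e => ?_, hp₁]
    constructor
    · rintro ⟨h1, h2⟩ y (rfl | rfl)
      · exact ((hmem e).1 h2).symm
      · exact ((fixElt_iff D w₁ e).1 h1).symm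
    · exact fun h => ⟨(fixElt_iff D w₁ e).2 (h _ (by simp)).symm, (hmem e).2 (h _ (by simp)).symm⟩
  · intro e he f' hf' hex hew hfx hfw
    have hm : mk (⟨e, he⟩ : ↥(cE z)) ∈ part D.toJMod x w₁ 0 :=
      ⟨(fixElt_iff D w₁ ⟨e, he⟩).2 hew, (hmem ⟨e, he⟩).2 hex⟩
    obtain ⟨v', -, hv'⟩ := part_image D.toJMod hww₁ hxw₁ (h16 0) hp₁ hm
    have hrng : mk (⟨e, he⟩ : ↥(cE z)) ∈ JMod.rng (V := cV z) w₁ := ⟨v', hv'⟩
    rw [(D.toJMod.perp_fixElt L (c := w₁) (show D.π w₁ * D.π w₁ = 1 by rw [← map_mul, hww₁, map_one])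
      (show D.π w₁ ≠ 1 by rw [hπw₁]; exact Th.t₁_ne) hw₁4).1] at hrng
    have h := hrng _ ((fixElt_iff D w₁ ⟨f', hf'⟩).2 hfw)
    exact congrArg Subtype.val (pair_eq_zero.1 h).eq
  · intro e hex hew
    obtain ⟨T, hT⟩ : ∃ T, T = D.toJMod.fix U := ⟨_, rfl⟩
    have hTw : T ≤ fixElt w := hT ▸ D.toJMod.fix_le_fixElt (show D.π w ∈ U by rw [hπw]; exact htU) hw4
    have hTw₁ : T ≤ fixElt w₁ := hT ▸ D.toJMod.fix_le_fixElt (show D.π w₁ ∈ U by rw [hπw₁]; exact ht₁U) hw₁4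
    have hd := card_decomp D.toJMod hx3 T (fun v hv => hT ▸ D.toJMod.ω_mem_fix (hT ▸ hv)) fun v hv =>
      hT ▸ D.toJMod.fix_invariant (show ∀ u ∈ U, D.π x * u * (D.π x)⁻¹ ∈ U by rw [hπx]; exact hnorm) (hT ▸ hv)
    rw [hT, (D.toJMod.good_fix L hgood).1, ← hT] at hd
    have a0 : Nat.card ↥(T ⊓ D.toJMod.eig x 0) ≤ 4 :=
      hp₁ ▸ AddSubgroup.card_le_of_le (inf_le_inf_right _ hTw₁)
    have a1 : Nat.card ↥(T ⊓ D.toJMod.eig x 1) ≤ 4 :=
      hp4 1 (by norm_num) ▸ AddSubgroup.card_le_of_le (inf_le_inf_right _ hTw)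
    have a2 : Nat.card ↥(T ⊓ D.toJMod.eig x 2) ≤ 4 :=
      hp4 2 (by norm_num) ▸ AddSubgroup.card_le_of_le (inf_le_inf_right _ hTw)
    have b0 : 4 ≤ Nat.card ↥(T ⊓ D.toJMod.eig x 0) := by
      by_contra hlt
      have := Nat.mul_le_mul (show Nat.card ↥(T ⊓ D.toJMod.eig x 0) ≤ 3 by omega) (Nat.mul_le_mul a1 a2)
      omega
    have heq := D.toJMod.eq_of_card (S := T ⊓ D.toJMod.eig x 0) (T := part D.toJMod x w₁ 0)
      (inf_le_inf_right _ hTw₁) (by rw [hp₁]; exact b0)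
    rw [← hT]
    exact (heq.ge ⟨(fixElt_iff D w₁ e).2 hew, (hmem e).2 hex⟩).1

variable {D}

/-- Inner involutions commuting with `x`. -/
theorem classify_x (fr : Frame D) {u : G} (hu : D.Inner14 u) (h2 : u * u = 1) (hx : Commute u (fr.x : G)) :
    ∃ e ∈ cE z, Commute e (fr.x : G) ∧
      (u = e ∨ u = e * fr.w ∨ u = e * fr.w₁ ∨ u = e * ((fr.w : G) * fr.w₁)) := by
  obtain ⟨e, he, c, hc, rfl⟩ := hu
  have hH : e * c ∈ cH z := mul_mem (cE_le z he) hc.1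
  have hφ : D.φ ⟨e * c, hH⟩ = MulAut.conj (D.π ⟨c, hc⟩) := D.φ_inner he ⟨c, hc⟩ rfl
  have hφx : D.φ ⟨(fr.x : G), fr.x.2.1⟩ = MulAut.conj (D.π fr.x) := (D.π_eq fr.x).symm
  have hsq : D.π ⟨c, hc⟩ * D.π ⟨c, hc⟩ = 1 := by
    apply m22_conj_injective
    rw [map_mul, map_one, ← hφ, ← map_mul,
      show (⟨e * c, hH⟩ : ↥(cH z)) * ⟨e * c, hH⟩ = 1 from Subtype.ext h2, map_one]
  have hcomm : Commute (D.π ⟨c, hc⟩) fr.Th.a := by
    apply m22_conj_injective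
    rw [← fr.πx, map_mul, map_mul, ← hφ, ← hφx, ← map_mul, ← map_mul]
    exact congrArg D.φ (Subtype.ext hx.eq)
  have h4 : ∀ {a : ↥(cC z P)}, a * a = 1 → a ^ 4 = 1 := fun {a} h => by
    rw [show (4 : ℕ) = 2 * 2 from rfl, pow_mul, pow_two a, h, one_pow]
  have hmul : (fr.w * fr.w₁) * (fr.w * fr.w₁) = 1 := by
    have hw : D.π fr.w ∈ fr.U := by rw [fr.πw]; exact fr.tU
    have hw₁ : D.π fr.w₁ ∈ fr.U := by rw [fr.πw₁]; exact fr.t₁U
    refine D.lift_sq_good fr.L fr.good (by rw [map_mul]; exact mul_mem hw hw₁)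
      (D.pow_four_mul fr.good.2.1 hw hw₁ (h4 fr.ww) (h4 fr.ww₁))
  have finish : ∀ c₀ : ↥(cC z P), c₀ * c₀ = 1 → D.π ⟨c, hc⟩ = D.π c₀ → Commute fr.x c₀ →
      ∃ e' ∈ cE z, Commute e' (fr.x : G) ∧ e * c = e' * (c₀ : G) := by
    intro c₀ h0 hπ hxc
    obtain ⟨e', he', h⟩ := inner_involution D h2 he ⟨c, hc⟩ rfl h0 hπ
    refine ⟨e', he', ?_, h⟩
    rw [h] at hx
    have hxc' : Commute (c₀ : G) (fr.x : G) := (congrArg Subtype.val hxc.eq).symm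
    have := hx.mul_left hxc'.inv_left
    rwa [mul_inv_cancel_right] at this
  rcases fr.Th.four _ hcomm hsq with h | h | h | h
  · obtain ⟨e', he', hex, h'⟩ := finish 1 (mul_one 1) (by rw [h, map_one]) (Commute.one_right _)
    exact ⟨e', he', hex, Or.inl (by rw [h', OneMemClass.coe_one, mul_one])⟩
  · obtain ⟨e', he', hex, h'⟩ := finish fr.w fr.ww (by rw [h, fr.πw]) fr.xw
    exact ⟨e', he', hex, Or.inr (Or.inl h')⟩
  · obtain ⟨e', he', hex, h'⟩ := finish fr.w₁ fr.ww₁ (by rw [h, fr.πw₁]) fr.xw₁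
    exact ⟨e', he', hex, Or.inr (Or.inr (Or.inl h'))⟩
  · obtain ⟨e', he', hex, h'⟩ := finish (fr.w * fr.w₁) hmul (by rw [h, map_mul, fr.πw, fr.πw₁])
      (fr.xw.mul_right fr.xw₁)
    exact ⟨e', he', hex, Or.inr (Or.inr (Or.inr h'))⟩

/-- Inner involutions outside `E`. -/
theorem classify_inner (fr : Frame D) {u : G} (hu : D.Inner14 u) (h2 : u * u = 1) (hE : u ∉ cE z) :
    ∃ h ∈ cH z, ∃ e ∈ cE z, Commute e (fr.x : G) ∧ h * u * h⁻¹ = e * fr.w := by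
  classical
  have hfV := D.toJMod.finiteV
  obtain ⟨e, he, c, hc, rfl⟩ := hu
  have hH : e * c ∈ cH z := mul_mem (cE_le z he) hc.1
  have hφ : D.φ ⟨e * c, hH⟩ = MulAut.conj (D.π ⟨c, hc⟩) := D.φ_inner he ⟨c, hc⟩ rfl
  have hsq : D.π ⟨c, hc⟩ * D.π ⟨c, hc⟩ = 1 := by
    apply m22_conj_injective
    rw [map_mul, map_one, ← hφ, ← map_mul,
      show (⟨e * c, hH⟩ : ↥(cH z)) * ⟨e * c, hH⟩ = 1 from Subtype.ext h2, map_one]
  have hne : D.π ⟨c, hc⟩ ≠ 1 := fun h => by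
    obtain ⟨e', he', h'⟩ := inner_involution D h2 he ⟨c, hc⟩ rfl (mul_one 1) (h.trans (map_one _).symm)
    exact hE (by rw [h']; simpa using he')
  obtain ⟨g, hg⟩ := isConj_iff.1 (fr.F.inv_conj _ fr.Th.t (orderOf_eq_prime (by rw [pow_two, hsq]) hne)
    (orderOf_eq_prime (by rw [pow_two, fr.Th.tt]) fr.Th.t1))
  obtain ⟨g, rfl⟩ := D.πsurj g
  obtain ⟨e₁, he₁, h₁⟩ := inner_involution D (u := (g : G) * (e * c) * (g : G)⁻¹)
    (by rw [show (g : G) * (e * c) * (g : G)⁻¹ * ((g : G) * (e * c) * (g : G)⁻¹)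
      = (g : G) * ((e * c) * (e * c)) * (g : G)⁻¹ by group, h2]; group)
    (cE_conj g.2.1 he) (g * ⟨c, hc⟩ * g⁻¹)
    (by simp only [Subgroup.coe_mul, Subgroup.coe_inv]; group) fr.ww
    (by rw [map_mul, map_mul, map_inv, hg, fr.πw])
  have hs : e₁ * (fr.w : G) * (e₁ * (fr.w : G)) = 1 := by
    rw [← h₁, show (g : G) * (e * c) * (g : G)⁻¹ * ((g : G) * (e * c) * (g : G)⁻¹)
      = (g : G) * ((e * c) * (e * c)) * (g : G)⁻¹ by group, h2]; group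
  have hwi : (fr.w : G)⁻¹ = fr.w := inv_eq_of_mul_eq_one_right (congrArg Subtype.val fr.ww)
  -- the vector of `e₁` is fixed by `w`
  obtain ⟨v, hv⟩ : ∃ v, v = mk (⟨e₁, he₁⟩ : ↥(cE z)) := ⟨_, rfl⟩
  have hvw : fr.w • v = v := by
    rw [hv, smul_mk]
    have e' : cEAut (fr.w : G) fr.w.2.1 ⟨e₁, he₁⟩ = (⟨e₁, he₁⟩ : ↥(cE z))⁻¹ := by
      apply Subtype.ext
      show (fr.w : G) * e₁ * (fr.w : G)⁻¹ = e₁⁻¹
      rw [hwi]
      refine eq_inv_of_mul_eq_one_right ?_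
      rw [← hs]; group
    rw [e', ← D.toJMod.neg_eq (mk (⟨e₁, he₁⟩ : ↥(cE z)))]
    refine eq_neg_of_add_eq_zero_left ?_
    rw [← mk_mul, inv_mul_cancel, mk_one]
  have hπw1 : D.π fr.w ≠ 1 := by rw [fr.πw]; exact fr.Th.t1
  have h16 := card_eig_three D fr.L fr.Th fr.x3 (by rw [fr.πx]; exact fr.Th.a1)
  obtain ⟨k₀, hk₀, hk4⟩ := parts D.toJMod fr.L fr.x3 h16 fr.ww hπw1 fr.xw
  have hk00 : k₀ % 3 = 0 := by
    by_contra hk
    have h4 := hk4 0 (Ne.symm hk)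
    have hle : D.toJMod.eig fr.x 0 ≤ part D.toJMod fr.x fr.w 0 := fun a ha => by
      refine ⟨?_, ha⟩
      obtain ⟨d, rfl⟩ := mk_surjective a
      exact (fixElt_iff D fr.w d).2 (fr.w_fix d d.2 ((eig_zero_iff D fr.x d).1 ha))
    have := AddSubgroup.card_le_of_le hle
    rw [h16, h4] at this
    omega
  have himg : ∀ k, k % 3 ≠ 0 → ∃ v', fr.w • v' + v' = D.toJMod.proj fr.x k v := fun k hk => by
    obtain ⟨v', -, h'⟩ := part_image D.toJMod fr.ww fr.xw (h16 k) (hk4 k (by omega))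
      (fix_proj D.toJMod fr.x3 fr.xw hvw k)
    exact ⟨v', h'⟩
  obtain ⟨v₁, hv₁⟩ := himg 1 (by norm_num)
  obtain ⟨v₂, hv₂⟩ := himg 2 (by norm_num)
  obtain ⟨d, hd⟩ := mk_surjective (v₁ + v₂)
  obtain ⟨m, hm⟩ : ∃ m, m = d * ⟨e₁, he₁⟩ * cEAut (fr.w : G) fr.w.2.1 d⁻¹ := ⟨_, rfl⟩
  have hmk : mk m = D.toJMod.proj fr.x 0 v := by
    have hinv : mk d⁻¹ = mk d := by
      rw [← D.toJMod.neg_eq (mk d)]
      refine eq_neg_of_add_eq_zero_left ?_
      rw [← mk_mul, inv_mul_cancel, mk_one]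
    rw [hm, mk_mul, mk_mul, ← smul_mk, hinv, ← hv, hd, smul_add]
    conv_lhs => arg 1; arg 2; rw [← D.toJMod.proj_sum fr.x v, ← hv₁, ← hv₂]
    calc v₁ + v₂ + (D.toJMod.proj fr.x 0 v + (fr.w • v₁ + v₁) + (fr.w • v₂ + v₂)) + (fr.w • v₁ + fr.w • v₂)
        = D.toJMod.proj fr.x 0 v + (v₁ + v₁) + (v₂ + v₂) + (fr.w • v₁ + fr.w • v₁) + (fr.w • v₂ + fr.w • v₂) := by
          abel
      _ = _ := by simp only [D.toJMod.two, add_zero]
  refine ⟨(d : G) * g, mul_mem (cE_le z d.2) g.2.1, m, m.2,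
    (eig_zero_iff D fr.x m).1 (hmk ▸ D.toJMod.proj_mem fr.x3 0 v), ?_⟩
  rw [show (d : G) * g * (e * c) * ((d : G) * g)⁻¹ = (d : G) * ((g : G) * (e * c) * (g : G)⁻¹) * (d : G)⁻¹ by group,
    h₁, hm]
  show (d : G) * (e₁ * (fr.w : G)) * (d : G)⁻¹ = (d : G) * e₁ * ((fr.w : G) * (d : G)⁻¹ * (fr.w : G)⁻¹) * (fr.w : G)
  group

/-- Elements of order three outside `E P` are conjugate to `x`. -/
theorem conj_x (fr : Frame D) {y : G} (hy : y ∈ cH z) (hy3 : y ^ 3 = 1)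
    (hne : ¬ ∃ e ∈ cE z, ∃ q ∈ P, y = e * q) : ∃ h ∈ cH z, h * y * h⁻¹ = (fr.x : G) := by
  have hy' : y = (y * y) * (y * y) := by
    conv_lhs => rw [← one_mul y, ← hy3]
    simp [pow_succ, mul_assoc]
  have hinn : D.φ ⟨y, hy⟩ ∈ Inn M22t := by
    have hidx : (Inn M22t).index = 2 := Compute.Mathieu.card_out_M22
    have : ∀ a : MulAut M22t, a * a ∈ Inn M22t := fun a =>
      (Subgroup.mul_mem_iff_of_index_two hidx).2 Iff.rfl
    rw [show (⟨y, hy⟩ : ↥(cH z)) = (⟨y, hy⟩ * ⟨y, hy⟩) * (⟨y, hy⟩ * ⟨y, hy⟩) from Subtype.ext hy', map_mul]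
    exact mul_mem (by rw [map_mul]; exact this _) (by rw [map_mul]; exact this _)
  obtain ⟨e, he, c, hc, hyec⟩ := (D.inner14_iff ⟨y, hy⟩).2 hinn
  have hyec' : y = e * c := hyec
  have hφ : D.φ ⟨y, hy⟩ = MulAut.conj (D.π ⟨c, hc⟩) := D.φ_inner he ⟨c, hc⟩ hyec
  have h3 : D.π ⟨c, hc⟩ ^ 3 = 1 := by
    apply m22_conj_injective
    rw [map_pow, map_one, ← hφ, ← map_pow, show (⟨y, hy⟩ : ↥(cH z)) ^ 3 = 1 from Subtype.ext hy3, map_one]
  have h1 : D.π ⟨c, hc⟩ ≠ 1 := fun h => hne ((D.φ_eq ⟨y, hy⟩).1 (by rw [hφ, h, map_one]))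
  obtain ⟨g, hg⟩ := isConj_iff.1 (fr.Th.isConj _ (three_ne h3 h1)).symm
  obtain ⟨g, rfl⟩ := D.πsurj g
  obtain ⟨c', hc'⟩ : ∃ c' : ↥(cC z P), c' = g * ⟨c, hc⟩ * g⁻¹ := ⟨_, rfl⟩
  obtain ⟨y', hy'⟩ : ∃ y', y' = (g : G) * y * (g : G)⁻¹ := ⟨_, rfl⟩
  obtain ⟨k, hk⟩ : ∃ k, k = fr.x⁻¹ * c' := ⟨_, rfl⟩
  have hk1 : D.π k = 1 := by
    rw [hk, hc', map_mul, map_mul, map_mul, map_inv, map_inv, hg, fr.πx, inv_mul_cancel]
  obtain ⟨e₂, he₂, i, hye⟩ : ∃ e₂ ∈ cE z, ∃ i : ℕ, y' = e₂ * ((fr.x * D.pC ^ i : ↥(cC z P)) : G) := by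
    have hge := cE_conj g.2.1 he
    have h0 : y' = ((g : G) * e * (g : G)⁻¹) * ((fr.x : G) * (k : G)) := by
      rw [← Subgroup.coe_mul, hk, mul_inv_cancel_left, hc', hy', hyec']
      simp only [Subgroup.coe_mul, Subgroup.coe_inv]
      group
    obtain ⟨i, hi | hi⟩ := (D.ker_iff k).1 hk1
    · exact ⟨_, hge, i, by rw [h0, hi]; rfl⟩
    · refine ⟨(g : G) * e * (g : G)⁻¹ * z, mul_mem hge (z_mem D.hJ), i, ?_⟩
      rw [h0, hi]
      show _ = (g : G) * e * (g : G)⁻¹ * z * ((fr.x : G) * D.p ^ i)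
      rw [← mul_assoc (fr.x : G), ← D.comm_z fr.x]
      group
  obtain ⟨x', hx'⟩ : ∃ x', x' = fr.x * D.pC ^ i := ⟨_, rfl⟩
  rw [← hx'] at hye
  have hωc : ∀ (n : ℕ) (a : ↥(cC z P)), Commute (D.toJMod.ω ^ n) a := fun n a =>
    (D.toJMod.ker_comm _ D.toJMod.πω a).pow_left n
  have hx3 : x' ^ 3 = 1 := by
    rw [hx', (show Commute fr.x (D.pC ^ i) from (hωc i fr.x).symm).mul_pow, fr.x3, one_mul, ← pow_mul, mul_comm,
      pow_mul, show D.pC ^ 3 = 1 from Subtype.ext D.p3, one_pow]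
  have hx3' : (x' : G) ^ 3 = 1 := congrArg Subtype.val hx3
  have hy'3 : (e₂ * (x' : G)) ^ 3 = 1 := by
    rw [← hye, hy', conj_pow, hy3, mul_one, mul_inv_cancel]
  obtain ⟨ee, hee⟩ : ∃ ee : ↥(cE z), ee = ⟨e₂, he₂⟩ := ⟨_, rfl⟩
  obtain ⟨d, hd⟩ : ∃ d, d = cEAut (x' : G) x'.2.1 ee := ⟨_, rfl⟩
  have hdG : (d : G) = (x' : G) * e₂ * (x' : G)⁻¹ := by rw [hd, hee]; rfl
  obtain ⟨v, hv⟩ : ∃ v, v = mk ee := ⟨_, rfl⟩
  have hzero : v + x' • v + x' • x' • v = 0 := by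
    rw [hv, smul_mk, smul_mk, ← mk_mul, ← mk_mul, ← mk_one (z := z)]
    congr 1
    apply Subtype.ext
    show (ee : G) * ((x' : G) * ee * (x' : G)⁻¹) * ((x' : G) * ((x' : G) * ee * (x' : G)⁻¹) * (x' : G)⁻¹) = 1
    rw [show (ee : G) = e₂ by rw [hee]]
    calc e₂ * ((x' : G) * e₂ * (x' : G)⁻¹) * ((x' : G) * ((x' : G) * e₂ * (x' : G)⁻¹) * (x' : G)⁻¹)
        = (e₂ * (x' : G)) ^ 3 * ((x' : G) ^ 3)⁻¹ := by simp only [pow_succ, pow_zero, one_mul]; group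
      _ = 1 := by rw [hy'3, hx3', inv_one, mul_one]
  obtain ⟨n, hn⟩ : ∃ n, n = d * cEAut (x' : G) x'.2.1 d⁻¹ := ⟨_, rfl⟩
  have hnG : (d : G) * x' * (d : G)⁻¹ = (n : G) * x' := by
    rw [hn, Subgroup.coe_mul]
    show (d : G) * x' * (d : G)⁻¹ = (d : G) * ((x' : G) * (d : G)⁻¹ * (x' : G)⁻¹) * x'
    group
  have hinv : mk d⁻¹ = mk d := by
    rw [← D.toJMod.neg_eq (mk d)]
    refine eq_neg_of_add_eq_zero_left ?_
    rw [← mk_mul, inv_mul_cancel, mk_one]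
  have hmn : mk n = mk ee := by
    rw [hn, mk_mul, ← smul_mk, hinv, hd, ← smul_mk, ← hv]
    rw [add_assoc, add_eq_zero_iff_eq_neg, D.toJMod.neg_eq] at hzero
    exact hzero.symm
  have hyd : y' = (d : G) * x' * (d : G)⁻¹ := by
    rcases (mk_eq D.hJ).1 hmn with h | h
    · rw [hnG, hye, ← h, hee]
    · exfalso
      have hee' : e₂ = (n : G) * z := by rw [← h, hee]
      have hz : Commute z ((n : G) * x') := Commute.mul_right
        (Subgroup.mem_centralizer_singleton_iff.1 (cE_le z n.2)).symm (D.comm_z x')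
      apply z_ne D.hJ
      have e1 : e₂ * (x' : G) = z * ((n : G) * x') := by
        rw [hee', ← mul_assoc z, (show z * (n : G) = n * z from (Subgroup.mem_centralizer_singleton_iff.1
          (cE_le z n.2)).symm)]
      rw [e1, hz.mul_pow, ← hnG, conj_pow, hx3', mul_one, mul_inv_cancel, mul_one, pow_succ, pow_two,
        z_sq D.hJ, one_mul] at hy'3
      exact hy'3
  -- powers of `q` move `x * p ^ i` to `x`
  obtain ⟨f, hf, hfq⟩ := exists_shift D fr.x3 (by rw [fr.πq, fr.πx]; exact fr.Th.qa) fr.qx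
  have hpow : ∀ m : ℕ, fr.q ^ m * fr.x * (fr.q ^ m)⁻¹ = D.toJMod.ω ^ (m * f) * fr.x := by
    intro m
    induction m with
    | zero => simp
    | succ m ih =>
      rw [pow_succ', show fr.q * fr.q ^ m * fr.x * (fr.q * fr.q ^ m)⁻¹
        = fr.q * (fr.q ^ m * fr.x * (fr.q ^ m)⁻¹) * fr.q⁻¹ by group, ih]
      rw [← mul_assoc, ← (hωc (m * f) fr.q).eq, mul_assoc (D.toJMod.ω ^ (m * f)), mul_assoc, hfq, ← mul_assoc,
        ← pow_add, Nat.succ_mul]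
  obtain ⟨r, hr⟩ : ∃ r, r = fr.q ^ (i * f) := ⟨_, rfl⟩
  have hrx : r * fr.x * r⁻¹ = x' := by
    rw [hr, hpow, hx', show fr.x * D.pC ^ i = D.toJMod.ω ^ i * fr.x from (hωc i fr.x).symm.eq]
    congr 1
    have hm : i * f * f % 3 = i % 3 := by
      rw [mul_assoc, Nat.mul_mod, Nat.mul_mod f f]
      rcases (by omega : f % 3 = 1 ∨ f % 3 = 2) with h | h <;> rw [h] <;> simp
    rw [pow_eq_pow_mod (i * f * f) D.toJMod.ω3, hm, ← pow_eq_pow_mod i D.toJMod.ω3]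
  refine ⟨(r : G)⁻¹ * (d : G)⁻¹ * g, mul_mem (mul_mem (inv_mem r.2.1) (inv_mem (cE_le z d.2))) g.2.1, ?_⟩
  rw [show (r : G)⁻¹ * (d : G)⁻¹ * g * y * ((r : G)⁻¹ * (d : G)⁻¹ * g)⁻¹
    = (r : G)⁻¹ * ((d : G)⁻¹ * ((g : G) * y * (g : G)⁻¹) * (d : G)) * (r : G) by group, ← hy', hyd, ← hrx]
  simp only [Subgroup.coe_mul, Subgroup.coe_inv]
  group

end Cfsg.Agent.Lib.J4Fusion14
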