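import Cfsg.Agent.Lib.J4Fusion14.InEPlane

/-!
# The central involution is the only one of its conjugates in the extraspecial group

If `u ≠ z` is such a conjugate, the image of the centralizer of `u` in `E` under the conjugation moving
`u` to `z` gives an elementary subgroup of order 16 of M22 fixing the vector of the image of `z`; both
kinds of such subgroups lead to a conjugate over the fixed space of the first plane, which is impossible.
-/

set_option autoImplicit false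
set_option linter.unusedSectionVars false

namespace Cfsg.Agent.Lib.J4Fusion14

open Cfsg Cfsg.Agent.Lib.J4Type19

attribute [local instance] m22_finite

variable {G : Type*} [Group G] [Finite G] {z : G} {P : Subgroup G}

/-- If inner conjugates of `z` lie in `E`, then `z` is the only conjugate of itself in `E`. -/
theorem eq_of_mem_E (D : HData z P) (hI : ∀ g : G, D.Inner14 (g * z * g⁻¹) → g * z * g⁻¹ ∈ cE z) :
    ∀ g : G, g * z * g⁻¹ ∈ cE z → g * z * g⁻¹ = z := by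
  classical
  intro g hu
  by_contra hne
  have := D.toJMod.finiteV
  obtain ⟨F⟩ := exists_mFacts
  obtain ⟨L⟩ := D.toJMod.exists_lifts F
  obtain ⟨hu', hne'⟩ := inE_inv_mem D hI hu hne
  obtain ⟨v, hv⟩ : ∃ v, v = mk (⟨g * z * g⁻¹, hu⟩ : ↥(cE z)) := ⟨_, rfl⟩
  have hv0 : v ≠ 0 := hv ▸ inE_mk_ne D hu hne
  obtain ⟨l, hl⟩ : ∃ l, l = mk (⟨g⁻¹ * z * g, hu'⟩ : ↥(cE z)) := ⟨_, rfl⟩
  have hu'1 : g⁻¹ * z * g ≠ 1 := fun h => z_ne D.hJ (by
    calc z = g * (g⁻¹ * z * g) * g⁻¹ := by group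
      _ = 1 := by rw [h]; group)
  have hl0 : l ≠ 0 := by
    rw [hl]; intro h
    exact ((mk_eq_zero D.hJ).1 h).elim hu'1 hne'
  have hplane : ∀ c : ↥(cC z P), c • l ∉ D.toJMod.fix F.U0 := by
    intro c hc
    have hu2 : g⁻¹ * z * g⁻¹⁻¹ ∈ cE z := by rw [inv_inv]; exact hu'
    refine inE_plane D L hI hu2 (by rwa [inv_inv]) ⟨(c : G), c.2.1⟩ ?_
    rw [act_smul]
    convert hc using 2
    rw [hl]; congr 1; apply Subtype.ext; simp
  -- the centralizer of `u` in `E` and its image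
  obtain ⟨Cu, hCu⟩ : ∃ Cu : Subgroup G, Cu = cE z ⊓ Subgroup.centralizer ({g * z * g⁻¹} : Set G) := ⟨_, rfl⟩
  have hCuE : ∀ a : ↥Cu, (a : G) ∈ cE z := fun a => (hCu.le a.2).1
  have hCucomm : ∀ a : ↥Cu, Commute (a : G) (g * z * g⁻¹) := fun a =>
    Subgroup.mem_centralizer_singleton_iff.1 (hCu.le a.2).2
  have hCumem : ∀ e : ↥(cE z), D.toJMod.β (mk e) v = 0 → (e : G) ∈ Cu := fun e he =>
    hCu.ge ⟨e.2, Subgroup.mem_centralizer_singleton_iff.2 ((inE_beta D).1 (hv ▸ he)).eq⟩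
  have hcardCu : Nat.card ↥Cu = 2 ^ 12 := by
    have he : Cu = (pre (perpOf D.toJMod.β (AddSubgroup.zmultiples v))).map (cE z).subtype := by
      ext x
      constructor
      · intro hx
        exact ⟨⟨x, hCuE ⟨x, hx⟩⟩, (inE_mem_vperp D).2 (hv ▸ (inE_beta D).2 (hCucomm ⟨x, hx⟩)), rfl⟩
      · rintro ⟨e, he, rfl⟩
        exact hCumem e ((inE_mem_vperp D).1 he)
    rw [he, ← Nat.card_congr (Subgroup.equivMapOfInjective _ _ (cE z).subtype_injective).toEquiv,
      card_pre D.hJ, D.toJMod.card_perp_of (a := 1) (b := 11) rfl (inE_card_line D hv0)]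
    norm_num
  obtain ⟨sH, hsH⟩ : ∃ sH : ↥Cu →* ↥(cH z), ∀ a : ↥Cu, (sH a : G) = g⁻¹ * (a : G) * g :=
    ⟨MonoidHom.mk' (fun a => ⟨g⁻¹ * (a : G) * g, inE_sig_mem D (hCucomm a)⟩) fun a b =>
      Subtype.ext (by show g⁻¹ * ((a * b : ↥Cu) : G) * g = _ * _; rw [Subgroup.coe_mul]; group), fun a => rfl⟩
  have hcomm2 : ∀ a b : ↥Cu, (sH a : G) * sH b = (sH b : G) * sH a ∨
      (sH a : G) * sH b = g⁻¹ * z * g * ((sH b : G) * sH a) := by
    intro a b
    rw [hsH, hsH, show g⁻¹ * (a : G) * g * (g⁻¹ * b * g) = g⁻¹ * ((a : G) * b * (a : G)⁻¹ * (b : G)⁻¹) * g *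
      (g⁻¹ * b * g * (g⁻¹ * a * g)) by group]
    rcases comm_or D.hJ ⟨_, hCuE a⟩ ⟨_, hCuE b⟩ with h | h
    · left; rw [show (a : G) * b * (a : G)⁻¹ * (b : G)⁻¹ = 1 from h]; group
    · right; rw [show (a : G) * b * (a : G)⁻¹ * (b : G)⁻¹ = z from h]
  have hsq2 : ∀ a : ↥Cu, (sH a : G) * sH a = 1 ∨ (sH a : G) * sH a = g⁻¹ * z * g := by
    intro a
    rw [hsH, show g⁻¹ * (a : G) * g * (g⁻¹ * a * g) = g⁻¹ * ((a : G) * a) * g by group]
    rcases sq_or D.hJ ⟨_, hCuE a⟩ with h | h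
    · left; rw [show (a : G) * a = 1 from h]; group
    · right; rw [show (a : G) * a = z from h]
  obtain ⟨ψ, hψ⟩ : ∃ ψ : ↥Cu →* MulAut M22t, ∀ a, ψ a = D.φ (sH a) := ⟨D.φ.comp sH, fun _ => rfl⟩
  have hψu : D.φ ⟨g⁻¹ * z * g, cE_le z hu'⟩ = 1 := D.φ_cE hu'
  have hψsq : ∀ a, ψ a * ψ a = 1 := by
    intro a
    rw [hψ, ← map_mul]
    rcases hsq2 a with h | h
    · rw [show sH a * sH a = 1 from Subtype.ext h, map_one]
    · rw [show sH a * sH a = ⟨_, cE_le z hu'⟩ from Subtype.ext h, hψu]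
  have hψcomm : ∀ a b, ψ a * ψ b = ψ b * ψ a := by
    intro a b
    rw [hψ, hψ, ← map_mul D.φ, ← map_mul D.φ]
    rcases hcomm2 a b with h | h
    · rw [show sH a * sH b = sH b * sH a from Subtype.ext h]
    · rw [show sH a * sH b = ⟨_, cE_le z hu'⟩ * (sH b * sH a) from Subtype.ext h, map_mul, hψu, one_mul]
  have hs2 : ∀ a x, act (sH a) (act (sH a) x) = x := by
    intro a x
    rw [← act_mul]
    rcases hsq2 a with h | h
    · rw [show sH a * sH a = 1 from Subtype.ext h, act_one]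
    · rw [show sH a * sH a = ⟨_, cE_le z hu'⟩ from Subtype.ext h, act_cE hu' D.hJ]
  have hscomm : ∀ a b x, act (sH a) (act (sH b) x) = act (sH b) (act (sH a) x) := by
    intro a b x
    rw [← act_mul, ← act_mul]
    rcases hcomm2 a b with h | h
    · rw [show sH a * sH b = sH b * sH a from Subtype.ext h]
    · rw [show sH a * sH b = ⟨_, cE_le z hu'⟩ * (sH b * sH a) from Subtype.ext h, act_mul, act_cE hu' D.hJ]
  have hsl : ∀ a, act (sH a) l = l := by
    intro a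
    rw [hl, act_mk]; congr 1; apply Subtype.ext
    show (sH a : G) * (g⁻¹ * z * g) * (sH a : G)⁻¹ = g⁻¹ * z * g
    rw [hsH, show g⁻¹ * (a : G) * g * (g⁻¹ * z * g) * (g⁻¹ * a * g)⁻¹ = g⁻¹ * ((a : G) * z * (a : G)⁻¹) * g by group,
      (comm_z_of_cE (hCuE a)).eq, mul_inv_cancel_right]
  -- the kernel
  have hker : ∀ a : ↥Cu, ψ a = 1 ↔ g⁻¹ * (a : G) * g ∈ cE z := by
    intro a
    rw [hψ, ← hsH]
    refine ⟨fun h => inE_mem_cE D h ?_, fun h => D.φ_cE h⟩
    rw [hsH, show g⁻¹ * (a : G) * g = g⁻¹ * a * g⁻¹⁻¹ by rw [inv_inv], conj_pow, inE_pow_four D (hCuE a)]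
    group
  let Kv : AddSubgroup (cV z) :=
    { carrier := {w | ∃ a : ↥Cu, g⁻¹ * (a : G) * g ∈ cE z ∧ mk ⟨(a : G), hCuE a⟩ = w}
      zero_mem' := ⟨1, by simp, mk_one⟩
      add_mem' := by
        rintro _ _ ⟨a, ha, rfl⟩ ⟨b, hb, rfl⟩
        refine ⟨a * b, ?_, mk_mul (⟨(a : G), hCuE a⟩ : ↥(cE z)) ⟨(b : G), hCuE b⟩⟩
        rw [Subgroup.coe_mul, show g⁻¹ * ((a : G) * b) * g = (g⁻¹ * a * g) * (g⁻¹ * b * g) by group]
        exact mul_mem ha hb
      neg_mem' := by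
        rintro _ ⟨a, ha, rfl⟩
        exact ⟨a, ha, (D.toJMod.neg_eq _).symm⟩ }
  have hKviso : ∀ x ∈ Kv, ∀ y ∈ Kv, D.toJMod.β x y = 0 := by
    rintro _ ⟨a, ha, rfl⟩ _ ⟨b, hb, rfl⟩
    refine (inE_beta D).2 ?_
    rcases comm_or D.hJ ⟨_, hCuE a⟩ ⟨_, hCuE b⟩ with h | h
    · exact mul_inv_eq_iff_eq_mul.1 (mul_inv_eq_one.1 h)
    · exfalso
      have e : g⁻¹ * (a : G) * g * (g⁻¹ * b * g) * (g⁻¹ * a * g)⁻¹ * (g⁻¹ * b * g)⁻¹ = g⁻¹ * z * g := by
        rw [show g⁻¹ * (a : G) * g * (g⁻¹ * b * g) * (g⁻¹ * a * g)⁻¹ * (g⁻¹ * b * g)⁻¹ =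
          g⁻¹ * ((a : G) * b * (a : G)⁻¹ * (b : G)⁻¹) * g by group,
          show (a : G) * b * (a : G)⁻¹ * (b : G)⁻¹ = z from h]
      rcases comm_or D.hJ ⟨_, ha⟩ ⟨_, hb⟩ with h' | h'
      · exact hu'1 (e.symm.trans h')
      · exact hne' (e.symm.trans h')
  have hKv64 : Nat.card ↥Kv ≤ 2 ^ 6 := by
    have h1 : Nat.card ↥Kv ≤ Nat.card ↥(perpOf D.toJMod.β Kv) :=
      AddSubgroup.card_le_of_le (fun u hu v hv => hKviso u hu v hv)
    have h2 := D.toJMod.perp Kv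
    have h3 : Nat.card ↥Kv * Nat.card ↥Kv ≤ 2 ^ 12 := h2 ▸ Nat.mul_le_mul_left _ h1
    by_contra hlt
    have := Nat.mul_self_lt_mul_self (lt_of_not_ge hlt)
    omega
  have hkerle : Nat.card ↥ψ.ker ≤ 2 * Nat.card ↥Kv := by
    rw [Nat.card_congr (Subgroup.equivMapOfInjective ψ.ker _ Cu.subtype_injective).toEquiv]
    refine inE_card_le D ?_ ?_
    · rintro _ ⟨a, -, rfl⟩; exact hCuE a
    · rintro e ⟨a, ha, hae⟩
      exact ⟨a, (hker a).1 ha, congrArg mk (Subtype.ext hae)⟩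
  obtain ⟨U, hUdef⟩ : ∃ U, U = ψ.range.comap (MulAut.conj : M22t →* MulAut M22t) := ⟨_, rfl⟩
  have hUm : ∀ m, m ∈ U ↔ ∃ a, ψ a = MulAut.conj m := fun m => by rw [hUdef]; rfl
  have hU2 : ∀ m ∈ U, m * m = 1 := fun m hm => by
    obtain ⟨a, ha⟩ := (hUm m).1 hm
    apply m22_conj_injective
    rw [map_mul, ← ha, hψsq, map_one]
  have hUp : IsPGroup 2 ↥U := fun m => ⟨1, Subtype.ext (by
    rw [SubgroupClass.coe_pow, pow_one, pow_two]; exact hU2 m m.2)⟩
  obtain ⟨kU, hkU⟩ := F.sylow U hUp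
  have hmaple : U.map (MulAut.conj kU).toMonoidHom ≤ F.P0 := by rintro _ ⟨x, hx, rfl⟩; exact hkU x hx
  have hsmall := F.small _ hmaple (by rintro _ ⟨x, hx, rfl⟩; rw [← map_mul, hU2 x hx, map_one])
  rw [← Nat.card_congr (Subgroup.equivMapOfInjective U _ (MulAut.conj kU).injective).toEquiv] at hsmall
  have hprod : Nat.card ↥ψ.ker * Nat.card ↥ψ.range = 2 ^ 12 := by
    rw [← Subgroup.index_ker, Subgroup.card_mul_index, hcardCu]
  have hUR : Nat.card ↥U = Nat.card ↥(ψ.range ⊓ Inn M22t) := by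
    rw [Nat.card_congr (Subgroup.equivMapOfInjective U _ m22_conj_injective).toEquiv, hUdef,
      Subgroup.map_comap_eq, inf_comm]
  have hidx : (Inn M22t).index = 2 := Compute.Mathieu.card_out_M22
  have h2r : Nat.card ↥ψ.range ≤ 2 * Nat.card ↥U := by
    rw [hUR]
    by_cases hout : ψ.range ≤ Inn M22t
    · rw [inf_eq_left.2 hout]; omega
    obtain ⟨τ, hτr, hτI⟩ := SetLike.not_le_iff_exists.1 hout
    let m : ↥ψ.range → Bool × ↥(ψ.range ⊓ Inn M22t) := fun x =>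
      if hx : (x : MulAut M22t) ∈ Inn M22t then (true, ⟨x, x.2, hx⟩)
      else (false, ⟨τ * x, mul_mem hτr x.2,
        (Subgroup.mul_mem_iff_of_index_two hidx).2 (iff_of_false hτI hx)⟩)
    have hm : Function.Injective m := by
      intro x y hxy
      simp only [m] at hxy
      split at hxy <;> split at hxy <;>
        simp only [Prod.mk.injEq, Subtype.mk.injEq, mul_right_inj, Bool.true_eq_false, Bool.false_eq_true,
          false_and, true_and] at hxy
      · exact Subtype.ext (congrArg Subtype.val hxy :)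
      · exact Subtype.ext (mul_left_cancel (congrArg Subtype.val hxy :))
    have := Nat.card_le_card_of_injective m hm
    rwa [Nat.card_prod, Nat.card_eq_fintype_card (α := Bool), Fintype.card_bool] at this
  have hk128 : Nat.card ↥ψ.ker ≤ 128 := by omega
  have hr32 : 32 ≤ Nat.card ↥ψ.range := by
    by_contra hlt
    have := Nat.mul_le_mul hk128 (show Nat.card ↥ψ.range ≤ 31 by omega)
    omega
  have hU16 : Nat.card ↥U = 16 := le_antisymm hsmall.1 (by omega)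
  have hker128 : Nat.card ↥ψ.ker = 128 := by
    rw [show Nat.card ↥ψ.range = 32 by omega] at hprod
    omega
  obtain ⟨a₁, ha₁⟩ : ∃ a₁, ψ a₁ ∉ Inn M22t := by
    by_contra hno
    push Not at hno
    have hle : ψ.range ≤ Inn M22t := by rintro _ ⟨a, rfl⟩; exact hno a
    rw [inf_eq_left.2 hle] at hUR
    omega
  have houter : ¬ D.Inner14 (sH a₁ : G) := by rw [D.inner14_iff, ← hψ]; exact ha₁
  -- the lifts of `U` act as images of elements of `Cu`
  have hinn : ∀ a m, ψ a = MulAut.conj m → D.Inner14 (sH a : G) := fun a m h => by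
    rw [D.inner14_iff, ← hψ, h]; exact ⟨m, rfl⟩
  have hlift : ∀ a m, ψ a = MulAut.conj m → ∀ c' : ↥(cC z P), D.π c' = m → c' ^ 4 = 1 →
      ∀ x, act (sH a) x = c' • x := fun a m h c' hc' h4 x =>
    inE_inner_act_lift D (hinn a m h) (hs2 a) (by rw [← hψ]; exact h) (hU2 m ((hUm m).2 ⟨a, h⟩)) hc' h4 x
  have hlfix : l ∈ D.toJMod.fix U := by
    intro c' hc' h4
    obtain ⟨a, ha⟩ := (hUm _).1 hc'
    exact (hlift a _ ha c' rfl h4 l).symm.trans (hsl a)
  have hall : ∀ x ∈ D.toJMod.fix U, act (sH a₁) x = x → ∀ a, act (sH a) x = x := by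
    intro x hx hx1
    have hinner : ∀ a, ψ a ∈ Inn M22t → act (sH a) x = x := by
      rintro a ⟨m, hm⟩
      have hmU : m ∈ U := (hUm m).2 ⟨a, hm.symm⟩
      obtain ⟨c', hc', h4⟩ := D.toJMod.exists_two_lift (hU2 m hmU)
      rw [hlift a m hm.symm c' hc' h4]
      exact hx c' (show D.π c' ∈ U by rw [show D.π c' = m from hc']; exact hmU) h4
    intro a
    by_cases ha : ψ a ∈ Inn M22t
    · exact hinner a ha
    · have := hinner (a * a₁) (by
        rw [map_mul, Subgroup.mul_mem_iff_of_index_two hidx]; exact iff_of_false ha ha₁)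
      rwa [map_mul, act_mul, hx1] at this
  -- the image of the kernel
  let L' : AddSubgroup (cV z) :=
    { carrier := {w | ∃ (a : ↥Cu) (y : ↥(cE z)), (y : G) = g⁻¹ * (a : G) * g ∧ mk y = w}
      zero_mem' := ⟨1, 1, by simp, mk_one⟩
      add_mem' := by
        rintro _ _ ⟨a, y, hy, rfl⟩ ⟨a', y', hy', rfl⟩
        refine ⟨a * a', y * y', ?_, mk_mul y y'⟩
        rw [Subgroup.coe_mul, Subgroup.coe_mul, hy, hy']; group
      neg_mem' := by
        rintro _ ⟨a, y, hy, rfl⟩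
        exact ⟨a, y, hy, (D.toJMod.neg_eq _).symm⟩ }
  have hL64 : 2 ^ 6 ≤ Nat.card ↥L' := by
    have h1 : Nat.card ↥((ψ.ker.map Cu.subtype).map (MulAut.conj g⁻¹).toMonoidHom) ≤ 2 * Nat.card ↥L' := by
      refine inE_card_le D ?_ ?_
      · rintro _ ⟨_, ⟨a, ha, rfl⟩, rfl⟩
        simpa using (hker a).1 ha
      · rintro y ⟨_, ⟨a, ha, rfl⟩, hy⟩
        exact ⟨a, y, by rw [← hy]; simp, rfl⟩
    rw [← Nat.card_congr (Subgroup.equivMapOfInjective _ _ (MulAut.conj g⁻¹).injective).toEquiv,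
      ← Nat.card_congr (Subgroup.equivMapOfInjective _ _ Cu.subtype_injective).toEquiv, hker128] at h1
    omega
  have hmoveL : ∀ a, ∀ x ∈ L', act (sH a) x + x ∈ AddSubgroup.zmultiples l := by
    rintro a _ ⟨b, y, hy, rfl⟩
    rw [inE_mem_line D, act_mk]
    rcases hcomm2 a b with h | h
    · left
      rw [show cEAut (sH a : G) (sH a).2 y = y from Subtype.ext (by
        show (sH a : G) * y * (sH a : G)⁻¹ = y
        rw [hy, ← hsH b, h, mul_inv_cancel_right])]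
      exact D.toJMod.two _
    · right
      rw [show cEAut (sH a : G) (sH a).2 y = ⟨_, hu'⟩ * y from Subtype.ext (by
        show (sH a : G) * y * (sH a : G)⁻¹ = g⁻¹ * z * g * y
        rw [hy, ← hsH b, h]; group), mk_mul, add_assoc, D.toJMod.two, add_zero, hl]
  have hcen : ∀ x ∈ L', (∀ a, act (sH a) x = x) → x = 0 ∨ x = l := by
    rintro _ ⟨b, y, hy, rfl⟩ hx
    have hb : mk (⟨(b : G), hCuE b⟩ : ↥(cE z)) = 0 ∨ mk (⟨(b : G), hCuE b⟩ : ↥(cE z)) = v := by
      refine inE_center D hv0 fun w hw => ?_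
      obtain ⟨e, rfl⟩ := mk_surjective w
      obtain ⟨a, rfl⟩ : ∃ a : ↥Cu, e = ⟨(a : G), hCuE a⟩ := ⟨⟨(e : G), hCumem e hw⟩, rfl⟩
      refine (inE_beta D).2 (Commute.symm ?_)
      rcases comm_or D.hJ ⟨_, hCuE a⟩ ⟨_, hCuE b⟩ with h | h
      · exact mul_inv_eq_iff_eq_mul.1 (mul_inv_eq_one.1 h)
      · exfalso
        apply hl0
        have h3 := hx a
        rw [act_mk, show cEAut (sH a : G) (sH a).2 y = ⟨_, hu'⟩ * y from Subtype.ext (by
          show (sH a : G) * y * (sH a : G)⁻¹ = g⁻¹ * z * g * y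
          rw [hy, hsH, show g⁻¹ * (a : G) * g * (g⁻¹ * b * g) * (g⁻¹ * a * g)⁻¹ =
            g⁻¹ * ((a : G) * b * (a : G)⁻¹ * (b : G)⁻¹) * g * (g⁻¹ * b * g) by group,
            show (a : G) * b * (a : G)⁻¹ * (b : G)⁻¹ = z from h]), mk_mul, ← hl, add_eq_right] at h3
        exact h3
    rcases hb with hb | hb
    · rcases (mk_eq_zero D.hJ).1 hb with h | h
      · left
        rw [mk_eq_zero D.hJ]; left
        rw [hy, show (b : G) = 1 from h]; group
      · right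
        rw [hl]; congr 1; apply Subtype.ext
        rw [hy, show (b : G) = z from h]
    · rw [hv] at hb
      rcases (mk_eq D.hJ).1 hb.symm with h | h
      · left
        rw [mk_eq_zero D.hJ]; right
        rw [hy, show (b : G) = g * z * g⁻¹ from h]; group
      · right
        rw [hl, mk_eq D.hJ]; right
        rw [hy, show (b : G) = g * z * g⁻¹ * z from h]
        show g⁻¹ * z * g = g⁻¹ * (g * z * g⁻¹ * z) * g * z
        rw [show g⁻¹ * (g * z * g⁻¹ * z) * g * z = z * (g⁻¹ * z * g) * z by group, ← (comm_z_of_cE hu').eq,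
          mul_assoc _ z z, z_sq D.hJ, mul_one]
  -- the fixed vectors of the non-inner element
  let K : AddSubgroup (cV z) :=
    { carrier := {x | act (sH a₁) x = x}
      zero_mem' := map_zero _
      add_mem' := fun {p q} (hp : act (sH a₁) p = p) (hq : act (sH a₁) q = q) => by
        show act (sH a₁) (p + q) = p + q
        rw [map_add, hp, hq]
      neg_mem' := fun {p} (hp : act (sH a₁) p = p) => by
        show act (sH a₁) (-p) = -p
        rw [map_neg, hp] }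
  have hsω : ∀ x, act (sH a₁) (D.toJMod.ω • x) = D.toJMod.ω • D.toJMod.ω • act (sH a₁) x :=
    fun x => inE_act_ω_outer D houter x
  have hKω : ∀ x ∈ K, D.toJMod.ω • x ∈ K → x = 0 := by
    intro x hx hx'
    have h1 : act (sH a₁) (D.toJMod.ω • x) = D.toJMod.ω • x := hx'
    rw [hsω, show act (sH a₁) x = x from hx] at h1
    exact D.toJMod.ωfix x (smul_left_cancel _ h1)
  have hK64 : Nat.card ↥K ≤ 2 ^ 6 := by
    have h3 : Nat.card ↥K * Nat.card ↥K ≤ 2 ^ 12 := by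
      rw [← Nat.card_prod, ← D.toJMod.cardV]
      refine Nat.card_le_card_of_injective (fun q : ↥K × ↥K => (q.1 : cV z) + D.toJMod.ω • (q.2 : cV z))
        fun q q' h => ?_
      have h' : (q.1 : cV z) + D.toJMod.ω • (q.2 : cV z) = (q'.1 : cV z) + D.toJMod.ω • (q'.2 : cV z) := h
      have hs : D.toJMod.ω • ((q.2 : cV z) - q'.2) = (q'.1 : cV z) - q.1 := by
        rw [smul_sub, sub_eq_sub_iff_add_eq_add, add_comm, h', add_comm]
      have h0 := hKω _ (sub_mem q.2.2 q'.2.2) (hs ▸ sub_mem q'.1.2 q.1.2)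
      rw [h0, smul_zero, eq_comm, sub_eq_zero] at hs
      exact Prod.ext (Subtype.ext hs.symm) (Subtype.ext (sub_eq_zero.1 h0))
    by_contra hlt
    have := Nat.mul_self_lt_mul_self (lt_of_not_ge hlt)
    omega
  have hH32 : 2 ^ 5 ≤ Nat.card ↥(L' ⊓ K) := by
    let f : ↥L' →+ cV z := (act (sH a₁) + AddMonoidHom.id (cV z)).comp L'.subtype
    have hr : Nat.card ↥f.range ≤ 2 := by
      rw [← inE_card_line D hl0]
      refine AddSubgroup.card_le_of_le ?_
      rintro _ ⟨x, rfl⟩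
      exact hmoveL a₁ _ x.2
    have hk : Nat.card ↥f.ker ≤ Nat.card ↥(L' ⊓ K) := by
      refine Nat.card_le_card_of_injective (fun x : ↥f.ker => (⟨((x : ↥L') : cV z), (x : ↥L').2, ?_⟩ : ↥(L' ⊓ K)))
        fun x y h => Subtype.ext (Subtype.ext (congrArg Subtype.val h :))
      have h0 : act (sH a₁) ((x : ↥L') : cV z) + ((x : ↥L') : cV z) = 0 := x.2
      show act (sH a₁) _ = _
      rwa [add_eq_zero_iff_eq_neg, D.toJMod.neg_eq] at h0
    have h := f.ker.card_mul_index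
    rw [AddSubgroup.index_ker] at h
    have hle := Nat.mul_le_mul hk hr
    rw [h] at hle
    omega
  have hω2 : ∀ w : cV z, D.toJMod.ω • D.toJMod.ω • w = w + D.toJMod.ω • w := by
    intro w
    have h3 := D.toJMod.ω_sum w
    rw [add_comm, add_eq_zero_iff_eq_neg, D.toJMod.neg_eq] at h3
    exact h3
  have hdec : ∀ w, ∃ k₁ ∈ K, ∃ k₂ ∈ K, w = D.toJMod.ω • k₁ + k₂ ∧
      k₁ = act (sH a₁) w + w ∧ k₂ = D.toJMod.ω • act (sH a₁) w + D.toJMod.ω • D.toJMod.ω • w := by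
    intro w
    refine ⟨_, ?_, _, ?_, ?_, rfl, rfl⟩
    · show act (sH a₁) _ = _
      rw [map_add, hs2, add_comm]
    · show act (sH a₁) _ = _
      rw [map_add, hsω, hs2, hsω, hsω, D.toJMod.ω3_smul, add_comm]
    · rw [smul_add, hω2]
      calc w = (D.toJMod.ω • w + D.toJMod.ω • w) + ((D.toJMod.ω • act (sH a₁) w + D.toJMod.ω • act (sH a₁) w) + w) := by
            rw [D.toJMod.two, D.toJMod.two, zero_add, zero_add]
        _ = _ := by abel
  obtain ⟨Q, hQ⟩ : ∃ Q : Finset (cV z), Q = {0, l, D.toJMod.ω • l, D.toJMod.ω • l + l} := ⟨_, rfl⟩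
  have hQcard : Q.card ≤ 4 := hQ ▸ Finset.card_le_four
  have hQmem : ∀ p q, (p = 0 ∨ p = l) → (q = 0 ∨ q = l) → D.toJMod.ω • p + q ∈ Q := by
    rintro p q (rfl | rfl) (rfl | rfl) <;> simp [hQ]
  have hfixK : ∀ x ∈ D.toJMod.fix U, x ∈ K → x = 0 ∨ x = l := by
    intro x hxU hxK
    refine hcen x ?_ (hall x hxU hxK)
    by_contra hxL
    obtain ⟨⟨m, hm⟩, hm1⟩ : ∃ m : ↥U, m ≠ 1 := by
      have : Nontrivial ↥U := Finite.one_lt_card_iff_nontrivial.1 (by omega)
      exact exists_ne 1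
    obtain ⟨c', hc', h4⟩ := D.toJMod.exists_two_lift (hU2 m hm)
    obtain ⟨a, ha⟩ := (hUm m).1 hm
    let R : AddSubgroup (cV z) :=
      (AddSubgroup.zmultiples l).comap (act (sH a) + AddMonoidHom.id (cV z))
    have hHR : L' ⊓ K ≤ R ⊓ K := fun y hy => ⟨hmoveL a y hy.1, hy.2⟩
    have hxR : x ∈ R := by
      show act (sH a) x + x ∈ AddSubgroup.zmultiples l
      rw [hall x hxU hxK a, D.toJMod.two]; exact zero_mem _
    have hlt : Nat.card ↥(L' ⊓ K) < Nat.card ↥(R ⊓ K) := by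
      refine Set.Finite.card_lt_card (Set.toFinite _) (Set.ssubset_iff_of_subset hHR |>.2 ⟨x, ⟨hxR, hxK⟩, fun h => hxL h.1⟩)
    obtain ⟨r, hr⟩ := AddSubgroup.card_dvd_of_le hHR
    have hr2 : 2 ≤ r := by
      by_contra hr1
      have : r = 0 ∨ r = 1 := by omega
      rcases this with rfl | rfl
      · rw [mul_zero] at hr; omega
      · rw [mul_one] at hr; omega
    have hKR : R ⊓ K = K := D.toJMod.eq_of_card inf_le_right (by
      have := Nat.mul_le_mul hH32 hr2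
      omega)
    have hrng : ∀ w, c' • w + w ∈ Q := by
      intro w
      obtain ⟨k₁, hk₁, k₂, hk₂, rfl, -, -⟩ := hdec w
      have h1 : act (sH a) k₁ + k₁ ∈ AddSubgroup.zmultiples l := (hKR.ge hk₁).1
      have h2 : act (sH a) k₂ + k₂ ∈ AddSubgroup.zmultiples l := (hKR.ge hk₂).1
      rw [hlift a m ha c' hc' h4, inE_mem_line D] at h1 h2
      have := hQmem _ _ h1 h2
      rw [smul_add, D.toJMod.ω_comm] at this
      rw [smul_add]
      convert this using 1
      abel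
    have hc1 : D.toJMod.π c' ≠ 1 := by rw [hc']; exact fun h => hm1 (Subtype.ext h)
    have h16 := (D.toJMod.perp_fixElt L (c := c') (by rw [hc']; exact hU2 m hm) hc1 h4).2.2
    have : Nat.card ↥(JMod.rng (V := cV z) c') ≤ Q.card := by
      rw [← Nat.card_eq_finsetCard]
      refine Nat.card_le_card_of_injective (fun y : ↥(JMod.rng (V := cV z) c') => (⟨(y : cV z), ?_⟩ : ↥Q))
        fun y y' h => Subtype.ext (congrArg Subtype.val h :)
      obtain ⟨w, hw⟩ := y.2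
      rw [← hw]; exact hrng w
    omega
  have hfixQ : ∀ w ∈ D.toJMod.fix U, w ∈ Q := by
    intro w hw
    have hsw : act (sH a₁) w ∈ D.toJMod.fix U := by
      intro c' hc' h4
      obtain ⟨a, ha⟩ := (hUm _).1 hc'
      rw [← hlift a _ ha c' rfl h4, hscomm, hlift a _ ha c' rfl h4 w, hw c' hc' h4]
    obtain ⟨k₁, hk₁, k₂, hk₂, hwk, e₁, e₂⟩ := hdec w
    have h1 := hfixK k₁ (e₁ ▸ add_mem hsw hw) hk₁
    have h2 := hfixK k₂ (e₂ ▸ add_mem (D.toJMod.ω_mem_fix hsw) (D.toJMod.ω_mem_fix (D.toJMod.ω_mem_fix hw))) hk₂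
    rw [hwk]
    exact hQmem _ _ h1 h2
  -- the two kinds of subgroups
  obtain ⟨c, hc⟩ := D.πsurj kU
  have hto : ∀ {W : Subgroup M22t}, U.map (MulAut.conj kU).toMonoidHom = W →
      ∀ x ∈ W, (D.toJMod.π c)⁻¹ * x * D.toJMod.π c ∈ U := by
    rintro W rfl _ ⟨x, hx, rfl⟩
    show (D.π c)⁻¹ * (kU * x * kU⁻¹) * D.π c ∈ U
    rw [hc]; simpa [mul_assoc] using hx
  rcases hsmall.2 hU16 with h0 | h2
  · exact hplane c (D.toJMod.mem_fix_smul (hto h0) hlfix)
  have hU2P : F.U2 ≤ F.P0 := h2 ▸ hmaple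
  have hU0P : F.U0 ≤ F.P0 := by
    obtain ⟨k0, hk0⟩ := F.sylow F.U0 fun x => ⟨1, Subtype.ext (by
      rw [SubgroupClass.coe_pow, pow_one, pow_two]; exact F.sq0 x x.2)⟩
    obtain ⟨c0, rfl⟩ := D.πsurj k0
    have hle : F.U0.map (MulAut.conj (D.toJMod.π c0)).toMonoidHom ≤ F.P0 := by
      rintro _ ⟨x, hx, rfl⟩; exact hk0 x hx
    rw [← D.toJMod.good_in_P0 L (D.toJMod.good_map L (D.toJMod.good_U0 L) c0) hle]
    exact hle
  have hnorm : ∀ x ∈ F.U2, ∀ y ∈ F.U0, x * y * x⁻¹ ∈ F.U0 := by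
    intro x hx y hy
    obtain ⟨cx, rfl⟩ := D.πsurj x
    have hle : F.U0.map (MulAut.conj (D.toJMod.π cx)).toMonoidHom ≤ F.P0 := by
      rintro _ ⟨w, hw, rfl⟩
      exact mul_mem (mul_mem (hU2P hx) (hU0P hw)) (inv_mem (hU2P hx))
    exact (D.toJMod.good_in_P0 L (D.toJMod.good_map L (D.toJMod.good_U0 L) cx) hle).le ⟨y, hy, rfl⟩
  obtain ⟨m, hm0, hm2, hmne⟩ := D.toJMod.exists_fixed L F.sq2 (T := D.toJMod.fix F.U0)
    (D.toJMod.ne_bot_of_card (n := 6) (by norm_num) (D.toJMod.fix_U0 L).1)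
    fun d hd _ w hw => D.toJMod.fix_invariant (fun y hy => hnorm _ hd y hy) hw
  have hback : c⁻¹ • m ∈ D.toJMod.fix U := by
    refine D.toJMod.mem_fix_smul (U := F.U2) (fun x hx => ?_) hm2
    rw [map_inv, inv_inv, ← h2]
    exact ⟨x, hx, show kU * x * kU⁻¹ = D.π c * x * (D.π c)⁻¹ by rw [hc]⟩
  have hωfix : ∀ {w : cV z}, w ∈ D.toJMod.fix F.U0 → D.toJMod.ω • w ∈ D.toJMod.fix F.U0 :=
    fun hw => D.toJMod.ω_mem_fix hw
  have hmQ := hfixQ _ hback
  rw [hQ] at hmQ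
  simp only [Finset.mem_insert, Finset.mem_singleton, inv_smul_eq_iff] at hmQ
  rcases hmQ with h | h | h | h
  · exact hmne (h.trans (smul_zero c))
  · exact hplane c (h ▸ hm0)
  · refine hplane c ?_
    have := hωfix (hωfix hm0)
    rwa [h, ← D.toJMod.ω_comm c, D.toJMod.ω3_smul] at this
  · refine hplane c ?_
    have := hωfix hm0
    rw [h, show D.toJMod.ω • l + l = D.toJMod.ω • D.toJMod.ω • l by rw [hω2, add_comm],
      ← D.toJMod.ω_comm c, ← D.toJMod.ω_comm c, D.toJMod.ω3_smul] at this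
    exact this

end Cfsg.Agent.Lib.J4Fusion14
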