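import Cfsg.Agent.Lib.J4Fusion14.Defs
import Cfsg.Agent.Lib.M22Nse57.Model

/-!
# The centraliser of an element of order three in M22

Written by helper46.
-/

set_option autoImplicit false
set_option maxRecDepth 100000

namespace Cfsg.Agent.Lib.J4Fusion14.M22Three

open Cfsg.Agent.Lib.Compute Cfsg.Agent.Lib.Compute.Mathieu
open scoped Pointwise
open Cfsg.Agent.Lib.J4Type19 (MG mc c1 enc_mul card_le_of_codes M22t)
open Cfsg.Agent.Lib.M22Nse57 (nseElem nseElem_succ nseElem_cent nseElem_order card_m22_order_eq nseReps nseOrd nseSize)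

local notation "en" => m22Enc

/-- The element of order three. -/
def litA : ℕ × ℕ := (0x1710090b1406050d12111607130c08150a0f0e0403020100, 0x170d08130b0f0e160605100a140715090c12110403020100)

/-- An involution commuting with it. -/
def litT : ℕ × ℕ := (0x171516110e1214090f13080c050a100d07060b0201040300, 0x171516110e1214090f13080c050a100d07060b0201040300)

/-- A second element of order three commuting with it. -/
def litQ : ℕ × ℕ := (0x170b080e05061613120d140c110a1509070f100302040100, 0x1711090d100f0b0506140e0c160a08150712130204030100)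

theorem lits_check : ([litA, litT, litQ].all (pairCheck 8 24 m22Chain)) = true := by decide +kernel

/-- The code of the conjugate involution. -/
noncomputable def cT₁ : ℕ := mc (mc litQ.1 litT.1) litQ.2

/-- The nine codes of the Sylow subgroup. -/
noncomputable def nine : List ℕ :=
  [c1, litA.1, litA.2].flatMap fun x => [c1, litQ.1, litQ.2].map fun y => mc x y

theorem rel_check : (Nat.beq (nseReps.getD 1 ((0, 0), 0, 0)).1.1 litA.1 &&
    !Nat.beq litT.1 c1 && Nat.beq (mc litT.1 litT.1) c1 &&
    Nat.beq (mc litT.1 litA.1) (mc litA.1 litT.1) &&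
    Nat.beq (mc litQ.1 (mc litQ.1 litQ.1)) c1 && !Nat.beq litQ.1 c1 &&
    Nat.beq (mc litQ.1 litA.1) (mc litA.1 litQ.1) &&
    Nat.beq (mc (mc litQ.1 cT₁) litQ.2) (mc litT.1 cT₁) &&
    !Nat.beq cT₁ litT.1 && !Nat.beq litQ.1 litA.1 && !Nat.beq litQ.1 litA.2 &&
    decide nine.Nodup) = true := by decide +kernel

theorem four_check : ((transList (permOps 8 24) litA.1 litA.1 m22Chain (permOps 8 24).one []).all fun x =>
    !Nat.beq (mc x x) c1 || Nat.beq x c1 || Nat.beq x litT.1 || Nat.beq x cT₁ || Nat.beq x (mc litT.1 cT₁)) = true := by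
  decide +kernel

theorem norm_check : ((transList (permOps 8 24) litA.1 litA.1 m22Chain (permOps 8 24).one []).all fun x =>
    (nine.all fun s => !Nat.beq (mc x litQ.1) (mc s x)) || decide (x ∈ nine)) = true := by decide +kernel

theorem beq' {p q : ℕ} (h : Nat.beq p q = true) : p = q := Nat.eq_of_beq_eq_true h

theorem ne' {g g' : MG} (h : (!Nat.beq (en g) (en g')) = true) : g ≠ g' := fun e => by
  subst e
  simp at h

theorem card_conj_mul {M : Type*} [Group M] [Finite M] (x : M) :
    Nat.card {y : M // IsConj x y} * Nat.card (Subgroup.centralizer ({x} : Set M)) = Nat.card M := by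
  have h := MulAction.orbitEquivQuotientStabilizer (ConjAct M) x
  have hS : MulAction.stabilizer (ConjAct M) x = Subgroup.centralizer ({x} : Set M) := ConjAct.stabilizer_eq_centralizer x
  have e : Nat.card {y : M // IsConj x y} = Nat.card (MulAction.orbit (ConjAct M) x) :=
    Nat.card_congr (Equiv.subtypeEquivRight fun y => by rw [ConjAct.mem_orbit_conjAct]; exact isConj_comm)
  rw [e, Nat.card_congr h, ← hS]
  exact (Subgroup.card_eq_card_quotient_mul_card_subgroup (MulAction.stabilizer (ConjAct M) x)).symm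

/-- A single class: the count and the bound on the centralizer are exact. -/
theorem one_class {M : Type*} [Group M] [Finite M] {n k m : ℕ} (hk : m * k = Nat.card M)
    (hm : Nat.card {g : M // orderOf g = n} = m) {x : M} (hx : orderOf x = n)
    (hc : Nat.card (Subgroup.centralizer ({x} : Set M)) ≤ k) :
    Nat.card (Subgroup.centralizer ({x} : Set M)) = k ∧ ∀ y, orderOf y = n → IsConj x y := by
  have hsub : {y : M | IsConj x y} ⊆ {g : M | orderOf g = n} := by
    intro y hy
    obtain ⟨c, rfl⟩ := isConj_iff.1 (show IsConj x y from hy)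
    exact ((MulAut.conj c).orderOf_eq x).trans hx
  have h1 := card_conj_mul x
  have h2 : Nat.card {y : M // IsConj x y} ≤ m := hm ▸ Nat.card_mono (Set.toFinite _) hsub
  set A := Nat.card {y : M // IsConj x y}
  set C := Nat.card (Subgroup.centralizer ({x} : Set M))
  have hMpos : 0 < Nat.card M := Nat.card_pos
  have hC : C = k := by
    by_contra hne
    have : C < k := lt_of_le_of_ne hc hne
    have : A * C < m * k := by
      have hmpos : 0 < m := Nat.pos_of_mul_pos_right (a := m) (b := k) (hk ▸ hMpos)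
      nlinarith
    omega
  refine ⟨hC, fun y hy => ?_⟩
  rw [hC] at h1
  have hA : A = m := Nat.eq_of_mul_eq_mul_right (Nat.pos_of_mul_pos_left (hk ▸ hMpos)) (h1.trans hk.symm)
  have hcard : ({g : M | orderOf g = n} : Set M).ncard ≤ ({y : M | IsConj x y} : Set M).ncard := by
    rw [← Nat.card_coe_set_eq, ← Nat.card_coe_set_eq]
    exact le_of_eq (hm.trans hA.symm)
  exact (Set.ext_iff.1 (Set.eq_of_subset_of_ncard_le hsub hcard) y).2 hy

/-- Nine elements of the centraliser normalise a subgroup of order nine. -/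
theorem exists_norm (x : MG) (hx : en x = litA.1) (hc : Nat.card (Subgroup.centralizer ({x} : Set MG)) = 36)
    (hall : ∀ y : MG, orderOf y = 3 → IsConj x y) :
    ∀ S : Sylow 3 MG, Nat.card (Subgroup.normalizer ((S : Subgroup MG) : Set MG)) = 72 := by
  classical
  have : Fact (Nat.Prime 3) := ⟨Nat.prime_three⟩
  have h := rel_check
  simp only [Bool.and_eq_true, decide_eq_true_eq] at h
  obtain ⟨⟨⟨⟨⟨⟨⟨⟨⟨⟨⟨-, -⟩, -⟩, -⟩, hq3⟩, hq1⟩, hqa⟩, -⟩, -⟩, hqn⟩, hqn'⟩, -⟩ := h
  obtain ⟨q, hq, -⟩ := m22_lift (List.all_eq_true.1 lits_check litQ (by simp))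
  obtain ⟨a', ha', ha''⟩ := m22_lift (List.all_eq_true.1 lits_check litA (by simp))
  obtain rfl : a' = x := m22Enc_inj (ha'.trans hx.symm)
  have hQ3 : q * (q * q) = 1 := m22Enc_inj (by rw [enc_mul, enc_mul, hq, m22Enc_one]; exact beq' hq3)
  have hcomm : Commute q a' := m22Enc_inj (by rw [enc_mul, enc_mul, hq, hx]; exact beq' hqa)
  have hqC : q ∈ Subgroup.centralizer ({a'} : Set MG) := Subgroup.mem_centralizer_singleton_iff.2 hcomm.eq
  have hM : Nat.card MG = 443520 := card_m22
  have h9 : ∀ P : Sylow 3 MG, Nat.card (P : Subgroup MG) = 9 := by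
    intro P
    rw [P.card_eq_multiplicity, hM, show (443520 : ℕ) = 3 ^ 2 * 49280 by norm_num,
      Nat.factorization_mul (by norm_num) (by norm_num), Nat.Prime.factorization_pow Nat.prime_three]
    simp [Nat.factorization_eq_zero_of_not_dvd (by norm_num : ¬ 3 ∣ 49280)]
  have hcube : ∀ y : MG, y ^ 3 = 1 → y ≠ 1 → orderOf y = 3 := fun y h1 h2 => orderOf_eq_prime h1 h2
  have ha3 : orderOf a' = 3 := by
    have hA1 : a' ≠ 1 := by
      intro e
      rw [e, Subgroup.centralizer_eq_top_iff_subset.2 (by simp), Subgroup.card_top, hM] at hc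
      norm_num at hc
    obtain ⟨P⟩ := (inferInstance : Nonempty (Sylow 3 MG))
    obtain ⟨b, hb⟩ := exists_prime_orderOf_dvd_card' (G := ↥(P : Subgroup MG)) 3 (by rw [h9]; norm_num)
    obtain ⟨c, hcc⟩ := isConj_iff.1 (hall b (by rw [Subgroup.orderOf_coe, hb]))
    rw [← (MulAut.conj c).orderOf_eq a', show MulAut.conj c a' = b from hcc, Subgroup.orderOf_coe, hb]
  -- the subgroup of order nine
  have hgrp : IsPGroup 3 (Subgroup.zpowers a' ⊔ Subgroup.zpowers q : Subgroup MG) := by
    refine IsPGroup.to_sup_of_normal_right' ?_ ?_ ?_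
    · exact IsPGroup.of_card (n := 1) (by rw [Nat.card_zpowers, ha3]; norm_num)
    · refine IsPGroup.of_card (n := 1) (by
        rw [Nat.card_zpowers, hcube q (by rw [← hQ3]; simp [pow_succ, mul_assoc])
          (ne' (by rw [hq, m22Enc_one]; exact hq1))]; norm_num)
    · refine (Subgroup.zpowers_le.2 ?_)
      refine Subgroup.mem_normalizer_iff.2 fun y => ?_
      constructor
      · intro hy
        obtain ⟨i, rfl⟩ := Subgroup.mem_zpowers_iff.1 hy
        rw [(hcomm.symm.zpow_right i).eq, mul_inv_cancel_right]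
        exact zpow_mem (Subgroup.mem_zpowers q) i
      · intro hy
        obtain ⟨i, hi⟩ := Subgroup.mem_zpowers_iff.1 hy
        have : y = q ^ i := by
          have := congrArg (fun w => a'⁻¹ * w * a') hi
          simpa [mul_assoc, ← (hcomm.symm.zpow_right i).eq] using this.symm
        rw [this]; exact zpow_mem (Subgroup.mem_zpowers q) i
  obtain ⟨P, hP⟩ := hgrp.exists_le_sylow
  have haP : a' ∈ (P : Subgroup MG) := hP (Subgroup.mem_sup_left (Subgroup.mem_zpowers a'))
  have hqP : q ∈ (P : Subgroup MG) := hP (Subgroup.mem_sup_right (Subgroup.mem_zpowers q))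
  have hPc : IsMulCommutative (P : Subgroup MG) :=
    IsPGroup.isMulCommutative_of_card_eq_prime_sq (p := 3) (by rw [h9]; norm_num)
  have hmem : ∀ y : MG, y ∈ (P : Subgroup MG) ↔ en y ∈ nine := by
    have hsub : ∀ c ∈ nine, ∃ y ∈ (P : Subgroup MG), en y = c := by
      intro c hc'
      simp only [nine, List.mem_flatMap, List.mem_map] at hc'
      obtain ⟨u, hu, v, hv, rfl⟩ := hc'
      have hu' : ∃ y ∈ (P : Subgroup MG), en y = u := by
        simp only [List.mem_cons, List.not_mem_nil, or_false] at hu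
        rcases hu with rfl | rfl | rfl
        exacts [⟨1, one_mem _, m22Enc_one⟩, ⟨a', haP, hx⟩, ⟨a'⁻¹, inv_mem haP, ha''⟩]
      have hv' : ∃ y ∈ (P : Subgroup MG), en y = v := by
        obtain ⟨q', hq'1, hq'2⟩ := m22_lift (List.all_eq_true.1 lits_check litQ (by simp))
        obtain rfl : q' = q := m22Enc_inj (hq'1.trans hq.symm)
        simp only [List.mem_cons, List.not_mem_nil, or_false] at hv
        rcases hv with rfl | rfl | rfl
        exacts [⟨1, one_mem _, m22Enc_one⟩, ⟨q', hqP, hq⟩, ⟨q'⁻¹, inv_mem hqP, hq'2⟩]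
      obtain ⟨y, hy, rfl⟩ := hu'
      obtain ⟨z, hz, rfl⟩ := hv'
      exact ⟨y * z, mul_mem hy hz, enc_mul y z⟩
    have hnd : nine.Nodup := by
      have h := rel_check
      simp only [Bool.and_eq_true, decide_eq_true_eq] at h
      exact h.2
    have himg : en '' ((P : Subgroup MG) : Set MG) = (nine.toFinset : Set ℕ) := by
      refine (Set.eq_of_subset_of_ncard_le ?_ ?_ (Set.toFinite _)).symm
      · intro c hc'
        obtain ⟨y, hy, e⟩ := hsub c (List.mem_toFinset.1 hc')
        exact ⟨y, hy, e⟩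
      · rw [Set.ncard_image_of_injective _ m22Enc_inj, Set.ncard_coe_finset, List.toFinset_card_of_nodup hnd]
        rw [show ((P : Subgroup MG) : Set MG).ncard = 9 from (Nat.card_coe_set_eq _).symm.trans (h9 P)]
        rfl
    intro y
    rw [← List.mem_toFinset, ← Finset.mem_coe, ← himg, m22Enc_inj.mem_set_image]
    rfl
  set N := Subgroup.normalizer ((P : Subgroup MG) : Set MG)
  have hstab : N ⊓ Subgroup.centralizer ({a'} : Set MG) = (P : Subgroup MG) := by
    refine le_antisymm (fun y hy => ?_) (le_inf Subgroup.le_normalizer fun y hy => ?_)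
    · obtain ⟨hyN, hyC⟩ := Subgroup.mem_inf.1 hy
      have hl := m22_mem_transList (show y * a' = a' * y from Subgroup.mem_centralizer_singleton_iff.1 hyC)
      rw [hx] at hl
      have hh := List.all_eq_true.1 norm_check _ hl
      rw [Bool.or_eq_true, decide_eq_true_eq] at hh
      refine (hmem y).2 (hh.resolve_left fun hno => ?_)
      have hs : y * q * y⁻¹ ∈ (P : Subgroup MG) := (Subgroup.mem_normalizer_iff.1 hyN q).1 hqP
      have := List.all_eq_true.1 hno _ ((hmem _).1 hs)
      rw [← hq, ← enc_mul, ← enc_mul, inv_mul_cancel_right] at this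
      simp at this
    · exact Subgroup.mem_centralizer_singleton_iff.2 (congrArg Subtype.val
        (hPc.is_comm.comm (⟨y, hy⟩ : ↥(P : Subgroup MG)) ⟨a', haP⟩))
  have horb : Nat.card N = 8 * Nat.card ↥(N ⊓ Subgroup.centralizer ({a'} : Set MG)) := by
    have hle : ∀ y ∈ (P : Subgroup MG), y ∈ Subgroup.centralizer ((P : Subgroup MG) : Set MG) := fun y hy z hz =>
      congrArg Subtype.val (hPc.is_comm.comm (⟨z, hz⟩ : ↥(P : Subgroup MG)) ⟨y, hy⟩)
    have h8 : Nat.card {y : MG // y ∈ (P : Subgroup MG) ∧ y ≠ 1} = 8 := by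
      rw [show Nat.card {y : MG // y ∈ (P : Subgroup MG) ∧ y ≠ 1} = {y : MG | y ∈ (P : Subgroup MG) ∧ y ≠ 1}.ncard from
          Nat.card_coe_set_eq _,
        show {y : MG | y ∈ (P : Subgroup MG) ∧ y ≠ 1} = ((P : Subgroup MG) : Set MG) \ {1} from Set.ext fun y => Iff.rfl,
        Set.ncard_sdiff_singleton_of_mem (one_mem _),
        show ((P : Subgroup MG) : Set MG).ncard = 9 from (Nat.card_coe_set_eq _).symm.trans (h9 P)]
    have htr : ∀ y : MG, y ∈ (P : Subgroup MG) ∧ y ≠ 1 → ∃ n ∈ N, n * a' * n⁻¹ = y := by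
      rintro y ⟨hy, hy1⟩
      have ho : orderOf y = 3 := by
        have hd : orderOf y ∣ 3 := by
          have : y ^ 3 = 1 := by
            obtain ⟨u, hu, v, hv, e⟩ := (by
              have := (hmem y).1 hy
              simpa only [nine, List.mem_flatMap, List.mem_map] using this :
              ∃ u ∈ [c1, litA.1, litA.2], ∃ v ∈ [c1, litQ.1, litQ.2], mc u v = en y)
            have hu' : ∃ w : MG, w ^ 3 = 1 ∧ en w = u ∧ Commute w q ∧ Commute w a' := by
              have ha33 : a' ^ 3 = 1 := ha3 ▸ pow_orderOf_eq_one a'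
              simp only [List.mem_cons, List.not_mem_nil, or_false] at hu
              rcases hu with rfl | rfl | rfl
              exacts [⟨1, one_pow 3, m22Enc_one, Commute.one_left _, Commute.one_left _⟩,
                ⟨a', ha33, hx, hcomm.symm, Commute.refl _⟩,
                ⟨a'⁻¹, by rw [inv_pow, ha33, inv_one], ha'', hcomm.symm.inv_left, (Commute.refl a').inv_left⟩]
            obtain ⟨w, hw, rfl, hwq, -⟩ := hu'
            obtain ⟨q', hq'1, hq'2⟩ := m22_lift (List.all_eq_true.1 lits_check litQ (by simp))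
            obtain rfl : q' = q := m22Enc_inj (hq'1.trans hq.symm)
            have hq33 : q' ^ 3 = 1 := by rw [← hQ3]; simp [pow_succ, mul_assoc]
            have hv' : ∃ r : MG, r ^ 3 = 1 ∧ en r = v ∧ Commute w r := by
              simp only [List.mem_cons, List.not_mem_nil, or_false] at hv
              rcases hv with rfl | rfl | rfl
              exacts [⟨1, one_pow 3, m22Enc_one, Commute.one_right _⟩, ⟨q', hq33, hq, hwq⟩,
                ⟨q'⁻¹, by rw [inv_pow, hq33, inv_one], hq'2, hwq.inv_right⟩]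
            obtain ⟨r, hr, rfl, hwr⟩ := hv'
            rw [← m22Enc_inj ((enc_mul w r).trans e), hwr.mul_pow, hw, hr, one_mul]
          exact orderOf_dvd_of_pow_eq_one this
        rcases (Nat.dvd_prime Nat.prime_three).1 hd with h1 | h1
        · exact absurd (orderOf_eq_one_iff.1 h1) hy1
        · exact h1
      obtain ⟨g, rfl⟩ := isConj_iff.1 (hall y ho)
      obtain ⟨n, hn, e⟩ := P.conj_eq_normalizer_conj_of_mem_centralizer a' g⁻¹ (hle a' haP)
        (by rw [inv_inv]; exact hle _ hy)
      exact ⟨n⁻¹, inv_mem hn, by rw [inv_inv]; simpa using e.symm⟩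
    choose f hf hfa using htr
    rw [← h8, ← Nat.card_prod]
    refine Nat.card_congr (Equiv.ofBijective
      (fun p : {y : MG // y ∈ (P : Subgroup MG) ∧ y ≠ 1} × ↥(N ⊓ Subgroup.centralizer ({a'} : Set MG)) =>
        (⟨f p.1 p.1.2 * p.2, mul_mem (hf _ _) (Subgroup.mem_inf.1 p.2.2).1⟩ : ↥N)) ⟨?_, ?_⟩).symm
    · rintro ⟨u, c⟩ ⟨v, d⟩ e
      have e' : f u u.2 * (c : MG) = f v v.2 * (d : MG) := congrArg Subtype.val e
      have key : ∀ (u : {y : MG // y ∈ (P : Subgroup MG) ∧ y ≠ 1}) (c : ↥(N ⊓ Subgroup.centralizer ({a'} : Set MG))),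
          f u u.2 * (c : MG) * a' * (f u u.2 * (c : MG))⁻¹ = u := fun u c => by
        calc f u u.2 * (c : MG) * a' * (f u u.2 * (c : MG))⁻¹
            = f u u.2 * ((c : MG) * a') * (c : MG)⁻¹ * (f u u.2)⁻¹ := by group
          _ = u := by
              rw [Subgroup.mem_centralizer_singleton_iff.1 (Subgroup.mem_inf.1 c.2).2, ← mul_assoc (f u u.2) a',
                mul_inv_cancel_right, hfa]
      have huv : u = v := Subtype.ext (by rw [← key u c, e', key v d])
      subst huv
      exact Prod.ext rfl (Subtype.ext (mul_left_cancel e'))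
    · rintro ⟨n, hn⟩
      have hmem' : n * a' * n⁻¹ ∈ (P : Subgroup MG) ∧ n * a' * n⁻¹ ≠ 1 :=
        ⟨(Subgroup.mem_normalizer_iff.1 hn a').1 haP, fun e => by
          rw [conj_eq_one_iff] at e
          rw [e, orderOf_one] at ha3
          omega⟩
      refine ⟨(⟨_, hmem'⟩, ⟨(f _ hmem')⁻¹ * n, Subgroup.mem_inf.2 ⟨mul_mem (inv_mem (hf _ _)) hn,
        Subgroup.mem_centralizer_singleton_iff.2 ?_⟩⟩), Subtype.ext (mul_inv_cancel_left _ _)⟩
      have e := hfa _ hmem'
      calc (f _ hmem')⁻¹ * n * a' = (f _ hmem')⁻¹ * (n * a' * n⁻¹) * n := by group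
        _ = (f _ hmem')⁻¹ * (f _ hmem' * a' * (f _ hmem')⁻¹) * n := by rw [e]
        _ = a' * ((f _ hmem')⁻¹ * n) := by group
  intro S
  obtain ⟨g, hg⟩ := MulAction.exists_smul_eq MG P S
  rw [← hg, Sylow.coe_subgroup_smul]
  have hmap : Subgroup.normalizer (((MulAut.conj g • (P : Subgroup MG)) : Subgroup MG) : Set MG) =
      N.map (MulAut.conj g).toMonoidHom := by
    exact (Subgroup.map_equiv_normalizer_eq (P : Subgroup MG) (MulAut.conj g)).symm
  rw [hmap, Subgroup.card_map_of_injective (MulEquiv.injective _), horb, hstab, h9]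

/-- The facts in the certified group. -/
theorem exists_three_gen : Nonempty (Three MG) := by
  classical
  have : Fact (Nat.Prime 2) := ⟨Nat.prime_two⟩
  have h := rel_check
  simp only [Bool.and_eq_true, decide_eq_true_eq] at h
  obtain ⟨⟨⟨⟨⟨⟨⟨⟨⟨⟨⟨hA, ht1⟩, htt⟩, hta⟩, hq3⟩, hq1⟩, hqa⟩, hqt⟩, htn⟩, hqn⟩, hqn'⟩, -⟩ := h
  obtain ⟨t, ht, ht'⟩ := m22_lift (List.all_eq_true.1 lits_check litT (by simp))
  obtain ⟨q, hq, hq'⟩ := m22_lift (List.all_eq_true.1 lits_check litQ (by simp))
  obtain ⟨a₀, ha₀, ha₀'⟩ := m22_lift (List.all_eq_true.1 lits_check litA (by simp))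
  set a : MG := nseElem (2 : Fin 12) with hadef
  have ha : en a = litA.1 := (nseElem_succ (1 : Fin 11)).trans (beq' hA)
  obtain rfl : a₀ = a := m22Enc_inj (ha₀.trans ha.symm)
  have hM : Nat.card MG = 443520 := card_m22
  have h3 : Nat.card {g : MG // orderOf g = 3} = 12320 := by rw [card_m22_order_eq 3]; decide
  have h2 : Nat.card {g : MG // orderOf g = 2} = 1155 := by rw [card_m22_order_eq 2]; decide
  obtain ⟨hC, hall⟩ := one_class (k := 36) (by rw [hM]) h3 (x := a) ((nseElem_order 2).trans (by decide))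
    (nseElem_cent 2)
  have hQ3 : q ^ 3 = 1 := m22Enc_inj (by
    rw [show q ^ 3 = q * (q * q) by simp [pow_succ, mul_assoc], enc_mul, enc_mul, hq, m22Enc_one]; exact beq' hq3)
  have hT : t * t = 1 := m22Enc_inj (by rw [enc_mul, ht, m22Enc_one]; exact beq' htt)
  have hTne : t ≠ 1 := ne' (by rw [ht, m22Enc_one]; exact ht1)
  have hQa : Commute q a := m22Enc_inj (by rw [enc_mul, enc_mul, hq, ha]; exact beq' hqa)
  have hTa : Commute t a := m22Enc_inj (by rw [enc_mul, enc_mul, ht, ha]; exact beq' hta)
  have he1 : en (q * t * q⁻¹) = cT₁ := by rw [enc_mul, enc_mul, hq, ht, hq']; rfl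
  have hT1 : q * t * q⁻¹ * (q * t * q⁻¹) = 1 := by
    rw [show q * t * q⁻¹ * (q * t * q⁻¹) = q * (t * t) * q⁻¹ by group, hT, mul_one, mul_inv_cancel]
  have hqq : q * (q * t * q⁻¹) * q⁻¹ = t * (q * t * q⁻¹) := m22Enc_inj (by
    rw [enc_mul (q * (q * t * q⁻¹)), enc_mul q, enc_mul t, hq, he1, hq', ht]; exact beq' hqt)
  refine ⟨{ a := a, t := t, t₁ := q * t * q⁻¹, q := q
            a3 := ?_, a1 := ?_, tt := hT, t1 := hTne, t₁₁ := hT1, t₁_ne := ?_, t₁t := ?_, ta := hTa
            t₁a := (hQa.mul_left hTa).mul_left hQa.inv_left, comm := ?_, q3 := hQ3, qa := hQa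
            qt := rfl, qt₁ := hqq, qne := ?_, qne' := ?_, four := ?_, card_cent := hC, isConj := hall
            two_part := ?_, card_norm := exists_norm a ha hC hall }⟩
  · rw [show (3 : ℕ) = orderOf a from ((nseElem_order 2).trans (by decide)).symm]; exact pow_orderOf_eq_one a
  · intro e
    have h' := (nseElem_order 2)
    rw [← hadef, e, orderOf_one] at h'
    exact absurd h' (by decide)
  · intro e
    exact hTne (conj_eq_one_iff.1 e)
  · exact ne' (by rw [he1, ht]; exact htn)
  · -- the product has order two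
    have hsq : t * (q * t * q⁻¹) * (t * (q * t * q⁻¹)) = 1 := by
      rw [← hqq, show q * (q * t * q⁻¹) * q⁻¹ * (q * (q * t * q⁻¹) * q⁻¹) = q * (q * t * q⁻¹ * (q * t * q⁻¹)) * q⁻¹ by
        group, hT1, mul_one, mul_inv_cancel]
    show t * (q * t * q⁻¹) = q * t * q⁻¹ * t
    have := congrArg (fun w => t * w * (q * t * q⁻¹)) hsq
    simp only [mul_one] at this
    calc t * (q * t * q⁻¹) = t * (t * (q * t * q⁻¹) * (t * (q * t * q⁻¹))) * (q * t * q⁻¹) := this.symm
      _ = t * t * (q * t * q⁻¹) * t * (q * t * q⁻¹ * (q * t * q⁻¹)) := by simp only [mul_assoc]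
      _ = q * t * q⁻¹ * t := by rw [hT, hT1, one_mul, mul_one]
  · exact ne' (by rw [hq, ha]; exact hqn)
  · exact ne' (by rw [hq, ha₀']; exact hqn')
  · intro s hs hss
    have hl := m22_mem_transList hs.eq
    rw [ha] at hl
    have hh := List.all_eq_true.1 four_check _ hl
    simp only [Bool.or_eq_true, Bool.not_eq_true'] at hh
    rcases hh with (((hh | hh) | hh) | hh) | hh
    · rw [← enc_mul, hss, m22Enc_one] at hh
      simp [c1] at hh
    · exact Or.inl (m22Enc_inj ((beq' hh).trans m22Enc_one.symm))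
    · exact Or.inr (Or.inl (m22Enc_inj ((beq' hh).trans ht.symm)))
    · exact Or.inr (Or.inr (Or.inl (m22Enc_inj ((beq' hh).trans he1.symm))))
    · exact Or.inr (Or.inr (Or.inr (m22Enc_inj (by rw [enc_mul, ht, he1]; exact beq' hh))))
  · obtain ⟨x, hx2, hxc⟩ : ∃ x : MG, orderOf x = 2 ∧ Nat.card (Subgroup.centralizer ({x} : Set MG)) ≤ 384 :=
      ⟨nseElem 1, (nseElem_order 1).trans (by decide), nseElem_cent 1⟩
    obtain ⟨hX, hallx⟩ := one_class (k := 384) (by rw [hM]) h2 hx2 hxc
    have hCt : Nat.card (Subgroup.centralizer ({t} : Set MG)) = 384 := by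
      have h1 := card_conj_mul t
      have h4 := card_conj_mul x
      have ht2 : orderOf t = 2 := orderOf_eq_prime (by rw [pow_two, hT]) hTne
      have e : Nat.card {y : MG // IsConj t y} = Nat.card {y : MG // IsConj x y} :=
        Nat.card_congr (Equiv.subtypeEquivRight fun y =>
          ⟨fun h => (hallx t ht2).trans h, fun h => (hallx t ht2).symm.trans h⟩)
      rw [e, ← h4] at h1
      have hp : 0 < Nat.card {y : MG // IsConj x y} := Nat.pos_of_ne_zero fun h0 => by
        rw [h0, zero_mul, hM] at h4; norm_num at h4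
      rw [Nat.eq_of_mul_eq_mul_left hp h1, hX]
    obtain ⟨S, hS⟩ := Sylow.exists_subgroup_card_pow_prime (G := ↥(Subgroup.centralizer ({t} : Set MG))) 2 (n := 7)
      (by rw [hCt]; norm_num)
    refine ⟨S.map (Subgroup.centralizer ({t} : Set MG)).subtype, ?_, ?_⟩
    · rw [Subgroup.card_map_of_injective (Subgroup.subtype_injective _), hS]; norm_num
    · rintro _ ⟨s, -, rfl⟩
      exact Subgroup.mem_centralizer_singleton_iff.1 s.2

/-- Transport along an isomorphism. -/
theorem three_map {M N : Type*} [Group M] [Group N] (e : M ≃* N) (T : Three M) : Nonempty (Three N) := by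
  have ci : ∀ {x y : M}, Commute x y → Commute (e x) (e y) := fun h => h.map e
  refine ⟨{ a := e T.a, t := e T.t, t₁ := e T.t₁, q := e T.q
            a3 := by rw [← map_pow, T.a3, map_one], a1 := fun h => T.a1 (e.map_eq_one_iff.1 h)
            tt := by rw [← map_mul, T.tt, map_one], t1 := fun h => T.t1 (e.map_eq_one_iff.1 h)
            t₁₁ := by rw [← map_mul, T.t₁₁, map_one], t₁_ne := fun h => T.t₁_ne (e.map_eq_one_iff.1 h)
            t₁t := fun h => T.t₁t (e.injective h), ta := ci T.ta, t₁a := ci T.t₁a, comm := ci T.comm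
            q3 := by rw [← map_pow, T.q3, map_one], qa := ci T.qa
            qt := by rw [← map_inv, ← map_mul, ← map_mul, T.qt]
            qt₁ := by rw [← map_inv, ← map_mul, ← map_mul, T.qt₁, map_mul]
            qne := fun h => T.qne (e.injective h)
            qne' := fun h => T.qne' (e.injective (by rw [map_inv, h]))
            four := ?_, card_cent := ?_, isConj := ?_, two_part := ?_, card_norm := ?_ }⟩
  · intro s hs hss
    obtain ⟨r, rfl⟩ := e.surjective s
    have hr : Commute r T.a := by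
      have := hs.map e.symm
      simpa using this
    rcases T.four r hr (e.injective (by rw [map_mul, hss, map_one])) with h | h | h | h <;> subst h <;> simp
  · rw [← T.card_cent]
    refine (Nat.card_congr (e.toEquiv.subtypeEquiv fun x => ?_)).symm
    rw [Subgroup.mem_centralizer_singleton_iff, Subgroup.mem_centralizer_singleton_iff]
    exact ⟨fun h => by simpa using congrArg e h, fun h => e.injective (by simpa using h)⟩
  · intro x hx
    obtain ⟨r, rfl⟩ := e.surjective x
    exact e.toMonoidHom.map_isConj (T.isConj r (by rw [← e.orderOf_eq, hx]))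
  · obtain ⟨S, hS, hc⟩ := T.two_part
    refine ⟨S.map e.toMonoidHom, by rw [Subgroup.card_map_of_injective e.injective, hS], ?_⟩
    rintro _ ⟨s, hs, rfl⟩
    exact ci (hc s hs)
  · intro S
    let S' : Sylow 3 M := S.comapOfInjective e.toMonoidHom e.injective (by
      intro x _; exact e.surjective x)
    rw [← T.card_norm S']
    have : Subgroup.normalizer ((S' : Subgroup M) : Set M) =
        (Subgroup.normalizer ((S : Subgroup N) : Set N)).map e.symm.toMonoidHom := by
      rw [Subgroup.map_equiv_normalizer_eq]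
      congr 1
      show ((Subgroup.comap e.toMonoidHom (S : Subgroup N) : Subgroup M) : Set M) = _
      exact congrArg _ (Subgroup.comap_equiv_eq_map_symm e (S : Subgroup N))
    rw [this, Subgroup.card_map_of_injective e.symm.injective]

theorem exists_three : Nonempty (Three M22t) := by
  obtain ⟨T⟩ := exists_three_gen
  exact three_map (MulEquiv.subgroupCongr Fusion.Mathieu.eq_m22.symm) T

end Cfsg.Agent.Lib.J4Fusion14.M22Three

namespace Cfsg.Agent.Lib.J4Fusion14

/-- The data on the centraliser of an element of order three in M22. -/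
theorem exists_three : Nonempty (Three J4Type19.M22t) := M22Three.exists_three

end Cfsg.Agent.Lib.J4Fusion14
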