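import Cfsg.Agent.Lib.J4Fusion14.FrameExists

/-!
# The centraliser of `P` in `H` is perfect

If `z` has a conjugate `u ≠ z` commuting with `P`, then a suitable conjugation carries the centraliser
of `u` in `C` onto the centraliser of `x` and `u' = g⁻¹ z g` in `H`, whose derived group contains `u'`.
-/

set_option autoImplicit false

namespace Cfsg.Agent.Lib.J4Fusion14

open Cfsg Cfsg.Agent.Lib.J4Type19
open scoped commutatorElement

attribute [local instance] m22_finite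

variable {G : Type*} [Group G]

/-- The centraliser of `x` and `v` in `H`. -/
def rGrp (z x v : G) : Subgroup G :=
  cH z ⊓ Subgroup.centralizer ({x} : Set G) ⊓ Subgroup.centralizer ({v} : Set G)

theorem mem_rGrp {z x v r : G} : r ∈ rGrp z x v ↔ Commute r z ∧ Commute r x ∧ Commute r v := by
  simp only [rGrp, Subgroup.mem_inf, Subgroup.mem_centralizer_singleton_iff]
  exact and_assoc

variable [Finite G] {z : G} {P : Subgroup G} (D : HData z P)

theorem mem_cH_iff {z r : G} : r ∈ cH z ↔ Commute r z := Subgroup.mem_centralizer_singleton_iff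

include D

theorem mem_cC_of {r : G} (hz : Commute r z) (hp : Commute r D.p) : r ∈ cC z P := by
  refine ⟨mem_cH_iff.2 hz, Subgroup.mem_centralizer_iff.2 fun q hq => ?_⟩
  rcases (D.mem_P q).1 hq with rfl | rfl | rfl
  · simp
  · exact hp.symm.eq
  · exact (hp.mul_right hp).symm.eq

theorem commute_of_mem_P {q r : G} (hq : q ∈ P) (hr : r ∈ cC z P) : Commute q r :=
  Subgroup.mem_centralizer_iff.1 hr.2 q hq

theorem cE_cC {e : G} (he : e ∈ cE z) (hc : e ∈ cC z P) : e = 1 ∨ e = z :=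
  mem_zpowers_z D.hJ ((centE D.hJ).le ⟨he, hc.2⟩)

theorem P_le_cC : P ≤ cC z P := by
  intro q hq
  rcases (D.mem_P q).1 hq with rfl | rfl | rfl
  exacts [one_mem _, D.p_mem_C, mul_mem D.p_mem_C D.p_mem_C]

theorem P_inf_cE {q : G} (hq : q ∈ P) (hE : q ∈ cE z) : q = 1 := by
  rcases cE_cC D hE (P_le_cC D hq) with h | h
  · exact h
  · rw [h] at hq
    have h3 : orderOf z ∣ Nat.card ↥P := Subgroup.orderOf_dvd_natCard _ hq
    rw [cardP D.hJ, hz D.hJ] at h3
    omega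

/-- A fixed vector of an element of order three lifts to a commuting element. -/
theorem comm_of_fixed {c : ↥(cC z P)} (hc : c ^ 3 = 1) {d : ↥(cE z)} (h : c • mk d = mk d) :
    Commute (c : G) d := by
  rw [smul_mk, mk_eq D.hJ] at h
  have h' : (d : G) = c * d * (c : G)⁻¹ ∨ (d : G) = c * d * (c : G)⁻¹ * z := h
  rcases h' with h' | h'
  · exact (mul_inv_eq_iff_eq_mul.1 h'.symm : (c : G) * d = d * c)
  · exfalso
    apply z_ne D.hJ
    have h3 : (c : G) ^ 3 = 1 := congrArg Subtype.val hc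
    have hcz : (c : G) * z * (c : G)⁻¹ = z := by rw [← D.comm_z c, mul_inv_cancel_right]
    have h2 : (c : G) * d * (c : G)⁻¹ = d * z := by
      conv_rhs => rw [h', mul_assoc, z_sq D.hJ, mul_one]
    have h22 : (c : G) * c * d * ((c : G) * c)⁻¹ = d := by
      rw [show (c : G) * c * d * ((c : G) * c)⁻¹ = c * (c * d * (c : G)⁻¹) * (c : G)⁻¹ by group, h2,
        show (c : G) * ((d : G) * z) * (c : G)⁻¹ = c * d * (c : G)⁻¹ * (c * z * (c : G)⁻¹) by group, h2, hcz,
        mul_assoc, z_sq D.hJ, mul_one]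
    have e3 : (c : G) ^ 3 * d * ((c : G) ^ 3)⁻¹ = d * z := by
      rw [show (c : G) ^ 3 = c * (c * c) by simp [pow_succ, mul_assoc],
        show (c : G) * (c * c) * d * ((c : G) * (c * c))⁻¹ = c * ((c : G) * c * d * ((c : G) * c)⁻¹) * (c : G)⁻¹ by group,
        h22, h2]
    rw [h3, one_mul, inv_one, mul_one, left_eq_mul] at e3
    exact e3

/-- An element of order three congruent to `p` is conjugate to it. -/
theorem exists_conj_p (x : ↥(cC z P)) (hx : x ^ 3 = 1) (e : ↥(cE z)) (h3 : ((e : G) * D.p) ^ 3 = 1)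
    (hcomm : Commute (e : G) (x : G)) : ∃ d ∈ cE z, Commute d (x : G) ∧ d * D.p * d⁻¹ = e * D.p := by
  obtain ⟨d, hd⟩ := mk_surjective (D.toJMod.ω • mk e)
  have hdx : Commute (x : G) d := by
    refine comm_of_fixed D hx ?_
    rw [hd, ← D.toJMod.ω_comm]
    congr 1
    rw [smul_mk]
    exact congrArg mk (Subtype.ext (show (x : G) * e * (x : G)⁻¹ = e by rw [← hcomm.eq, mul_inv_cancel_right]))
  refine ⟨d, d.2, hdx.symm, ?_⟩
  obtain ⟨k, hk⟩ : ∃ k : ↥(cE z), k = d * cEAut D.p D.pH d⁻¹ := ⟨_, rfl⟩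
  have hmk : mk k = mk e := by
    have h1 : mk (cEAut D.p D.pH d⁻¹) = D.toJMod.ω • mk d⁻¹ := rfl
    have h2 : mk d⁻¹ = mk d := by
      rw [mk_eq D.hJ]
      have hsq : (d : G) * d = 1 ∨ (d : G) * d = z := sq_or D.hJ d
      rcases hsq with s | s
      · exact Or.inl (eq_inv_of_mul_eq_one_left s)
      · refine Or.inr ?_
        exact ((congrArg (fun w => (d : G)⁻¹ * w) s).symm.trans (inv_mul_cancel_left _ _)).symm
    rw [hk, mk_mul, h1, h2, hd]
    calc D.toJMod.ω • mk e + D.toJMod.ω • D.toJMod.ω • mk e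
        = mk e + (mk e + D.toJMod.ω • mk e + D.toJMod.ω • D.toJMod.ω • mk e) -
            (mk e + mk e) + 0 := by abel
      _ = mk e := by rw [D.toJMod.ω_sum, cV_two D.hJ]; simp
  have hdp : (d : G) * D.p * (d : G)⁻¹ = k * D.p := by
    rw [hk]
    show _ = (d : G) * (D.p * (d : G)⁻¹ * D.p⁻¹) * D.p
    group
  have hk3 : ((k : G) * D.p) ^ 3 = 1 := by rw [← hdp, conj_pow, D.p3, mul_one, mul_inv_cancel]
  rcases (mk_eq D.hJ).1 hmk.symm with h | h
  · rw [hdp, h]
  · exfalso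
    apply z_ne D.hJ
    have hzp : Commute z ((e : G) * D.p) :=
      (show Commute z (e : G) from (Subgroup.mem_centralizer_singleton_iff.1 (cE_le z e.2)).symm).mul_right
        (show Commute z D.p from D.comm_z D.pC)
    rw [h, show (e : G) * z * D.p = z * (e * D.p) by
        rw [← (show Commute z (e : G) from (Subgroup.mem_centralizer_singleton_iff.1 (cE_le z e.2)).symm).eq,
          mul_assoc],
      hzp.mul_pow, h3, mul_one, pow_succ, pow_two, z_sq D.hJ, one_mul] at hk3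
    exact hk3

theorem z_ker : D.π ⟨z, D.z_mem_C⟩ = 1 := (D.ker_iff _).2 ⟨0, Or.inr (by simp)⟩

/-- An element of the kernel with square one. -/
theorem ker_sq {k : ↥(cC z P)} (hk : D.π k = 1) (h : k * k = 1) : (k : G) = 1 ∨ (k : G) = z := D.ker_two hk h

theorem φ_coe (c : ↥(cC z P)) {h : ↥(cH z)} (e : (h : G) = c) : D.φ h = MulAut.conj (D.π c) := by
  rw [D.π_eq]
  exact congrArg D.φ (Subtype.ext e)

theorem commute_of_conj {m n : M22t}
    (h : Commute (MulAut.conj m) (MulAut.conj n : MulAut M22t)) : Commute m n :=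
  m22_conj_injective (by rw [map_mul, map_mul]; exact h.eq)

variable {D}

/-- Two commutator sources in `C`. -/
theorem z_mem_of_conj {c u : ↥(cC z P)} (h : (c : G) * u * (c : G)⁻¹ = u * z) :
    z ∈ ⁅cC z P, cC z P⁆ := by
  have h1 : (c : G) * u * (c : G)⁻¹ * (u : G)⁻¹ = z := by
    rw [h, ← D.comm_z u, mul_inv_cancel_right]
  have := Subgroup.commutator_mem_commutator c.2 u.2
  rwa [commutatorElement_def, h1] at this

theorem conj_cases {c u : ↥(cC z P)} (hu : u * u = 1) (h : Commute (D.π c) (D.π u)) :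
    (c : G) * u * (c : G)⁻¹ = u ∨ (c : G) * u * (c : G)⁻¹ = u * z := by
  obtain ⟨k, hk⟩ : ∃ k : ↥(cC z P), k = u⁻¹ * (c * u * c⁻¹) := ⟨_, rfl⟩
  have hπ : D.π k = 1 := by
    rw [hk]; simp only [map_mul, map_inv]; rw [h.eq, mul_inv_cancel_right, inv_mul_cancel]
  have hcu : c * u * c⁻¹ = u * k := by rw [hk]; group
  have hk2 : k * k = 1 := by
    have e : (u * k) * (u * k) = 1 := by
      rw [← hcu, show c * u * c⁻¹ * (c * u * c⁻¹) = c * (u * u) * c⁻¹ by group, hu, mul_one, mul_inv_cancel]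
    have hc : Commute k u := D.toJMod.ker_comm k hπ u
    rwa [mul_assoc, ← mul_assoc k, hc.eq, mul_assoc, ← mul_assoc, hu, one_mul] at e
  have e' : (c : G) * u * (c : G)⁻¹ = u * k := congrArg Subtype.val hcu
  rcases ker_sq D hπ hk2 with h' | h'
  · exact Or.inl (by rw [e', h', mul_one])
  · exact Or.inr (by rw [e', h'])

variable (fr : Frame D)
include fr

/-- The restriction of the map to automorphisms. -/
def rφ (v : G) : ↥(rGrp z (fr.x : G) v) →* MulAut M22t :=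
  D.φ.comp (Subgroup.inclusion (inf_le_left.trans inf_le_left))

theorem rφ_apply (v : G) (r : ↥(rGrp z (fr.x : G) v)) : rφ fr v r = D.φ ⟨(r : G), r.2.1.1⟩ := rfl

theorem card_ker_le (v : G) (hv : v ∈ cC z P) (B : Subgroup G)
    (hB : ∀ e ∈ cE z, Commute e (fr.x : G) → Commute e v → e ∈ B) :
    Nat.card ↥(rφ fr v).ker ≤ Nat.card ↥B * 3 := by
  classical
  have key : ∀ r : ↥(rφ fr v).ker, ∃ s : ↥B × ↥P, ((r : ↥(rGrp z (fr.x : G) v)) : G) = s.1 * s.2 := by
    rintro ⟨⟨r, hr⟩, hrk⟩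
    obtain ⟨e, he, q, hq, heq⟩ := (D.φ_eq _).1 (MonoidHom.mem_ker.1 hrk)
    have heq' : r = e * q := heq
    obtain ⟨-, hx, hw⟩ := mem_rGrp.1 hr
    have hcq : ∀ c ∈ cC z P, Commute r c → Commute e c := fun c hc h => by
      rw [show e = r * q⁻¹ by rw [heq']; group]
      exact h.mul_left (commute_of_mem_P D (inv_mem hq) hc)
    exact ⟨(⟨e, hB e he (hcq _ fr.x.2 hx) (hcq _ hv hw)⟩, ⟨q, hq⟩), heq'⟩
  choose s hs using key
  refine (Nat.card_le_card_of_injective s fun r r' h => Subtype.ext (Subtype.ext ?_)).trans ?_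
  · rw [hs, hs, h]
  · rw [Nat.card_prod, cardP D.hJ]

theorem comm_conj_a {v : G} {β : MulAut M22t} (h : β ∈ (rφ fr v).range) : Commute β (MulAut.conj fr.Th.a) := by
  obtain ⟨⟨r, hr⟩, rfl⟩ := h
  rw [rφ_apply, ← fr.πx, ← φ_coe D fr.x (h := ⟨fr.x, fr.x.2.1⟩) rfl]
  exact (show Commute (⟨r, hr.1.1⟩ : ↥(cH z)) ⟨fr.x, fr.x.2.1⟩ from Subtype.ext (mem_rGrp.1 hr).2.1.eq).map D.φ

theorem card_range_le (v : G) : Nat.card ↥(rφ fr v).range ≤ 72 := by
  classical
  set T := (rφ fr v).range with hT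
  have h1 : Nat.card ↥(T ⊓ Inn M22t) ≤ 36 := by
    rw [← fr.Th.card_cent]
    refine le_trans ?_ (Nat.card_le_card_of_surjective
      (fun m : ↥(Subgroup.centralizer ({fr.Th.a} : Set M22t)) =>
        (⟨MulAut.conj (m : M22t), m, m.2, rfl⟩ :
          ↥((Subgroup.centralizer ({fr.Th.a} : Set M22t)).map (MulAut.conj : M22t →* MulAut M22t))))
      (by rintro ⟨_, m, hm, rfl⟩; exact ⟨⟨m, hm⟩, rfl⟩))
    refine Subgroup.card_le_of_le ?_
    rintro _ ⟨hβ, m, rfl⟩
    exact ⟨m, Subgroup.mem_centralizer_singleton_iff.2 (commute_of_conj D (comm_conj_a fr hβ)).eq, rfl⟩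
  have h3 : (Inn M22t).index = 2 := Compute.Mathieu.card_out_M22
  have : (Inn M22t).Normal := Subgroup.normal_of_index_eq_two h3
  have h2 := (Inn M22t).relIndex_dvd_index_of_normal T
  rw [h3] at h2
  have h4 := (Inn M22t).subgroupOf T |>.card_mul_index
  have h5 : Nat.card ↥((Inn M22t).subgroupOf T) = Nat.card ↥(T ⊓ Inn M22t) := by
    rw [← Subgroup.inf_subgroupOf_left]
    exact Nat.card_congr (Subgroup.subgroupOfEquivOfLe inf_le_left).toEquiv
  rw [← h4, h5]
  calc Nat.card ↥(T ⊓ Inn M22t) * ((Inn M22t).subgroupOf T).index ≤ 36 * 2 :=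
        Nat.mul_le_mul h1 (Nat.le_of_dvd (by norm_num) h2)
    _ = 72 := by norm_num

theorem card_rGrp (v : G) :
    Nat.card ↥(rGrp z (fr.x : G) v) = Nat.card ↥(rφ fr v).ker * Nat.card ↥(rφ fr v).range := by
  rw [← (rφ fr v).ker.card_mul_index, Subgroup.index_ker]

theorem x_eig_act {o : ↥(cH z)}
    (hω : ∀ v : cV z, act o (D.toJMod.ω • v) = D.toJMod.ω • D.toJMod.ω • act o v) (v : cV z) (k : ℕ) :
    act o (D.toJMod.ω ^ k • v) = D.toJMod.ω ^ (2 * k) • act o v := by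
  induction k generalizing v with
  | zero => simp
  | succ k ih =>
    rw [pow_succ, mul_smul, ih, hω, show 2 * (k + 1) = 2 * k + 1 + 1 by ring, pow_succ, pow_succ, mul_smul,
      mul_smul]

/-- The vectors fixed by `x`. -/
theorem card_fix_x : Nat.card ↥(D.toJMod.eig fr.x 0) = 16 ∧
    ∀ v ∈ D.toJMod.eig fr.x 0, ∃ e : ↥(cE z), mk e = v ∧ Commute (e : G) (fr.x : G) := by
  classical
  have hiff : ∀ e : ↥(cE z), mk e ∈ D.toJMod.eig fr.x 0 ↔ Commute (e : G) (fr.x : G) := by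
    intro e
    constructor
    · intro h
      exact (comm_of_fixed D fr.x3 (h.trans (by simp))).symm
    · intro h
      show fr.x • mk e = D.toJMod.ω ^ 0 • mk e
      rw [pow_zero, one_smul, smul_mk]
      exact congrArg mk (Subtype.ext (show (fr.x : G) * e * (fr.x : G)⁻¹ = e by rw [← h.eq, mul_inv_cancel_right]))
  refine ⟨?_, fun v hv => ?_⟩
  · have h := card_pre D.hJ (D.toJMod.eig fr.x 0)
    have hc : Nat.card ↥(pre (D.toJMod.eig fr.x 0)) =
        Nat.card ↥(cE z ⊓ Subgroup.centralizer ({(fr.x : G)} : Set G)) := by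
      refine Nat.card_congr
        { toFun := fun e => ⟨(e.1 : G), e.1.2, Subgroup.mem_centralizer_singleton_iff.2 ((hiff _).1 e.2).eq⟩
          invFun := fun e => ⟨⟨e.1, e.2.1⟩, (hiff _).2 (Subgroup.mem_centralizer_singleton_iff.1 e.2.2)⟩
          left_inv := fun e => rfl
          right_inv := fun e => rfl }
    rw [hc, fr.card_x] at h
    omega
  · obtain ⟨e, rfl⟩ := mk_surjective v
    exact ⟨e, rfl, (hiff e).1 hv⟩

/-- The element `o` does not fix the class of `w₁`. -/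
theorem moves_w₁ (o : ↥(cH z)) (hox : Commute (o : G) (fr.x : G))
    (hω : ∀ v : cV z, act o (D.toJMod.ω • v) = D.toJMod.ω • D.toJMod.ω • act o v)
    (hfix : D.φ o * MulAut.conj fr.Th.t₁ = MulAut.conj fr.Th.t₁ * D.φ o) : False := by
  classical
  have := D.toJMod.finiteV
  let J := D.toJMod
  -- `o` preserves the fixed space of `w₁`
  have hw1 : ∀ v : cV z, fr.w₁ • v = v → fr.w₁ • act o v = act o v := by
    obtain ⟨h, hh⟩ : ∃ h : ↥(cH z), h = o * ⟨fr.w₁, fr.w₁.2.1⟩ * o⁻¹ * (⟨fr.w₁, fr.w₁.2.1⟩ : ↥(cH z))⁻¹ := ⟨_, rfl⟩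
    have hφ : D.φ h = 1 := by
      rw [hh, map_mul, map_mul, map_mul, map_inv, map_inv, φ_coe D fr.w₁ (h := ⟨fr.w₁, fr.w₁.2.1⟩) rfl, fr.πw₁,
        hfix, mul_inv_cancel_right, mul_inv_cancel]
    obtain ⟨e, he, q, hq, heq⟩ := (D.φ_eq h).1 hφ
    have heq' : (o : G) * fr.w₁ * (o : G)⁻¹ = e * q * fr.w₁ := by
      rw [← heq, hh]
      simp only [Subgroup.coe_mul, InvMemClass.coe_inv]
      group
    have hcq : Commute q (fr.w₁ : G) := commute_of_mem_P D hq fr.w₁.2
    have hq1 : q = 1 := by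
      have hsq : ((o : G) * fr.w₁ * (o : G)⁻¹) * ((o : G) * fr.w₁ * (o : G)⁻¹) = 1 := by
        rw [show (o : G) * fr.w₁ * (o : G)⁻¹ * ((o : G) * fr.w₁ * (o : G)⁻¹) =
          o * (fr.w₁ * fr.w₁ : G) * (o : G)⁻¹ by group,
          show (fr.w₁ : G) * fr.w₁ = 1 from congrArg Subtype.val fr.ww₁]
        group
      rw [heq'] at hsq
      have hqH : q ∈ cH z := (P_le_cC D hq).1
      have hE : q * q ∈ cE z := by
        have hsplit : e * q * fr.w₁ * (e * q * fr.w₁) =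
            e * ((q * fr.w₁) * e * (q * fr.w₁)⁻¹) * (q * q) := by
          rw [show q * q = (q * fr.w₁) * (q * fr.w₁) from ?_]
          · group
          · rw [show q * (fr.w₁ : G) * (q * fr.w₁) = q * (fr.w₁ * q) * fr.w₁ by group, ← hcq.eq,
              show q * (q * (fr.w₁ : G)) * fr.w₁ = q * q * (fr.w₁ * fr.w₁) by group,
              show (fr.w₁ : G) * fr.w₁ = 1 from congrArg Subtype.val fr.ww₁, mul_one]
        rw [hsplit, mul_eq_one_iff_inv_eq] at hsq
        rw [← hsq]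
        exact inv_mem (mul_mem he (cE_conj (mul_mem hqH fr.w₁.2.1) he))
      have := P_inf_cE D (mul_mem hq hq) hE
      have h3 : q ^ 3 = 1 := by
        rcases (D.mem_P q).1 hq with rfl | rfl | rfl
        · simp
        · exact D.p3
        · rw [(Commute.refl D.p).mul_pow, D.p3, one_mul]
      rwa [pow_succ, pow_two, this, one_mul] at h3
    rw [hq1, mul_one] at heq'
    have hoe : o * ⟨fr.w₁, fr.w₁.2.1⟩ = (⟨e, cE_le z he⟩ : ↥(cH z)) * ⟨fr.w₁, fr.w₁.2.1⟩ * o :=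
      Subtype.ext (mul_inv_eq_iff_eq_mul.1 heq')
    intro v hv
    have h1 := congrArg (fun g => act g v) hoe
    simp only [act_mul, act_cE he D.hJ, act_smul] at h1
    rw [hv] at h1
    exact h1.symm
  -- `q` carries the vectors fixed by `x` to an eigenspace
  obtain ⟨n, hn, hn0⟩ : ∃ n : ℕ, fr.q⁻¹ * fr.x * fr.q = fr.x * D.toJMod.ω ^ n ∧ n % 3 ≠ 0 := by
    obtain ⟨k, hk⟩ : ∃ k, k = fr.x⁻¹ * (fr.q⁻¹ * fr.x * fr.q) := ⟨_, rfl⟩
    have hπ : D.π k = 1 := by
      rw [hk]; simp only [map_mul, map_inv, fr.πx, fr.πq]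
      rw [mul_assoc fr.Th.q⁻¹, ← fr.Th.qa.eq, inv_mul_cancel_left, inv_mul_cancel]
    have e : fr.q⁻¹ * fr.x * fr.q = fr.x * k := by rw [hk]; group
    have hk3 : k ^ 3 = 1 := by
      have h := congrArg (fun w => w ^ 3) e
      simp only [(D.toJMod.ker_comm k hπ fr.x).symm.mul_pow, fr.x3, one_mul] at h
      rw [← h, show fr.q⁻¹ * fr.x * fr.q = fr.q⁻¹ * fr.x * fr.q⁻¹⁻¹ by rw [inv_inv], conj_pow, fr.x3, mul_one,
        inv_inv, inv_mul_cancel]
    obtain ⟨n, hkn⟩ := D.toJMod.ker3 k hπ hk3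
    refine ⟨n, by rw [e, hkn], fun h => fr.qx ?_⟩
    rw [hkn, ← Nat.mod_add_div n 3, h, zero_add, pow_mul, D.toJMod.ω3, one_pow, mul_one] at e
    rw [mul_assoc, inv_mul_eq_iff_eq_mul] at e
    exact e.symm
  have hA : ∀ v ∈ D.toJMod.eig fr.x 0, fr.w₁ • fr.q • v = fr.q • v ∧ fr.q • v ∈ D.toJMod.eig fr.x n := by
    intro v hv
    obtain ⟨e, rfl, hex⟩ := (card_fix_x fr).2 v hv
    have hw : fr.w • mk e = mk e := by
      rw [smul_mk]
      refine congrArg mk (Subtype.ext (?_ : (fr.w : G) * e * (fr.w : G)⁻¹ = e))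
      rw [← (fr.w_fix e e.2 hex).eq, mul_inv_cancel_right]
    constructor
    · have h := D.toJMod.lift_smul_eq (c := fr.w₁) (c' := fr.q * fr.w * fr.q⁻¹)
        (show D.π fr.w₁ = D.π (fr.q * fr.w * fr.q⁻¹) by
          simp only [map_mul, map_inv, fr.πq, fr.πw, fr.πw₁, fr.Th.qt])
        (by rw [show (4 : ℕ) = 2 * 2 from rfl, pow_mul, pow_two fr.w₁, fr.ww₁, one_pow])
        (by rw [conj_pow, show (4 : ℕ) = 2 * 2 from rfl, pow_mul, pow_two fr.w, fr.ww, one_pow, mul_one,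
          mul_inv_cancel]) (fr.q • mk e)
      rw [h, mul_smul, mul_smul, inv_smul_smul, hw]
    · show fr.x • fr.q • mk e = D.toJMod.ω ^ n • fr.q • mk e
      have hv' : fr.x • mk e = D.toJMod.ω ^ 0 • mk e := hv
      rw [pow_zero, one_smul] at hv'
      rw [← mul_smul, show fr.x * fr.q = fr.q * (fr.q⁻¹ * fr.x * fr.q) by group, hn, mul_smul, mul_smul,
        ← D.toJMod.ωpow_comm, hv', D.toJMod.ωpow_comm]
  have hB : ∀ v ∈ D.toJMod.eig fr.x n, act o v ∈ D.toJMod.eig fr.x (2 * n) := by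
    intro v hv
    have hv' : fr.x • v = D.toJMod.ω ^ n • v := hv
    show fr.x • act o v = _
    rw [← act_smul, ← act_mul, show (⟨fr.x, fr.x.2.1⟩ : ↥(cH z)) * o = o * ⟨fr.x, fr.x.2.1⟩ from
      Subtype.ext hox.symm.eq, act_mul, act_smul, hv', x_eig_act fr hω]
  -- counting
  let Φ : ↥(D.toJMod.eig fr.x 0) × ↥(D.toJMod.eig fr.x 0) → ↥(fixElt (V := cV z) fr.w₁) := fun ab =>
    ⟨fr.q • (ab.1 : cV z) + act o (fr.q • (ab.2 : cV z)),
      add_mem (hA _ ab.1.2).1 (hw1 _ (hA _ ab.2.2).1)⟩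
  have hp : ∀ ab, D.toJMod.proj fr.x n (Φ ab : cV z) = fr.q • (ab.1 : cV z) ∧
      D.toJMod.proj fr.x (2 * n) (Φ ab : cV z) = act o (fr.q • (ab.2 : cV z)) ∧
      D.toJMod.proj fr.x 0 (Φ ab : cV z) = 0 := by
    intro ab
    have h1 := (hA _ ab.1.2).2
    have h2 := hB _ (hA _ ab.2.2).2
    simp only [Φ, D.toJMod.proj_add, D.toJMod.proj_eig h1, D.toJMod.proj_eig h2]
    refine ⟨?_, ?_, ?_⟩
    · rw [if_pos trivial, if_neg (by omega), add_zero]
    · rw [if_neg (by omega), if_pos trivial, zero_add]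
    · rw [if_neg (by omega), if_neg (by omega), add_zero]
  have hinj : Function.Injective Φ := by
    intro ab ab' h
    have h1 := (hp ab).1.symm.trans ((congrArg (fun w : ↥(fixElt (V := cV z) fr.w₁) =>
      D.toJMod.proj fr.x n (w : cV z)) h).trans (hp ab').1)
    have h2 := (hp ab).2.1.symm.trans ((congrArg (fun w : ↥(fixElt (V := cV z) fr.w₁) =>
      D.toJMod.proj fr.x (2 * n) (w : cV z)) h).trans (hp ab').2.1)
    have h2' := congrArg (act o⁻¹) h2
    rw [act_inv_act, act_inv_act] at h2'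
    exact Prod.ext (Subtype.ext (MulAction.injective _ h1)) (Subtype.ext (MulAction.injective _ h2'))
  have hcard : Nat.card ↥(fixElt (V := cV z) fr.w₁) = 2 ^ 8 := by
    refine D.toJMod.card_fixElt fr.L ?_ ?_ ?_
    · show D.π fr.w₁ * D.π fr.w₁ = 1
      rw [fr.πw₁, fr.Th.t₁₁]
    · show D.π fr.w₁ ≠ 1
      rw [fr.πw₁]; exact fr.Th.t₁_ne
    · rw [show (4 : ℕ) = 2 * 2 from rfl, pow_mul, pow_two fr.w₁, fr.ww₁, one_pow]
  have hbij := (Nat.bijective_iff_injective_and_card Φ).2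
    ⟨hinj, by rw [Nat.card_prod, (card_fix_x fr).1, hcard]; norm_num⟩
  obtain ⟨e, he, hne1, hnez⟩ : ∃ e ∈ cE z ⊓ Subgroup.centralizer ({(fr.x : G), (fr.w₁ : G)} : Set G),
      e ≠ 1 ∧ e ≠ z := by
    by_contra hno
    push Not at hno
    have hsub : ((cE z ⊓ Subgroup.centralizer ({(fr.x : G), (fr.w₁ : G)} : Set G) : Subgroup G) : Set G) ⊆
        {1, z} := fun e he => by
      rcases eq_or_ne e 1 with rfl | h1
      · exact Or.inl rfl
      · exact Or.inr (hno e he h1)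
    have h := Set.ncard_le_ncard hsub (Set.toFinite _)
    rw [← Nat.card_coe_set_eq] at h
    have h8 := fr.card_w₁
    have h2 : ({1, z} : Set G).ncard ≤ 2 := (Set.ncard_insert_le _ _).trans (by simp)
    rw [SetLike.coe_sort_coe, h8] at h
    omega
  have hex : Commute e (fr.x : G) := (Subgroup.mem_centralizer_iff.1 he.2 _ (Or.inl rfl)).symm
  have hew : Commute e (fr.w₁ : G) := (Subgroup.mem_centralizer_iff.1 he.2 _ (Or.inr rfl)).symm
  let v₀ : cV z := mk ⟨e, he.1⟩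
  have hfix0 : ∀ c : ↥(cC z P), Commute e (c : G) → c • v₀ = v₀ := fun c hc => by
    rw [smul_mk]
    exact congrArg mk (Subtype.ext (show (c : G) * e * (c : G)⁻¹ = e by rw [← hc.eq, mul_inv_cancel_right]))
  have hv0 : v₀ ∈ D.toJMod.eig fr.x 0 := by
    show fr.x • v₀ = D.toJMod.ω ^ 0 • v₀
    rw [pow_zero, one_smul, hfix0 _ hex]
  obtain ⟨ab, hab⟩ := hbij.2 ⟨v₀, hfix0 _ hew⟩
  have h0 := (hp ab).2.2
  rw [hab, D.toJMod.proj_eig hv0, if_pos rfl] at h0
  exact ((mk_eq_zero D.hJ).1 h0).elim hne1 hnez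

theorem π_sq_ne {u : ↥(cC z P)} (hu : u * u = 1) (h1 : (u : G) ≠ 1) (hz : (u : G) ≠ z) :
    D.π u * D.π u = 1 ∧ D.π u ≠ 1 :=
  ⟨by rw [← map_mul, hu, map_one], fun h => (ker_sq D h hu).elim h1 hz⟩

/-- A lower bound on the centraliser of an involution of `M22`. -/
theorem card_cent_inv {m : M22t} (h2 : m * m = 1) (h1 : m ≠ 1) :
    384 ≤ Nat.card ↥(Subgroup.centralizer ({m} : Set M22t)) := by
  classical
  have hd : 384 ∣ Nat.card ↥(Subgroup.centralizer ({fr.Th.t} : Set M22t)) := by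
    obtain ⟨S, hS, hSc⟩ := fr.Th.two_part
    have h128 : 128 ∣ Nat.card ↥(Subgroup.centralizer ({fr.Th.t} : Set M22t)) :=
      hS ▸ Subgroup.card_dvd_of_le fun s hs => Subgroup.mem_centralizer_singleton_iff.2 (hSc s hs).eq
    have h3 : 3 ∣ Nat.card ↥(Subgroup.centralizer ({fr.Th.t} : Set M22t)) := by
      rw [← orderOf_eq_prime (hp := ⟨Nat.prime_three⟩) fr.Th.a3 fr.Th.a1]
      exact Subgroup.orderOf_dvd_natCard _ (Subgroup.mem_centralizer_singleton_iff.2 fr.Th.ta.symm.eq)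
    exact Nat.Coprime.mul_dvd_of_dvd_of_dvd (show Nat.Coprime 128 3 by norm_num) h128 h3
  obtain ⟨g, hg⟩ := isConj_iff.1 (fr.F.inv_conj fr.Th.t m
    (orderOf_eq_prime (by rw [pow_two, fr.Th.tt]) fr.Th.t1) (orderOf_eq_prime (by rw [pow_two, h2]) h1))
  refine le_trans (Nat.le_of_dvd Nat.card_pos hd) (Nat.card_le_card_of_injective
    (fun c : ↥(Subgroup.centralizer ({fr.Th.t} : Set M22t)) =>
      (⟨g * c * g⁻¹, ?_⟩ : ↥(Subgroup.centralizer ({m} : Set M22t)))) ?_)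
  · rw [Subgroup.mem_centralizer_singleton_iff, ← hg,
      show g * (c : M22t) * g⁻¹ * (g * fr.Th.t * g⁻¹) = g * (c * fr.Th.t) * g⁻¹ by group,
      Subgroup.mem_centralizer_singleton_iff.1 c.2]
    group
  · intro c c' h
    exact Subtype.ext (mul_left_cancel (mul_right_cancel (congrArg Subtype.val h)))

/-- The size of the centraliser of `u` in `C`. -/
theorem card_cent_C {u : ↥(cC z P)} (hu : u * u = 1) (h1 : (u : G) ≠ 1) (hz : (u : G) ≠ z)
    (hfix : ∀ c : ↥(cC z P), Commute (D.π c) (D.π u) → Commute (c : G) u) :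
    2304 ≤ Nat.card ↥(cC z P ⊓ Subgroup.centralizer ({(u : G)} : Set G)) := by
  classical
  obtain ⟨hm2, hm1⟩ := π_sq_ne fr hu h1 hz
  have h384 := card_cent_inv fr hm2 hm1
  set CM := Subgroup.centralizer ({D.π u} : Set M22t)
  have h := (CM.comap D.π).card_mul_index
  rw [Subgroup.index_comap_of_surjective _ D.πsurj, D.card_C, ← m22_card, ← CM.card_mul_index, ← mul_assoc] at h
  have hK : Nat.card ↥(CM.comap D.π) = 6 * Nat.card ↥CM :=
    Nat.eq_of_mul_eq_mul_right (Nat.pos_of_ne_zero Subgroup.index_ne_zero_of_finite) h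
  calc 2304 ≤ 6 * Nat.card ↥CM := by omega
    _ = Nat.card ↥(CM.comap D.π) := hK.symm
    _ ≤ _ := by
      refine Nat.card_le_card_of_injective
        (fun c => (⟨((c : ↥(cC z P)) : G), (c : ↥(cC z P)).2, Subgroup.mem_centralizer_singleton_iff.2
          (hfix c (Subgroup.mem_centralizer_singleton_iff.1 c.2)).eq⟩ :
          ↥(cC z P ⊓ Subgroup.centralizer ({(u : G)} : Set G)))) ?_
      intro c c' h
      exact Subtype.ext (Subtype.ext (congrArg (fun w : ↥(cC z P ⊓ Subgroup.centralizer ({(u : G)} : Set G)) => (w : G)) h))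

/-- If every element of `R` is inner, it is small. -/
theorem card_range_inner (v : G) (hv : v ∈ cC z P) (hπv : D.π ⟨v, hv⟩ = fr.Th.t)
    (hall : ∀ β ∈ (rφ fr v).range, β ∈ Inn M22t) : Nat.card ↥(rφ fr v).range ≤ 18 := by
  classical
  have hsub : (rφ fr v).range ≤ (Subgroup.centralizer ({fr.Th.a} : Set M22t) ⊓
      Subgroup.centralizer ({fr.Th.t} : Set M22t)).map (MulAut.conj : M22t →* MulAut M22t) := by
    intro β hβ
    obtain ⟨m, rfl⟩ := hall β hβ
    have ha := comm_conj_a fr hβ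
    obtain ⟨⟨r, hr⟩, he⟩ := hβ
    have ht : Commute (MulAut.conj m : MulAut M22t) (MulAut.conj fr.Th.t) := by
      rw [← he, rφ_apply, ← hπv, ← φ_coe D ⟨v, hv⟩ (h := ⟨v, hv.1⟩) rfl]
      exact (show Commute (⟨r, hr.1.1⟩ : ↥(cH z)) ⟨v, hv.1⟩ from Subtype.ext (mem_rGrp.1 hr).2.2.eq).map D.φ
    exact ⟨m, ⟨Subgroup.mem_centralizer_singleton_iff.2 (commute_of_conj D ha).eq,
      Subgroup.mem_centralizer_singleton_iff.2 (commute_of_conj D ht).eq⟩, rfl⟩
  refine (Subgroup.card_le_of_le hsub).trans ?_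
  rw [Subgroup.card_map_of_injective m22_conj_injective]
  set B := Subgroup.centralizer ({fr.Th.a} : Set M22t) ⊓ Subgroup.centralizer ({fr.Th.t} : Set M22t) with hB
  have hdvd : Nat.card ↥B ∣ 36 := fr.Th.card_cent ▸ Subgroup.card_dvd_of_le inf_le_left
  have hne : Nat.card ↥B ≠ 36 := by
    intro h
    have e : B = Subgroup.centralizer ({fr.Th.a} : Set M22t) :=
      Subgroup.eq_of_le_of_card_ge inf_le_left (by rw [h, fr.Th.card_cent])
    have hq : fr.Th.q ∈ B := e ▸ Subgroup.mem_centralizer_singleton_iff.2 fr.Th.qa.eq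
    have hqt : fr.Th.q * fr.Th.t = fr.Th.t * fr.Th.q := Subgroup.mem_centralizer_singleton_iff.1 hq.2
    have := fr.Th.qt
    rw [hqt, mul_inv_cancel_right] at this
    exact fr.Th.t₁t this.symm
  obtain ⟨k, hk⟩ := hdvd
  rcases k with _ | _ | k
  · omega
  · omega
  · nlinarith

/-- The element `u'` lies in the derived group of `R`, or is too special. -/
theorem mem_derived {v : G} (hv : v = (fr.w : G) ∨ v = (fr.w : G) * z)
    (hww : Commute (fr.w : G) (fr.w₁ : G)) (hR : 2304 ≤ Nat.card ↥(rGrp z (fr.x : G) v)) :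
    v ∈ ⁅rGrp z (fr.x : G) v, rGrp z (fr.x : G) v⁆ := by
  classical
  set R := rGrp z (fr.x : G) v with hRdef
  have hvC : v ∈ cC z P := by
    rcases hv with rfl | rfl
    exacts [fr.w.2, mul_mem fr.w.2 D.z_mem_C]
  have hπv : D.π ⟨v, hvC⟩ = fr.Th.t := by
    rcases hv with rfl | rfl
    · exact fr.πw
    · rw [show (⟨(fr.w : G) * z, hvC⟩ : ↥(cC z P)) = fr.w * ⟨z, D.z_mem_C⟩ from rfl, map_mul, z_ker D,
        mul_one, fr.πw]
  have hmem : ∀ r : G, Commute r z → Commute r (fr.x : G) → Commute r (fr.w : G) → r ∈ R := fun r h1 h2 h3 =>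
    mem_rGrp.2 ⟨h1, h2, by rcases hv with rfl | rfl; exacts [h3, h3.mul_right h1]⟩
  have hCz : ∀ c : ↥(cC z P), Commute (c : G) z := fun c => (D.comm_z c).symm
  have hEz : ∀ e ∈ cE z, Commute e z := fun e he => Subgroup.mem_centralizer_singleton_iff.1 (cE_le z he)
  have hER : ∀ e ∈ cE z, Commute e (fr.x : G) → e ∈ R := fun e he hx => hmem e (hEz e he) hx (fr.w_fix e he hx)
  have hwR : (fr.w : G) ∈ R := hmem _ (hCz _) (congrArg Subtype.val fr.xw.eq).symm (Commute.refl _)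
  have hw1R : (fr.w₁ : G) ∈ R := hmem _ (hCz _) (congrArg Subtype.val fr.xw₁.eq).symm hww.symm
  have hpR : D.p ∈ R := hmem _ (hCz D.pC) (D.comm_p fr.x) (D.comm_p fr.w)
  set R' := ⁅R, R⁆ with hR'
  have hcm : ∀ a ∈ R, ∀ b ∈ R, a * b * a⁻¹ * b⁻¹ ∈ R' := fun a ha b hb => by
    rw [← commutatorElement_def]; exact Subgroup.commutator_mem_commutator ha hb
  have hzR' : z ∈ R' := by
    obtain ⟨e, he, hne1, hnez⟩ : ∃ e ∈ cE z ⊓ Subgroup.centralizer ({(fr.x : G)} : Set G), e ≠ 1 ∧ e ≠ z := by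
      by_contra hno
      push Not at hno
      have hsub : ((cE z ⊓ Subgroup.centralizer ({(fr.x : G)} : Set G) : Subgroup G) : Set G) ⊆ {1, z} :=
        fun e he => by
          rcases eq_or_ne e 1 with rfl | h1
          · exact Or.inl rfl
          · exact Or.inr (hno e he h1)
      have h := Set.ncard_le_ncard hsub (Set.toFinite _)
      rw [← Nat.card_coe_set_eq] at h
      have h32 := fr.card_x
      have h2 : ({1, z} : Set G).ncard ≤ 2 := (Set.ncard_insert_le _ _).trans (by simp)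
      rw [SetLike.coe_sort_coe, h32] at h
      omega
    have hex := Subgroup.mem_centralizer_singleton_iff.1 he.2
    obtain ⟨f, hf, hfx, hef⟩ : ∃ f ∈ cE z, Commute f (fr.x : G) ∧ ¬ Commute e f := by
      by_contra hno
      push Not at hno
      exact (fr.nondeg e he.1 hex hno).elim hne1 hnez
    rcases comm_or D.hJ ⟨e, he.1⟩ ⟨f, hf⟩ with h | h
    · exfalso
      refine hef ?_
      have h' : e * f * e⁻¹ * f⁻¹ = 1 := h
      exact (mul_inv_eq_iff_eq_mul.1 (mul_inv_eq_one.1 h') : e * f = f * e)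
    · exact h ▸ hcm _ (hER _ he.1 hex) _ (hER _ hf hfx)
  have hER' : ∀ e ∈ cE z, Commute e (fr.x : G) → e ∈ R' := by
    intro e he hx
    obtain ⟨d, hd⟩ := mk_surjective (D.toJMod.ω • mk (⟨e, he⟩ : ↥(cE z)))
    have hdx : Commute (fr.x : G) d := by
      refine comm_of_fixed D fr.x3 ?_
      rw [hd, ← D.toJMod.ω_comm]
      congr 1
      rw [smul_mk]
      exact congrArg mk (Subtype.ext (show (fr.x : G) * e * (fr.x : G)⁻¹ = e by rw [← hx.eq, mul_inv_cancel_right]))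
    have hc := hcm _ hpR _ (hER _ d.2 hdx.symm)
    have hdinv : mk d⁻¹ = mk d := by
      have h := mk_mul d d⁻¹
      rw [mul_inv_cancel, mk_one] at h
      exact (eq_neg_of_add_eq_zero_right h.symm).trans (D.toJMod.neg_eq _)
    have hk : mk (cEAut D.p D.pH d * d⁻¹) = mk ⟨e, he⟩ := by
      rw [mk_mul, hdinv, show mk (cEAut D.p D.pH d) = D.toJMod.ω • mk d from rfl, hd]
      calc D.toJMod.ω • D.toJMod.ω • mk (⟨e, he⟩ : ↥(cE z)) + D.toJMod.ω • mk (⟨e, he⟩ : ↥(cE z))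
          = mk (⟨e, he⟩ : ↥(cE z)) + (mk ⟨e, he⟩ + D.toJMod.ω • mk (⟨e, he⟩ : ↥(cE z)) +
              D.toJMod.ω • D.toJMod.ω • mk (⟨e, he⟩ : ↥(cE z))) - (mk ⟨e, he⟩ + mk ⟨e, he⟩) := by abel
        _ = mk ⟨e, he⟩ := by rw [D.toJMod.ω_sum, cV_two D.hJ, add_zero, sub_zero]
    have hval : ((cEAut D.p D.pH d * d⁻¹ : ↥(cE z)) : G) = D.p * d * D.p⁻¹ * (d : G)⁻¹ := rfl
    rcases (mk_eq D.hJ).1 hk with h | h
    · have h' : e = D.p * d * D.p⁻¹ * (d : G)⁻¹ := h.trans hval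
      exact h' ▸ hc
    · have h' : e = D.p * d * D.p⁻¹ * (d : G)⁻¹ * z := h.trans (by rw [hval])
      exact h' ▸ mul_mem hc hzR'
  -- an element outside `E * C`
  obtain ⟨o, hout⟩ : ∃ o : ↥R, rφ fr v o ∉ Inn M22t := by
    by_contra hno
    push Not at hno
    have h18 := card_range_inner fr v hvC hπv (by rintro β ⟨r, rfl⟩; exact hno r)
    have hk := card_ker_le fr v hvC (cE z ⊓ Subgroup.centralizer ({(fr.x : G)} : Set G))
      fun e he hx _ => ⟨he, Subgroup.mem_centralizer_singleton_iff.2 hx.eq⟩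
    rw [fr.card_x] at hk
    have := Nat.mul_le_mul hk h18
    rw [← card_rGrp] at this
    rw [hRdef] at hR
    omega
  obtain ⟨hoz, hox, hov⟩ := mem_rGrp.1 o.2
  have how : Commute (o : G) (fr.w : G) := by
    rcases hv with h | h
    · exact h ▸ hov
    · have e : (fr.w : G) = v * z := by rw [h, mul_assoc, z_sq D.hJ, mul_one]
      exact e ▸ hov.mul_right hoz
  set oH : ↥(cH z) := ⟨(o : G), o.2.1.1⟩ with hoH
  -- `o` inverts `p` modulo `E`
  obtain ⟨e', he', hop⟩ : ∃ e' ∈ cE z, (o : G) * D.p * (o : G)⁻¹ * D.p⁻¹ = e' * D.p := by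
    obtain ⟨e, he, c, hc, h | h⟩ := D.decomp oH
    · exact absurd ((D.inner14_iff oH).1 ⟨e, he, c, hc, h⟩) hout
    · have h' : (o : G) = e * ((D.t : G) * c) := h
      refine ⟨e * (D.p⁻¹ * e⁻¹ * D.p⁻¹⁻¹), mul_mem he (cE_conj (inv_mem D.pH) (inv_mem he)), ?_⟩
      rw [h', show e * ((D.t : G) * c) * D.p * (e * ((D.t : G) * c))⁻¹ =
          e * ((D.t : G) * (c * D.p * c⁻¹) * (D.t : G)⁻¹) * e⁻¹ by group,
        show c * D.p * c⁻¹ = D.p by rw [← (show D.p * c = c * D.p from D.comm_p ⟨c, hc⟩), mul_inv_cancel_right],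
        D.tp]
      have hp2 : D.p⁻¹ * D.p⁻¹ = D.p := by
        rw [← mul_inv_rev, inv_eq_iff_mul_eq_one, ← D.p3, pow_succ, pow_two]
      calc e * D.p⁻¹ * e⁻¹ * D.p⁻¹ = e * (D.p⁻¹ * e⁻¹ * D.p⁻¹⁻¹) * (D.p⁻¹ * D.p⁻¹) := by group
        _ = _ := by rw [hp2]
  have hpR' : D.p ∈ R' := by
    have hc := hcm _ o.2 _ hpR
    rw [hop] at hc
    have hex : Commute e' (fr.x : G) := by
      have h1 : Commute (e' * D.p) (fr.x : G) := by
        rw [← hop]
        exact ((hox.mul_left (D.comm_p fr.x)).mul_left hox.inv_left).mul_left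
          (show Commute D.p (fr.x : G) from D.comm_p fr.x).inv_left
      have h2 := h1.mul_left (show Commute D.p (fr.x : G) from D.comm_p fr.x).inv_left
      rwa [mul_inv_cancel_right] at h2
    have h2 := mul_mem (inv_mem (hER' e' he' hex)) hc
    rwa [inv_mul_cancel_left] at h2
  have hω : ∀ u : cV z, act oH (D.toJMod.ω • u) = D.toJMod.ω • D.toJMod.ω • act oH u := by
    intro u
    have hop' : (o : G) * D.p = e' * (D.p * D.p) * o := by
      rw [← mul_assoc e', ← hop]; group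
    have h1 : oH * ⟨D.p, D.pH⟩ = (⟨e', cE_le z he'⟩ : ↥(cH z)) * (⟨D.p, D.pH⟩ * ⟨D.p, D.pH⟩) * oH :=
      Subtype.ext hop'
    have h2 := congrArg (fun g => act g u) h1
    simp only [act_mul, act_cE he' D.hJ] at h2
    exact h2
  -- `o` on the four-group
  set β := D.φ oH with hβ
  have hβa : Commute β (MulAut.conj fr.Th.a) := comm_conj_a fr (v := v) ⟨o, rfl⟩
  have hβt : Commute β (MulAut.conj fr.Th.t) := by
    rw [← fr.πw, ← φ_coe D fr.w (h := ⟨fr.w, fr.w.2.1⟩) rfl, hβ]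
    exact (show Commute oH ⟨fr.w, fr.w.2.1⟩ from Subtype.ext how.eq).map D.φ
  have hnat : ∀ m : M22t, β * MulAut.conj m = MulAut.conj (β m) * β := fun m => by
    refine MulEquiv.ext fun y => ?_
    simp [MulAut.mul_apply]
  have hfixa : β fr.Th.a = fr.Th.a :=
    m22_conj_injective (mul_right_cancel ((hnat _).symm.trans hβa.eq))
  have hfixt : β fr.Th.t = fr.Th.t :=
    m22_conj_injective (mul_right_cancel ((hnat _).symm.trans hβt.eq))
  have himg : β fr.Th.t₁ = fr.Th.t * fr.Th.t₁ := by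
    rcases fr.Th.four (β fr.Th.t₁) (by
        have := congrArg β fr.Th.t₁a.eq
        rwa [map_mul, map_mul, hfixa] at this) (by rw [← map_mul, fr.Th.t₁₁, map_one]) with h | h | h | h
    · exact absurd ((map_eq_one_iff β β.injective).1 h) fr.Th.t₁_ne
    · exact absurd (β.injective (h.trans hfixt.symm)) fr.Th.t₁t
    · exact (moves_w₁ fr oH hox hω (by rw [← hβ, hnat, h])).elim
    · exact h
  have hc0 := hcm _ o.2 _ hw1R
  obtain ⟨c0, hc0def⟩ : ∃ c0 : ↥(cH z), c0 = oH * ⟨fr.w₁, fr.w₁.2.1⟩ * oH⁻¹ * (⟨fr.w₁, fr.w₁.2.1⟩ : ↥(cH z))⁻¹ :=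
    ⟨_, rfl⟩
  have hφ0 : D.φ (c0 * (⟨fr.w, fr.w.2.1⟩ : ↥(cH z))⁻¹) = 1 := by
    rw [hc0def, map_mul, map_mul, map_mul, map_mul, map_inv, map_inv, map_inv,
      φ_coe D fr.w₁ (h := ⟨fr.w₁, fr.w₁.2.1⟩) rfl, φ_coe D fr.w (h := ⟨fr.w, fr.w.2.1⟩) rfl, fr.πw₁, fr.πw,
      ← hβ, hnat, himg, mul_inv_cancel_right, ← map_inv MulAut.conj, ← map_inv MulAut.conj, ← map_mul, ← map_mul]
    rw [show fr.Th.t * fr.Th.t₁ * fr.Th.t₁⁻¹ * fr.Th.t⁻¹ = 1 by group, map_one]
  obtain ⟨e, he, q, hq, heq⟩ := (D.φ_eq _).1 hφ0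
  have heq' : (o : G) * fr.w₁ * (o : G)⁻¹ * (fr.w₁ : G)⁻¹ * (fr.w : G)⁻¹ = e * q := by
    rw [← heq, hc0def]; rfl
  have hqR' : q ∈ R' := by
    rcases (D.mem_P q).1 hq with rfl | rfl | rfl
    exacts [one_mem _, hpR', mul_mem hpR' hpR']
  have hqx : Commute q (fr.x : G) := commute_of_mem_P D hq fr.x.2
  have hwx : Commute (fr.w : G) (fr.x : G) := (congrArg Subtype.val fr.xw.eq).symm
  have hw1x : Commute (fr.w₁ : G) (fr.x : G) := (congrArg Subtype.val fr.xw₁.eq).symm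
  have hex : Commute e (fr.x : G) := by
    have h1 : Commute (e * q) (fr.x : G) := by
      rw [← heq']
      exact (((hox.mul_left hw1x).mul_left hox.inv_left).mul_left hw1x.inv_left).mul_left hwx.inv_left
    have h2 := h1.mul_left hqx.inv_left
    rwa [mul_inv_cancel_right] at h2
  have hwR' : (fr.w : G) ∈ R' := by
    have e1 : (fr.w : G) = (e * q)⁻¹ * ((o : G) * fr.w₁ * (o : G)⁻¹ * (fr.w₁ : G)⁻¹) := by
      rw [← heq']; group
    rw [e1]
    exact mul_mem (inv_mem (mul_mem (hER' e he hex) hqR')) hc0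
  rcases hv with h | h
  · exact h ▸ hwR'
  · exact h ▸ mul_mem hwR' hzR'

/-- `z` is in the derived group of `C`. -/
theorem z_mem_derived {g : G} (hu : g * z * g⁻¹ ∈ cC z P) (hne : g * z * g⁻¹ ≠ z)
    (hgp : g⁻¹ * D.p * g = (fr.x : G))
    (hclass : ∀ v : G, D.Inner14 v → v * v = 1 → Commute v (fr.x : G) →
      ∃ e ∈ cE z, Commute e (fr.x : G) ∧
        (v = e ∨ v = e * fr.w ∨ v = e * fr.w₁ ∨ v = e * (fr.w * fr.w₁)))
    (hvp : Commute (g⁻¹ * z * g) D.p) :
    z ∈ ⁅cC z P, cC z P⁆ := by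
  classical
  by_contra hz
  set u : ↥(cC z P) := ⟨g * z * g⁻¹, hu⟩ with hu_def
  set v := g⁻¹ * z * g with hv
  have hu2 : u * u = 1 := Subtype.ext (by
    show g * z * g⁻¹ * (g * z * g⁻¹) = 1
    rw [show g * z * g⁻¹ * (g * z * g⁻¹) = g * (z * z) * g⁻¹ by group, z_sq D.hJ]; group)
  have hu1 : g * z * g⁻¹ ≠ 1 := fun h => z_ne D.hJ (conj_eq_one_iff.1 h)
  have hcomm : ∀ c : ↥(cC z P), Commute (D.π c) (D.π u) → Commute (c : G) u := fun c hc =>
    (conj_cases hu2 hc).elim (fun h => mul_inv_eq_iff_eq_mul.1 h) fun h => absurd (z_mem_of_conj (D := D) h) hz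
  have hK := card_cent_C fr hu2 hu1 hne hcomm
  have hco : ∀ a b : G, Commute (g * a * g⁻¹) b ↔ Commute a (g⁻¹ * b * g) := fun a b => by
    constructor <;> intro h
    · show a * (g⁻¹ * b * g) = g⁻¹ * b * g * a
      calc a * (g⁻¹ * b * g) = g⁻¹ * (g * a * g⁻¹ * b) * g := by group
        _ = g⁻¹ * (b * (g * a * g⁻¹)) * g := by rw [h.eq]
        _ = _ := by group
    · show g * a * g⁻¹ * b = b * (g * a * g⁻¹)
      calc g * a * g⁻¹ * b = g * (a * (g⁻¹ * b * g)) * g⁻¹ := by group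
        _ = g * (g⁻¹ * b * g * a) * g⁻¹ := by rw [h.eq]
        _ = _ := by group
  have hzv : Commute v z := by
    have h1 : Commute (g * z * g⁻¹) z := Subgroup.mem_centralizer_singleton_iff.1 hu.1
    exact ((hco z z).1 h1).symm
  have hvC : v ∈ cC z P := mem_cC_of D hzv hvp
  have hvx : Commute v (fr.x : G) := by
    rw [← hgp, hv]
    have h1 : Commute z D.p := D.comm_z D.pC
    simpa using h1.map (MulAut.conj g⁻¹)
  have hv2 : v * v = 1 := by
    rw [hv, show g⁻¹ * z * g * (g⁻¹ * z * g) = g⁻¹ * (z * z) * g by group, z_sq D.hJ]; group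
  have hv1 : v ≠ 1 := fun h => z_ne D.hJ (by
    have := congrArg (fun w => g * w * g⁻¹) h
    simpa [hv, mul_assoc] using this)
  have hvz : v ≠ z := fun h => hne (by
    have := congrArg (fun w => g * w * g⁻¹) h
    simpa [hv, mul_assoc] using this.symm)
  -- `R` is the conjugate of the centraliser of `u` in `C`
  have hRmap : (rGrp z (fr.x : G) v).map (MulAut.conj g).toMonoidHom =
      cC z P ⊓ Subgroup.centralizer ({(u : G)} : Set G) := by
    ext r
    constructor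
    · rintro ⟨s, hs, rfl⟩
      obtain ⟨h1, h2, h3⟩ := mem_rGrp.1 hs
      show g * s * g⁻¹ ∈ _
      refine ⟨mem_cC_of D ((hco s z).2 h3) ((hco s D.p).2 (hgp ▸ h2)),
        Subgroup.mem_centralizer_singleton_iff.2 ((hco s (u : G)).2 ?_).eq⟩
      rwa [show g⁻¹ * (u : G) * g = z by rw [hu_def]; group]
    · rintro ⟨hr, hru⟩
      refine ⟨g⁻¹ * r * g, mem_rGrp.2 ⟨?_, ?_, ?_⟩, by show g * (g⁻¹ * r * g) * g⁻¹ = r; group⟩
      · have := (hco (g⁻¹ * r * g) (u : G)).1 (by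
          rw [show g * (g⁻¹ * r * g) * g⁻¹ = r by group]; exact Subgroup.mem_centralizer_singleton_iff.1 hru)
        rwa [show g⁻¹ * (u : G) * g = z by rw [hu_def]; group] at this
      · rw [← hgp]
        exact (hco (g⁻¹ * r * g) D.p).1 (by
          rw [show g * (g⁻¹ * r * g) * g⁻¹ = r by group]; exact (commute_of_mem_P D D.p_mem hr).symm)
      · exact (hco (g⁻¹ * r * g) z).1 (by
          rw [show g * (g⁻¹ * r * g) * g⁻¹ = r by group]; exact Subgroup.mem_centralizer_singleton_iff.1 hr.1)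
  have hR : 2304 ≤ Nat.card ↥(rGrp z (fr.x : G) v) := by
    rw [← hRmap, Subgroup.card_map_of_injective (MulAut.conj g).injective] at hK
    exact hK
  have hww : Commute (fr.w : G) (fr.w₁ : G) := by
    have h := conj_cases (c := fr.w) fr.ww₁ (by rw [fr.πw, fr.πw₁]; exact fr.Th.comm)
    exact h.elim (fun h => mul_inv_eq_iff_eq_mul.1 h) fun h => absurd (z_mem_of_conj (D := D) h) hz
  -- the type of `v`
  obtain ⟨e, he, -, hcase⟩ := hclass v (D.inner14_cC hvC) hv2 hvx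
  have hE : ∀ c ∈ cC z P, v = e * c → e = 1 ∨ e = z := fun c hc h => cE_cC D he (by
    rw [show e = v * c⁻¹ by rw [h]; group]; exact mul_mem hvC (inv_mem hc))
  have hez : e = 1 ∨ e = z := by
    rcases hcase with h | h | h | h
    · exact hE 1 (one_mem _) (h.trans (mul_one e).symm)
    · exact hE _ fr.w.2 h
    · exact hE _ fr.w₁.2 h
    · exact hE _ (mul_mem fr.w.2 fr.w₁.2) h
  have hEz : ∀ f ∈ cE z, Commute f e := fun f hf => by
    rcases hez with rfl | rfl
    exacts [Commute.one_right f, Subgroup.mem_centralizer_singleton_iff.1 (cE_le _ hf)]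
  -- small centralisers
  have small : ∀ c : G, v = e * c → (∀ f ∈ cE z, Commute f (fr.x : G) → Commute f c → Commute f (fr.w₁ : G)) →
      False := by
    intro c hc hcw
    have hk := card_ker_le fr v hvC (cE z ⊓ Subgroup.centralizer ({(fr.x : G), (fr.w₁ : G)} : Set G))
      fun f hf hfx hfv => ⟨hf, Subgroup.mem_centralizer_iff.2 fun a ha => by
        have hfc : Commute f c := by
          have h := (hEz f hf).inv_right.mul_right hfv
          rwa [hc, inv_mul_cancel_left] at h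
        rcases ha with rfl | rfl
        exacts [hfx.symm.eq, (hcw f hf hfx hfc).symm.eq]⟩
    rw [fr.card_w₁] at hk
    have := Nat.mul_le_mul hk (card_range_le fr v)
    rw [← card_rGrp] at this
    omega
  rcases hcase with h | h | h | h
  · exact hez.elim (fun h' => hv1 (h.trans h')) fun h' => hvz (h.trans h')
  · have hv' : v = (fr.w : G) ∨ v = (fr.w : G) * z := by
      rcases hez with rfl | rfl
      · exact Or.inl (by rw [h, one_mul])
      · exact Or.inr (by rw [h, D.comm_z fr.w])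
    have hd := Subgroup.mem_map_of_mem (MulAut.conj g).toMonoidHom (mem_derived fr hv' hww hR)
    rw [Subgroup.map_commutator, hRmap] at hd
    have hgv : (MulAut.conj g).toMonoidHom v = z := by
      show g * (g⁻¹ * z * g) * g⁻¹ = z
      group
    exact hz (Subgroup.commutator_mono inf_le_left inf_le_left (hgv ▸ hd))
  · exact small _ h fun f _ _ hf => hf
  · exact small _ h fun f hf hfx hfc => by
      have h2 := (fr.w_fix f hf hfx).inv_right.mul_right hfc
      rwa [inv_mul_cancel_left] at h2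

/-- `C` is perfect, given the classification of the involutions and of the elements of order three at `x`
and the fact that `g⁻¹ p g` is outside `E * P`. -/
theorem perfect_of (hmain : ∃ g, g * z * g⁻¹ ∈ cC z P ∧ g * z * g⁻¹ ≠ z)
    (hcore : ∀ g, g * z * g⁻¹ ∈ cC z P → g * z * g⁻¹ ≠ z → ¬ ∃ e ∈ cE z, ∃ q ∈ P, g⁻¹ * D.p * g = e * q)
    (hconj : ∀ y ∈ cH z, y ^ 3 = 1 → (¬ ∃ e ∈ cE z, ∃ q ∈ P, y = e * q) →
      ∃ h ∈ cH z, h * y * h⁻¹ = (fr.x : G))
    (hclass : ∀ v : G, D.Inner14 v → v * v = 1 → Commute v (fr.x : G) →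
      ∃ e ∈ cE z, Commute e (fr.x : G) ∧
        (v = e ∨ v = e * fr.w ∨ v = e * fr.w₁ ∨ v = e * (fr.w * fr.w₁))) :
    ⁅cC z P, cC z P⁆ = cC z P := by
  classical
  set J := ⁅cC z P, cC z P⁆ with hJ
  have hJC : J ≤ cC z P := Subgroup.commutator_le.2 fun a ha b hb => by
    rw [commutatorElement_def]
    exact mul_mem (mul_mem (mul_mem ha hb) (inv_mem ha)) (inv_mem hb)
  have hpJ : D.p ∈ J := D.hJ.2.2.2.2.2.2.2.2 D.p_mem
  -- `z` is in the derived group
  have hzJ : z ∈ J := by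
    obtain ⟨g₀, hu₀, hne₀⟩ := hmain
    -- normalise to `g⁻¹ p g = x`
    have hy : g₀⁻¹ * D.p * g₀ ∈ cH z := by
      rw [mem_cH_iff]
      have h1 : Commute D.p (g₀ * z * g₀⁻¹) := commute_of_mem_P D D.p_mem hu₀
      show g₀⁻¹ * D.p * g₀ * z = z * (g₀⁻¹ * D.p * g₀)
      calc g₀⁻¹ * D.p * g₀ * z = g₀⁻¹ * (D.p * (g₀ * z * g₀⁻¹)) * g₀ := by group
        _ = g₀⁻¹ * ((g₀ * z * g₀⁻¹) * D.p) * g₀ := by rw [h1.eq]
        _ = z * (g₀⁻¹ * D.p * g₀) := by group
    have hy3 : (g₀⁻¹ * D.p * g₀) ^ 3 = 1 := by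
      rw [show g₀⁻¹ * D.p * g₀ = g₀⁻¹ * D.p * g₀⁻¹⁻¹ by rw [inv_inv], conj_pow, D.p3]; group
    obtain ⟨h, hh, hhx⟩ := hconj _ hy hy3 (hcore g₀ hu₀ hne₀)
    obtain ⟨g, hg⟩ : ∃ g, g = g₀ * h⁻¹ := ⟨_, rfl⟩
    have hhz : h⁻¹ * z * h = z := by
      rw [mul_assoc, ← Subgroup.mem_centralizer_singleton_iff.1 hh, inv_mul_cancel_left]
    have hgz : g * z * g⁻¹ = g₀ * z * g₀⁻¹ := by
      rw [hg, show g₀ * h⁻¹ * z * (g₀ * h⁻¹)⁻¹ = g₀ * (h⁻¹ * z * h) * g₀⁻¹ by group, hhz]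
    have hgp : g⁻¹ * D.p * g = (fr.x : G) := by rw [← hhx, hg]; group
    have hu : g * z * g⁻¹ ∈ cC z P := hgz ▸ hu₀
    have hne : g * z * g⁻¹ ≠ z := hgz ▸ hne₀
    by_contra hz
    set u : ↥(cC z P) := ⟨g * z * g⁻¹, hu⟩ with hu_def
    set v := g⁻¹ * z * g with hv
    have hu2 : u * u = 1 := Subtype.ext (by
      show g * z * g⁻¹ * (g * z * g⁻¹) = 1
      rw [show g * z * g⁻¹ * (g * z * g⁻¹) = g * (z * z) * g⁻¹ by group, z_sq D.hJ]; group)
    have hu1 : g * z * g⁻¹ ≠ 1 := fun e => z_ne D.hJ (conj_eq_one_iff.1 e)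
    -- an element of order three of `C` centralising `u`
    have hm := π_sq_ne fr hu2 hu1 hne
    obtain ⟨c, hc3, hcu, hcne⟩ : ∃ c : ↥(cC z P), c ^ 3 = 1 ∧ Commute (c : G) u ∧ D.π c ≠ 1 := by
      obtain ⟨m, hm'⟩ := isConj_iff.1 (fr.F.inv_conj fr.Th.t (D.π u)
        (orderOf_eq_prime (by rw [pow_two, fr.Th.tt]) fr.Th.t1) (orderOf_eq_prime (by rw [pow_two, hm.1]) hm.2))
      obtain ⟨b, rfl⟩ := D.πsurj m
      refine ⟨b * fr.x * b⁻¹, by rw [conj_pow, fr.x3, mul_one, mul_inv_cancel], ?_, ?_⟩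
      · have hπ : Commute (D.π (b * fr.x * b⁻¹)) (D.π u) := by
          rw [← hm', map_mul, map_mul, map_inv, fr.πx]
          show D.π b * fr.Th.a * (D.π b)⁻¹ * (D.π b * fr.Th.t * (D.π b)⁻¹) =
            D.π b * fr.Th.t * (D.π b)⁻¹ * (D.π b * fr.Th.a * (D.π b)⁻¹)
          rw [show D.π b * fr.Th.a * (D.π b)⁻¹ * (D.π b * fr.Th.t * (D.π b)⁻¹) =
            D.π b * (fr.Th.a * fr.Th.t) * (D.π b)⁻¹ by group, ← fr.Th.ta.eq]
          group
        exact (conj_cases hu2 hπ).elim (fun e => mul_inv_eq_iff_eq_mul.1 e)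
          fun e => absurd (z_mem_of_conj (D := D) e) hz
      · rw [map_mul, map_mul, map_inv, fr.πx, ne_eq, conj_eq_one_iff]
        exact fr.Th.a1
    -- its conjugate `s` centralises `z`, `x` and `v`
    obtain ⟨s, hs⟩ : ∃ s, s = g⁻¹ * (c : G) * g := ⟨_, rfl⟩
    have hcomm : ∀ b : G, Commute (c : G) b → Commute s (g⁻¹ * b * g) := fun b hb => by
      rw [hs]
      show g⁻¹ * (c : G) * g * (g⁻¹ * b * g) = g⁻¹ * b * g * (g⁻¹ * (c : G) * g)
      calc g⁻¹ * (c : G) * g * (g⁻¹ * b * g) = g⁻¹ * ((c : G) * b) * g := by group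
        _ = g⁻¹ * (b * (c : G)) * g := by rw [hb.eq]
        _ = _ := by group
    have hsz : Commute s z := by
      have h1 := hcomm (u : G) hcu
      rwa [show g⁻¹ * (u : G) * g = z by rw [hu_def]; group] at h1
    have hsx : Commute s (fr.x : G) := hgp ▸ hcomm D.p (D.comm_p c).symm
    have hsv : Commute s v := hcomm z (D.comm_z c).symm
    have hs3 : s ^ 3 = 1 := by
      rw [hs, show g⁻¹ * (c : G) * g = g⁻¹ * (c : G) * g⁻¹⁻¹ by rw [inv_inv], conj_pow,
        show (c : G) ^ 3 = 1 from congrArg Subtype.val hc3]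
      group
    have hxπ : D.π fr.x ≠ 1 := fr.πx ▸ fr.Th.a1
    -- some combination of `s` and `x` is congruent to a non-trivial power of `p`
    obtain ⟨i, e, he, q, hq, hseq⟩ : ∃ i : ℕ, ∃ e ∈ cE z, ∃ q ∈ P, s = e * q * (fr.x : G) ^ i := by
      set sH : ↥(cH z) := ⟨s, mem_cH_iff.2 hsz⟩
      have hsI : D.φ sH ∈ Inn M22t := by
        by_contra hout
        have h3 : D.φ sH ^ 3 = 1 := by rw [← map_pow, show sH ^ 3 = 1 from Subtype.ext hs3, map_one]
        have h2 : D.φ sH * D.φ sH ∈ Inn M22t :=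
          (Subgroup.mul_mem_iff_of_index_two (show (Inn M22t).index = 2 from Compute.Mathieu.card_out_M22)).2 Iff.rfl
        apply hout
        have : D.φ sH = (D.φ sH * D.φ sH)⁻¹ := eq_inv_of_mul_eq_one_right (by rw [← h3, pow_succ, pow_two])
        rw [this]
        exact inv_mem h2
      obtain ⟨f, hf, d, hd, hsd⟩ := (D.inner14_iff sH).2 hsI
      obtain ⟨m, hmd⟩ : ∃ m : M22t, m = D.π ⟨d, hd⟩ := ⟨_, rfl⟩
      have hm3 : m ^ 3 = 1 := by
        apply m22_conj_injective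
        rw [map_pow, map_one, hmd, ← D.φ_inner hf ⟨d, hd⟩ hsd, ← map_pow,
          show sH ^ 3 = 1 from Subtype.ext hs3, map_one]
      have hma : Commute m fr.Th.a := by
        refine commute_of_conj D ?_
        rw [hmd, ← D.φ_inner hf ⟨d, hd⟩ hsd, ← fr.πx, ← φ_coe D fr.x (h := ⟨fr.x, fr.x.2.1⟩) rfl]
        exact (show Commute sH ⟨fr.x, fr.x.2.1⟩ from Subtype.ext hsx.eq).map D.φ
      -- a lift of order three commuting with `x`
      obtain ⟨d', hd'⟩ : ∃ d' : ↥(cC z P), d' = (⟨d, hd⟩ : ↥(cC z P)) ^ 4 := ⟨_, rfl⟩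
      have hd3 : (⟨d, hd⟩ : ↥(cC z P)) ^ 3 = 1 ∨ (((⟨d, hd⟩ : ↥(cC z P)) ^ 3 : ↥(cC z P)) : G) = z := by
        have hk : ((⟨d, hd⟩ : ↥(cC z P)) ^ 3 : ↥(cC z P)).1 ∈ cE z := by
          show d ^ 3 ∈ cE z
          have h1 : s = f * d := hsd
          have hdH : ∀ k : ℕ, d ^ k ∈ cH z := fun k => pow_mem hd.1 k
          have e3 : s ^ 3 = f * (d * f * d⁻¹) * (d ^ 2 * f * (d ^ 2)⁻¹) * d ^ 3 := by
            rw [h1]; simp only [pow_succ, pow_zero, one_mul]; group
          rw [hs3, eq_comm, mul_eq_one_iff_inv_eq] at e3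
          rw [← e3]
          exact inv_mem (mul_mem (mul_mem hf (cE_conj hd.1 hf)) (cE_conj (hdH 2) hf))
        rcases cE_cC D hk ((⟨d, hd⟩ : ↥(cC z P)) ^ 3).2 with h | h
        · exact Or.inl (Subtype.ext h)
        · exact Or.inr h
      have hd'3 : d' ^ 3 = 1 := by
        rw [hd', ← pow_mul, show 4 * 3 = 3 * 4 from rfl, pow_mul]
        rcases hd3 with h | h
        · rw [h, one_pow]
        · apply Subtype.ext
          rw [SubgroupClass.coe_pow, h, show (4 : ℕ) = 2 * 2 from rfl, pow_mul, pow_two z, z_sq D.hJ, one_pow]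
          rfl
      have hπd' : D.π d' = m := by
        rw [hd', map_pow, ← hmd, pow_succ, hm3, one_mul]
      have hd'f : ∃ f' ∈ cE z, s = f' * (d' : G) := by
        refine ⟨f * ((((⟨d, hd⟩ : ↥(cC z P)) ^ 3 : ↥(cC z P)) : G))⁻¹, mul_mem hf (inv_mem ?_), ?_⟩
        · rcases hd3 with h | h
          · rw [h]; exact one_mem _
          · rw [h]; exact z_mem D.hJ
        · rw [show s = f * d from hsd, hd', SubgroupClass.coe_pow, SubgroupClass.coe_pow]
          show f * d = f * (d ^ 3)⁻¹ * d ^ 4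
          group
      obtain ⟨f', hf', hsd'⟩ := hd'f
      have hd'x : Commute d' fr.x := by
        have h1 : (fr.x : G) * d' * (fr.x : G)⁻¹ * (d' : G)⁻¹ ∈ cE z := by
          have h2 : (fr.x : G) * s * (fr.x : G)⁻¹ = s := by rw [← hsx.eq, mul_inv_cancel_right]
          have h3 : (fr.x : G) * d' * (fr.x : G)⁻¹ = ((fr.x : G) * f' * (fr.x : G)⁻¹)⁻¹ * f' * d' := by
            calc (fr.x : G) * d' * (fr.x : G)⁻¹
                = ((fr.x : G) * f' * (fr.x : G)⁻¹)⁻¹ * ((fr.x : G) * (f' * d') * (fr.x : G)⁻¹) := by group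
              _ = _ := by rw [← hsd', h2, hsd']; group
          rw [h3, mul_inv_cancel_right]
          exact mul_mem (inv_mem (cE_conj fr.x.2.1 hf')) hf'
        obtain ⟨k, hk⟩ : ∃ k : ↥(cC z P), k = fr.x * d' * fr.x⁻¹ * d'⁻¹ := ⟨_, rfl⟩
        have hk1 : (k : G) = 1 ∨ (k : G) = z := cE_cC D (by rw [hk]; exact h1) k.2
        have hkπ : D.π k = 1 := by
          rcases hk1 with h | h
          · rw [show k = 1 from Subtype.ext h, map_one]
          · rw [show k = ⟨z, D.z_mem_C⟩ from Subtype.ext h, z_ker D]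
        have hk3 : k ^ 3 = 1 := by
          have e : fr.x * d' * fr.x⁻¹ = k * d' := by rw [hk]; group
          have h := congrArg (fun w => w ^ 3) e
          simp only [conj_pow, hd'3, mul_one, mul_inv_cancel] at h
          rw [(D.toJMod.ker_comm k hkπ d').mul_pow, hd'3, mul_one] at h
          exact h.symm
        rcases hk1 with h | h
        · have hk' : k = 1 := Subtype.ext h
          rw [hk, mul_inv_eq_one, mul_inv_eq_iff_eq_mul] at hk'
          exact hk'.symm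
        · exfalso
          have h' : (k : G) ^ 3 = 1 := congrArg Subtype.val hk3
          rw [h, pow_succ, pow_two, z_sq D.hJ, one_mul] at h'
          exact z_ne D.hJ h'
      obtain ⟨i, hi⟩ : ∃ i : ℕ, m = fr.Th.a ^ i := by
        by_contra hno
        push Not at hno
        have hinv : fr.Th.a⁻¹ = fr.Th.a ^ 2 := inv_eq_of_mul_eq_one_right (by rw [← pow_succ', fr.Th.a3])
        refine D.nonab fr.x d' fr.x3 hd'3 hxπ ?_ ?_ ?_ hd'x.symm
        · rw [hπd']; exact fun h => hno 0 (by rw [h, pow_zero])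
        · rw [hπd', fr.πx]; exact fun h => hno 1 (by rw [h, pow_one])
        · rw [hπd', fr.πx]; exact fun h => hno 2 (by rw [h, hinv])
      obtain ⟨k, hk⟩ : ∃ k : ↥(cC z P), k = d' * (fr.x ^ i)⁻¹ := ⟨_, rfl⟩
      have hkπ : D.π k = 1 := by rw [hk, map_mul, map_inv, map_pow, hπd', fr.πx, hi, mul_inv_cancel]
      obtain ⟨j, hj⟩ := (D.ker_iff k).1 hkπ
      have hd'eq : (d' : G) = (k : G) * (fr.x : G) ^ i := by
        rw [hk]
        simp [mul_assoc]
      rcases hj with h | h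
      · exact ⟨i, f', hf', D.p ^ j, pow_mem D.p_mem j, by rw [hsd', hd'eq, h, mul_assoc]⟩
      · exact ⟨i, f' * z, mul_mem hf' (z_mem D.hJ), D.p ^ j, pow_mem D.p_mem j,
          by rw [hsd', hd'eq, h]; group⟩
    have hqx : Commute q (fr.x : G) := commute_of_mem_P D hq fr.x.2
    obtain ⟨r, hr⟩ : ∃ r, r = e * q := ⟨_, rfl⟩
    have hrs : r = s * ((fr.x : G) ^ i)⁻¹ := by rw [hr, hseq, mul_inv_cancel_right]
    have hrx : Commute r (fr.x : G) := by rw [hrs]; exact hsx.mul_left ((Commute.refl _).pow_left i).inv_left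
    have hrv : Commute r v := by
      have hvx : Commute (fr.x : G) v := by
        rw [← hgp, hv]
        have h1 : Commute D.p z := (D.comm_z D.pC).symm
        show g⁻¹ * D.p * g * (g⁻¹ * z * g) = g⁻¹ * z * g * (g⁻¹ * D.p * g)
        calc g⁻¹ * D.p * g * (g⁻¹ * z * g) = g⁻¹ * (D.p * z) * g := by group
          _ = g⁻¹ * (z * D.p) * g := by rw [h1.eq]
          _ = _ := by group
      rw [hrs]; exact hsv.mul_left (hvx.pow_left i).inv_left
    have hr3 : r ^ 3 = 1 := by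
      have hx3 : (fr.x : G) ^ 3 = 1 := congrArg Subtype.val fr.x3
      rw [hrs, (hsx.pow_right i).inv_right.mul_pow, hs3, one_mul, inv_pow, ← pow_mul, mul_comm, pow_mul, hx3,
        one_pow, inv_one]
    have hq1 : q ≠ 1 := by
      rintro rfl
      rw [mul_one] at hr
      have he3 : orderOf r ∣ 3 := orderOf_dvd_of_pow_eq_one hr3
      have he13 : orderOf r ∣ 2 ^ 13 := by
        rw [← cardE D.hJ]
        exact Subgroup.orderOf_dvd_natCard _ (hr ▸ he)
      have h1 := Nat.dvd_gcd he3 he13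
      rw [show Nat.gcd 3 (2 ^ 13) = 1 by norm_num, Nat.dvd_one, orderOf_eq_one_iff] at h1
      rw [hrs, mul_inv_eq_one] at h1
      -- `c` would be a power of `p`
      apply hcne
      refine (D.ker_iff c).2 ⟨i, Or.inl ?_⟩
      have : (c : G) = g * s * g⁻¹ := by rw [hs]; group
      rw [this, h1, ← conj_pow, ← hgp]
      group
    -- replace `r` by its inverse to get `e * p`
    obtain ⟨e₁, he₁, hr₁, hex⟩ : ∃ e₁ ∈ cE z, ((r = e₁ * D.p) ∨ (r⁻¹ = e₁ * D.p)) ∧ Commute e₁ (fr.x : G) := by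
      have hex : Commute e (fr.x : G) := by
        have := hrx.mul_left hqx.inv_left
        rwa [hr, mul_inv_cancel_right] at this
      have hpx : Commute D.p (fr.x : G) := D.comm_p fr.x
      rcases (D.mem_P q).1 hq with h | h | h
      · exact absurd h hq1
      · exact ⟨e, he, Or.inl (by rw [hr, h]), hex⟩
      · refine ⟨D.p * e⁻¹ * D.p⁻¹, cE_conj D.pH (inv_mem he), Or.inr ?_,
          (hpx.mul_left hex.inv_left).mul_left hpx.inv_left⟩
        rw [hr, h, mul_inv_rev, mul_inv_rev]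
        have : D.p⁻¹ * D.p⁻¹ = D.p := by rw [← mul_inv_rev, inv_eq_iff_mul_eq_one, ← D.p3, pow_succ, pow_two]
        rw [this]
        group
    have hr13 : (e₁ * D.p) ^ 3 = 1 := by
      rcases hr₁ with h | h
      · rw [← h, hr3]
      · rw [← h, inv_pow, hr3, inv_one]
    have hr1v : Commute (e₁ * D.p) v := by
      rcases hr₁ with h | h
      · rw [← h]; exact hrv
      · rw [← h]; exact hrv.inv_left
    obtain ⟨d, hd, hdx, hdp⟩ := exists_conj_p D fr.x fr.x3 ⟨e₁, he₁⟩ hr13 hex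
    have hdz : d * z * d⁻¹ = z := by
      rw [Subgroup.mem_centralizer_singleton_iff.1 (cE_le z hd), mul_inv_cancel_right]
    refine hz (z_mem_derived fr (g := g * d) ?_ ?_ ?_ hclass ?_)
    · rw [show g * d * z * (g * d)⁻¹ = g * (d * z * d⁻¹) * g⁻¹ by group, hdz]; exact hu
    · rw [show g * d * z * (g * d)⁻¹ = g * (d * z * d⁻¹) * g⁻¹ by group, hdz]; exact hne
    · rw [show (g * d)⁻¹ * D.p * (g * d) = d⁻¹ * (g⁻¹ * D.p * g) * d by group, hgp, mul_assoc, ← hdx.eq,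
        inv_mul_cancel_left]
    · show (g * d)⁻¹ * z * (g * d) * D.p = D.p * ((g * d)⁻¹ * z * (g * d))
      have h1 : d * D.p * d⁻¹ * (g⁻¹ * z * g) = g⁻¹ * z * g * (d * D.p * d⁻¹) := by
        rw [hdp]; exact hr1v.eq
      calc (g * d)⁻¹ * z * (g * d) * D.p = d⁻¹ * (g⁻¹ * z * g * (d * D.p * d⁻¹)) * d := by group
        _ = d⁻¹ * (d * D.p * d⁻¹ * (g⁻¹ * z * g)) * d := by rw [h1]
        _ = _ := by group
  -- `J` maps onto `M22`
  refine le_antisymm hJC fun c hc => ?_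
  obtain ⟨K, hK⟩ : ∃ K, K = ⁅(⊤ : Subgroup ↥(cC z P)), (⊤ : Subgroup ↥(cC z P))⁆ := ⟨_, rfl⟩
  have hKJ : K.map (cC z P).subtype = J := by
    rw [hK, Subgroup.map_commutator, ← MonoidHom.range_eq_map, Subgroup.range_subtype]
  have htop : K.map D.π = ⊤ := by
    rw [hK, Subgroup.map_commutator, Subgroup.map_top_of_surjective _ D.πsurj]
    have hsimp := fr.F.simple
    rcases ((⁅(⊤ : Subgroup M22t), (⊤ : Subgroup M22t)⁆).normal_of_characteristic).eq_bot_or_eq_top with h | h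
    · exfalso
      have h1 : ⁅fr.F.y, fr.F.a⁆ ∈ (⊥ : Subgroup M22t) :=
        h ▸ Subgroup.commutator_mem_commutator (Subgroup.mem_top _) (Subgroup.mem_top _)
      rw [Subgroup.mem_bot, commutatorElement_def, mul_inv_eq_one] at h1
      exact fr.F.ba h1
    · exact h
  obtain ⟨j, hj, hjc⟩ := htop.ge (Subgroup.mem_top (D.π ⟨c, hc⟩))
  obtain ⟨i, hi⟩ := (D.ker_iff (j⁻¹ * ⟨c, hc⟩)).1 (by rw [map_mul, map_inv, hjc, inv_mul_cancel])
  have hjJ : (j : G) ∈ J := hKJ ▸ ⟨j, hj, rfl⟩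
  have hval : ((j⁻¹ * ⟨c, hc⟩ : ↥(cC z P)) : G) = (j : G)⁻¹ * c := rfl
  rw [hval] at hi
  have hmem : (j : G)⁻¹ * c ∈ J := by
    rcases hi with h | h
    · rw [h]; exact pow_mem hpJ i
    · rw [h]; exact mul_mem hzJ (pow_mem hpJ i)
  have := mul_mem hjJ hmem
  rwa [mul_inv_cancel_left] at this

/-- `C` is perfect, given that `g⁻¹ p g` is outside `E * P`. -/
theorem perfect_of_core (hmain : ∃ g, g * z * g⁻¹ ∈ cC z P ∧ g * z * g⁻¹ ≠ z)
    (hcore : ∀ g, g * z * g⁻¹ ∈ cC z P → g * z * g⁻¹ ≠ z → ¬ ∃ e ∈ cE z, ∃ q ∈ P, g⁻¹ * D.p * g = e * q) :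
    ⁅cC z P, cC z P⁆ = cC z P :=
  perfect_of fr hmain hcore (fun _ hy hy3 hne => conj_x fr hy hy3 hne) fun _ hu h2 hx => classify_x fr hu h2 hx

end Cfsg.Agent.Lib.J4Fusion14
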