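import Cfsg.Agent.Lib.J4Fusion14.Rows

/-!
# The element `p` is conjugate to the lift `x`
-/

set_option autoImplicit false

namespace Cfsg.Agent.Lib.J4Fusion14

open Cfsg Cfsg.Agent.Lib.J4Type19

/-- `p` and `x` are conjugate, from a conjugate of `z` in the centralizer of `P`. -/
theorem isConj_p_x_of {G : Type*} [Group G] [Finite G] {z : G} {P : Subgroup G} {D : HData z P} (fr : Frame D)
    {g : G} (hC : g * z * g⁻¹ ∈ cC z P)
    (hcore : ¬ ∃ e ∈ cE z, ∃ q ∈ P, g⁻¹ * D.p * g = e * q)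
    (hconj : ∀ {y : G}, y ∈ cH z → y ^ 3 = 1 → (¬ ∃ e ∈ cE z, ∃ q ∈ P, y = e * q) →
      ∃ h ∈ cH z, h * y * h⁻¹ = fr.x) :
    IsConj D.p (fr.x : G) := by
  have h1 : D.p * (g * z * g⁻¹) = g * z * g⁻¹ * D.p := D.comm_p ⟨_, hC⟩
  have hy : g⁻¹ * D.p * g ∈ cH z := Subgroup.mem_centralizer_singleton_iff.2 (by
    calc g⁻¹ * D.p * g * z = g⁻¹ * (D.p * (g * z * g⁻¹)) * g := by group
      _ = g⁻¹ * (g * z * g⁻¹ * D.p) * g := by rw [h1]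
      _ = z * (g⁻¹ * D.p * g) := by group)
  have hy3 : (g⁻¹ * D.p * g) ^ 3 = 1 := by
    rw [show g⁻¹ * D.p * g = g⁻¹ * D.p * g⁻¹⁻¹ by rw [inv_inv], conj_pow, D.p3]; group
  obtain ⟨h, -, hh⟩ := hconj hy hy3 hcore
  refine isConj_iff.2 ⟨h * g⁻¹, ?_⟩
  rw [← hh]; group

end Cfsg.Agent.Lib.J4Fusion14
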