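import Cfsg.Agent.Lib.J4Fusion14.Defs

/-!
# `C_H(P)` is a perfect sixfold cover of M22, given perfectness
-/

set_option autoImplicit false

namespace Cfsg.Agent.Lib.J4Fusion14

open Cfsg Cfsg.Agent.Lib.J4Type19

attribute [local instance] m22_finite

variable {G : Type*} [Group G] [Finite G] {z : G} {P : Subgroup G} (D : HData z P)
include D

theorem center_cC_eq : Subgroup.center ↥(cC z P) = D.π.ker := by
  refine le_antisymm (fun c hc => ?_) (fun c hc => Subgroup.mem_center_iff.2 fun g =>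
    (D.toJMod.ker_comm c (MonoidHom.mem_ker.1 hc) g).eq.symm)
  obtain ⟨F⟩ := exists_mFacts
  have hM : IsSimpleGroup M22t := F.simple
  have hmem : D.π c ∈ Subgroup.center M22t := Subgroup.mem_center_iff.2 fun m => by
    obtain ⟨g, rfl⟩ := D.πsurj m
    rw [← map_mul, ← map_mul, Subgroup.mem_center_iff.1 hc g]
  rcases Subgroup.Normal.eq_bot_or_eq_top (inferInstance : (Subgroup.center M22t).Normal) with h | h
  · exact MonoidHom.mem_ker.2 (Subgroup.mem_bot.1 (h ▸ hmem))
  · exfalso
    have hcomm : ∀ a b : M22t, a * b = b * a := fun a b =>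
      (Subgroup.mem_center_iff.1 (h ▸ Subgroup.mem_top b : b ∈ Subgroup.center M22t) a)
    let _ : CommGroup M22t := { (inferInstance : Group M22t) with mul_comm := hcomm }
    have hprime : (Nat.card M22t).Prime := IsSimpleGroup.prime_card
    rw [m22_card] at hprime
    exact Nat.not_prime_mul (a := 2) (b := 221760) (by norm_num) (by norm_num) hprime

theorem center_cC_facts :
    IsCyclic ↥(Subgroup.center ↥(cC z P)) ∧ Nat.card ↥(Subgroup.center ↥(cC z P)) = 6 ∧
      Cfsg.Spor.IsoM22 (↥(cC z P) ⧸ Subgroup.center ↥(cC z P)) := by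
  have hc := center_cC_eq D
  have h6 : Nat.card ↥(Subgroup.center ↥(cC z P)) = 6 := by
    have h := D.π.ker.card_mul_index
    rw [Subgroup.index_ker, MonoidHom.range_eq_top.2 D.πsurj, Subgroup.card_top, m22_card, D.card_C, ← hc] at h
    exact Nat.eq_of_mul_eq_mul_right (by norm_num) h
  refine ⟨?_, h6, ⟨(QuotientGroup.quotientMulEquivOfEq hc).trans
    (QuotientGroup.quotientKerEquivOfSurjective D.π D.πsurj)⟩⟩
  let zC : ↥(cC z P) := ⟨z, D.z_mem_C⟩
  have hzker : zC * D.pC ∈ Subgroup.center ↥(cC z P) := by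
    rw [hc, MonoidHom.mem_ker]
    exact (D.ker_iff _).2 ⟨1, Or.inr (by rw [pow_one]; rfl)⟩
  refine isCyclic_of_orderOf_eq_card ⟨_, hzker⟩ ?_
  rw [h6, Subgroup.orderOf_mk]
  have hcom : Commute zC D.pC := Subtype.ext (D.comm_z D.pC)
  have oz : orderOf zC = 2 := by rw [← Subgroup.orderOf_coe]; exact hz D.hJ
  have op : orderOf D.pC = 3 :=
    orderOf_eq_prime (hp := ⟨Nat.prime_three⟩) (Subtype.ext D.p3) fun h => D.pne (congrArg Subtype.val h)
  rw [hcom.orderOf_mul_eq_mul_orderOf_of_coprime (by rw [oz, op]; norm_num), oz, op]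

end Cfsg.Agent.Lib.J4Fusion14
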