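import Cfsg.Agent.Lib.J4Fusion14.Meets
import Cfsg.Agent.Lib.J4Fusion14.Six
import Cfsg.Agent.Lib.J4Fusion14.RowsMain
import Cfsg.Agent.Lib.J4Fusion14.M22Three
import Cfsg.Agent.Lib.J4Fusion14.FrameExists
import Cfsg.Agent.Lib.J4Fusion14.InE
import Cfsg.Agent.Lib.J4Fusion14.CentP
import Cfsg.Agent.Lib.J4Fusion14.Perfect

/-!
# Groups of type J4: the normaliser of `P`, and the elements of order three
-/

set_option autoImplicit false

namespace Cfsg.Agent.Lib.J4Fusion14

open Cfsg Cfsg.Agent.Lib.J4Type19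

variable {G : Type*} [Group G] [Finite G] [IsSimpleGroup G] {z : G} {P : Subgroup G}

/-- Everything needed by the rows. -/
theorem exists_package (hG : ¬ IsMulCommutative G) (hJ : IsOfJankoFourTypeWith z P) :
    ∃ (D : HData z P) (fr : Frame D),
      (∃ g : G, g * z * g⁻¹ ∈ cC z P ∧ g * z * g⁻¹ ≠ z) ∧ ⁅cC z P, cC z P⁆ = cC z P ∧
        Subgroup.normalizer (P : Set G) ≤ cH z ∧ IsConj D.p (fr.x : G) := by
  obtain ⟨D⟩ := exists_hData hJ
  obtain ⟨Th⟩ := exists_three
  obtain ⟨fr⟩ := exists_frame D Th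
  have hmain := exists_conj_mem_cC_of hG fr (classify_inner fr) (classify_x fr) (conj_x fr) (eq_of_mem_E D)
  have hperf := perfect_of_core fr hmain fun g hC hne => not_core_p D hC hne
  refine ⟨D, fr, hmain, hperf, normalizer_le D Th hmain hperf, ?_⟩
  obtain ⟨g, hC, hne⟩ := hmain
  exact isConj_p_x_of fr hC (not_core_p D hC hne) (conj_x fr)

end Cfsg.Agent.Lib.J4Fusion14
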