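import Cfsg.Agent.Lib.J4Fusion14.Frame
import Cfsg.Agent.Lib.Resistant.GenExtraSplit

/-!
# The Sylow 3-subgroups in groups of type J4

`threeSub fr` is the group of order 27 over the frame; its normalizer lies in `cH z` as soon as the
normalizer of `P` does, so it is a Sylow 3-subgroup.
-/

set_option autoImplicit false

namespace Cfsg.Agent.Lib.J4Fusion14

open Cfsg Cfsg.Agent.Lib.J4Type19
open scoped Pointwise

attribute [local instance] m22_finite

variable {G : Type*} [Group G] [Finite G] {z : G} {P : Subgroup G} {D : HData z P} (fr : Frame D)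

theorem ker_cube {k : ↥(cC z P)} (hk : D.π k = 1) (h3 : k ^ 3 = 1) : ∃ j : ℕ, k = D.pC ^ j :=
  D.toJMod.ker3 k hk h3

theorem ker_central {k : ↥(cC z P)} (hk : D.π k = 1) (g : ↥(cC z P)) : Commute k g :=
  D.toJMod.ker_comm k hk g

theorem pC_central (g : ↥(cC z P)) : Commute D.pC g := Subtype.ext (D.comm_p g)

theorem π_pC : D.π D.pC = 1 := D.toJMod.πω

theorem pC_cube : (D.pC : ↥(cC z P)) ^ 3 = 1 := Subtype.ext D.p3

/-- The image of order nine. -/
def nineSub : Subgroup M22t := Subgroup.closure {fr.Th.a, fr.Th.q}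

theorem nineSub_comm {u v : M22t} (hu : u ∈ nineSub fr) (hv : v ∈ nineSub fr) : Commute u v := by
  have : IsMulCommutative ↥(nineSub fr) := Subgroup.isMulCommutative_closure (by
    rintro x (rfl | rfl) y (rfl | rfl)
    exacts [rfl, fr.Th.qa.eq.symm, fr.Th.qa.eq, rfl])
  exact congrArg Subtype.val (this.is_comm.comm (⟨u, hu⟩ : ↥(nineSub fr)) ⟨v, hv⟩)

theorem nineSub_cube {u : M22t} (hu : u ∈ nineSub fr) : u ^ 3 = 1 := by
  induction hu using Subgroup.closure_induction with
  | mem y hy =>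
    rcases hy with rfl | rfl
    exacts [fr.Th.a3, fr.Th.q3]
  | one => exact one_pow 3
  | mul u v hu hv ihu ihv => rw [(nineSub_comm fr hu hv).mul_pow, ihu, ihv, one_mul]
  | inv u _ ihu => rw [inv_pow, ihu, inv_one]

theorem card_nineSub : Nat.card ↥(nineSub fr) = 9 := by
  classical
  have : Fact (Nat.Prime 3) := ⟨Nat.prime_three⟩
  have hpg : IsPGroup 3 ↥(nineSub fr) := fun u => ⟨1, Subtype.ext (by simpa using nineSub_cube fr u.2)⟩
  obtain ⟨k, hk⟩ := IsPGroup.iff_card.1 hpg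
  have hd := (nineSub fr).card_subgroup_dvd_card
  rw [m22_card, hk] at hd
  have hk2 : k ≤ 2 := by
    by_contra h
    exact absurd ((pow_dvd_pow 3 (show 3 ≤ k by omega)).trans hd) (by norm_num)
  have hbig : 4 ≤ Nat.card ↥(nineSub fr) := by
    have hinv : fr.Th.a⁻¹ ≠ fr.Th.a := fun h => fr.Th.a1 (by
      have h3 := fr.Th.a3
      rw [pow_succ, pow_two] at h3
      conv_lhs at h3 => arg 1; arg 1; rw [← h]
      rwa [inv_mul_cancel, one_mul] at h3)
    have hq1 : fr.Th.q ≠ 1 := fun h => fr.Th.t₁t (by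
      have := fr.Th.qt
      rw [h] at this
      simpa using this.symm)
    let s : Finset M22t := {1, fr.Th.a, fr.Th.a⁻¹, fr.Th.q}
    have hs : s.card = 4 := by
      simp only [s]
      rw [Finset.card_insert_of_notMem, Finset.card_insert_of_notMem, Finset.card_insert_of_notMem,
        Finset.card_singleton]
      · simp [fr.Th.qne'.symm]
      · simp [hinv.symm, fr.Th.qne.symm]
      · simp [fr.Th.a1, fr.Th.a1.symm, hq1.symm]
    show 4 ≤ Nat.card ↥(nineSub fr : Set M22t)
    rw [Nat.card_coe_set_eq, ← hs, ← Set.ncard_coe_finset]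
    refine Set.ncard_le_ncard ?_ (Set.toFinite _)
    intro u hu
    simp only [s, Finset.coe_insert, Finset.coe_singleton, Set.mem_insert_iff, Set.mem_singleton_iff] at hu
    have ha : fr.Th.a ∈ nineSub fr := Subgroup.subset_closure (Or.inl rfl)
    rcases hu with rfl | rfl | rfl | rfl
    exacts [one_mem _, ha, inv_mem ha, Subgroup.subset_closure (Or.inr rfl)]
  rw [hk] at hbig ⊢
  interval_cases k <;> simp_all

/-- The elements of cube one over `nineSub`. -/
def threeC : Subgroup ↥(cC z P) where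
  carrier := {c | D.π c ∈ nineSub fr ∧ c ^ 3 = 1}
  one_mem' := ⟨by rw [map_one]; exact one_mem _, one_pow 3⟩
  mul_mem' := by
    rintro c d ⟨hc, hc3⟩ ⟨hd, hd3⟩
    refine ⟨by rw [map_mul]; exact mul_mem hc hd, ?_⟩
    obtain ⟨k, hk⟩ : ∃ k, k = d * c * d⁻¹ * c⁻¹ := ⟨_, rfl⟩
    have hk1 : D.π k = 1 := by
      rw [hk]; simp only [map_mul, map_inv]
      rw [(nineSub_comm fr hd hc).eq]; group
    have hcen := fun g => ker_central (D := D) hk1 g
    have hk3 : k ^ 3 = 1 := by
      have e : (k * c) ^ 3 = 1 := by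
        rw [show k * c = d * c * d⁻¹ by rw [hk]; group, conj_pow, hc3]; group
      rwa [(hcen c).mul_pow, hc3, mul_one] at e
    have hdc : d * c = k * (c * d) := by rw [hk]; group
    have h2 : c * d * (c * d) = k * (c * c * (d * d)) := by
      calc c * d * (c * d) = c * (d * c) * d := by group
        _ = (c * k) * (c * d) * d := by rw [hdc]; group
        _ = k * c * (c * d) * d := by rw [(hcen c).eq]
        _ = _ := by group
    calc (c * d) ^ 3 = (c * d * (c * d)) * (c * d) := by simp [pow_succ]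
      _ = k * (c * c * d * (d * c) * d) := by rw [h2]; group
      _ = k * ((c * c * d * k) * (c * d * d)) := by rw [hdc]; group
      _ = k * (k * (c * c * (d * c) * d * d)) := by rw [← (hcen (c * c * d)).eq]; group
      _ = k * k * ((c * c * k) * (c * d * d * d)) := by rw [hdc]; group
      _ = k * k * k * (c ^ 3 * d ^ 3) := by
          rw [← (hcen (c * c)).eq]; simp only [pow_succ, pow_zero, one_mul, mul_assoc]
      _ = 1 := by rw [hc3, hd3, mul_one, mul_one, ← hk3]; simp [pow_succ]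
  inv_mem' := by
    rintro c ⟨hc, hc3⟩
    exact ⟨by rw [map_inv]; exact inv_mem hc, by rw [inv_pow, hc3, inv_one]⟩

theorem x_mem : fr.x ∈ threeC fr :=
  ⟨fr.πx ▸ Subgroup.subset_closure (Or.inl rfl), fr.x3⟩

theorem q_mem : fr.q ∈ threeC fr :=
  ⟨fr.πq ▸ Subgroup.subset_closure (Or.inr rfl), fr.q3⟩

theorem pC_mem : D.pC ∈ threeC fr :=
  ⟨by rw [π_pC]; exact one_mem _, pC_cube⟩

/-- The group of order 27 in `G`. -/
def threeSub : Subgroup G := (threeC fr).map (cC z P).subtype

theorem map_threeC : (threeC fr).map D.π = nineSub fr := by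
  refine le_antisymm (by rintro _ ⟨c, hc, rfl⟩; exact hc.1) ((Subgroup.closure_le _).2 ?_)
  rintro u (rfl | rfl)
  exacts [⟨_, x_mem fr, fr.πx⟩, ⟨_, q_mem fr, fr.πq⟩]

theorem card_threeC : Nat.card ↥(threeC fr) = 27 := by
  have hp3 : orderOf (D.pC : ↥(cC z P)) = 3 :=
    orderOf_eq_prime (hp := ⟨Nat.prime_three⟩) pC_cube fun h => D.pne (congrArg Subtype.val h)
  let f := D.π.comp (threeC fr).subtype
  have hr : f.range = nineSub fr := by
    rw [← map_threeC fr, MonoidHom.range_comp, Subgroup.range_subtype]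
  have hk : f.ker = (Subgroup.zpowers D.pC).subgroupOf (threeC fr) := by
    ext ⟨c, hc⟩
    rw [MonoidHom.mem_ker, Subgroup.mem_subgroupOf]
    show D.π c = 1 ↔ c ∈ Subgroup.zpowers D.pC
    constructor
    · intro h
      obtain ⟨j, hj⟩ := ker_cube h hc.2
      rw [hj]; exact Subgroup.npow_mem_zpowers _ j
    · rintro ⟨n, rfl⟩
      show D.π (D.pC ^ n) = 1
      rw [map_zpow, π_pC, one_zpow]
  have h := f.ker.card_mul_index
  rw [Subgroup.index_ker, hr, card_nineSub, hk,
    Nat.card_congr (Subgroup.subgroupOfEquivOfLe (Subgroup.zpowers_le.2 (pC_mem fr))).toEquiv,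
    Nat.card_zpowers, hp3] at h
  omega

theorem card_threeSub : Nat.card ↥(threeSub fr) = 27 :=
  (Nat.card_congr (Subgroup.equivMapOfInjective _ _ (cC z P).subtype_injective).toEquiv).symm.trans
    (card_threeC fr)

theorem threeSub_le_C : threeSub fr ≤ cC z P := Subgroup.map_subtype_le _

theorem threeSub_le : threeSub fr ≤ cH z := (threeSub_le_C fr).trans inf_le_left

theorem p_mem_three : D.p ∈ threeSub fr := ⟨_, pC_mem fr, rfl⟩

theorem threeSub_cube {r : G} (hr : r ∈ threeSub fr) : r ^ 3 = 1 := by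
  obtain ⟨c, hc, rfl⟩ := hr
  rw [← map_pow, hc.2, map_one]

theorem threeSub_extra :
    IsExtraspecial 3 ↥(threeSub fr) ∧ Monoid.exponent ↥(threeSub fr) = 3 := by
  have : Fact (Nat.Prime 3) := ⟨Nat.prime_three⟩
  refine Resistant.isExtraspecial_of_card_cube (p := 3) (by rw [card_threeSub]; norm_num)
    (fun e => Subtype.ext (threeSub_cube fr e.2)) ⟨⟨_, _, q_mem fr, rfl⟩, ⟨_, _, x_mem fr, rfl⟩, fun h => ?_⟩
  exact fr.qx (Subtype.ext (congrArg Subtype.val h : (fr.q : G) * fr.x = fr.x * fr.q))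

/-- The normalizer of the group of order 27 normalizes `P`. -/
theorem normalizer_three_le : Subgroup.normalizer (threeSub fr : Set G) ≤ Subgroup.normalizer (P : Set G) := by
  classical
  have hZ := (threeSub_extra fr).1.2
  let pR : ↥(threeSub fr) := ⟨D.p, p_mem_three fr⟩
  have hcen : ∀ r ∈ threeSub fr, r * D.p = D.p * r := fun r hr =>
    (D.comm_p ⟨r, threeSub_le_C fr hr⟩).symm
  have hpc : pR ∈ Subgroup.center ↥(threeSub fr) :=
    Subgroup.mem_center_iff.2 fun r => Subtype.ext (hcen r r.2)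
  have hp3 : orderOf pR = 3 := by
    rw [← Subgroup.orderOf_coe]
    exact orderOf_eq_prime (hp := ⟨Nat.prime_three⟩) D.p3 D.pne
  have hz : Subgroup.zpowers pR = Subgroup.center ↥(threeSub fr) :=
    Subgroup.eq_of_le_of_card_ge (Subgroup.zpowers_le.2 hpc) (by rw [Nat.card_zpowers, hp3, hZ])
  have hP : ∀ x, x ∈ P ↔ x ∈ Subgroup.zpowers D.p := by
    intro x
    constructor
    · intro hx
      rcases (D.mem_P x).1 hx with rfl | rfl | rfl
      exacts [one_mem _, Subgroup.mem_zpowers _, mul_mem (Subgroup.mem_zpowers _) (Subgroup.mem_zpowers _)]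
    · exact fun hx => (Subgroup.zpowers_le.2 D.p_mem) hx
  intro g hg
  rw [Subgroup.mem_normalizer_iff_map_conj_eq]
  refine Subgroup.eq_of_le_of_card_ge ?_
    (Nat.card_congr (Subgroup.equivMapOfInjective P _ (MulAut.conj g).injective).toEquiv).le
  rintro _ ⟨x, hx, rfl⟩
  obtain ⟨n, rfl⟩ := (hP x).1 hx
  rw [map_zpow]
  refine zpow_mem ?_ n
  have hm : g * D.p * g⁻¹ ∈ threeSub fr := (Subgroup.mem_normalizer_iff.1 hg _).1 (p_mem_three fr)
  have hc : (⟨_, hm⟩ : ↥(threeSub fr)) ∈ Subgroup.center ↥(threeSub fr) := by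
    refine Subgroup.mem_center_iff.2 fun r => Subtype.ext ?_
    have hr : g⁻¹ * r * g ∈ threeSub fr := by
      have := (Subgroup.mem_normalizer_iff.1 hg (g⁻¹ * r * g)).2
      exact this (by simp [mul_assoc])
    show (r : G) * (g * D.p * g⁻¹) = g * D.p * g⁻¹ * r
    calc (r : G) * (g * D.p * g⁻¹) = g * (g⁻¹ * r * g * D.p) * g⁻¹ := by group
      _ = g * (D.p * (g⁻¹ * r * g)) * g⁻¹ := by rw [hcen _ hr]
      _ = _ := by group
  rw [← hz] at hc
  obtain ⟨m, hm'⟩ := hc
  exact (hP _).2 ⟨m, congrArg Subtype.val hm'⟩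

omit [Finite G] in
theorem card_cH (hJ : IsOfJankoFourTypeWith z P) : Nat.card ↥(cH z) = 2 ^ 13 * 3 * 887040 := by
  obtain ⟨N, -, hNH, -, hNc, ⟨hNn, ⟨iso⟩⟩, -⟩ := hJ.2.2.2.2.1
  have h := (N.subgroupOf (cH z)).card_mul_index
  have hidx : (N.subgroupOf (cH z)).index = 887040 := by
    rw [Subgroup.index_eq_card, Nat.card_congr iso.toEquiv]
    have h1 := (Inn M22t).card_mul_index
    rw [show (Inn M22t).index = 2 from Compute.Mathieu.card_out_M22,
      show Nat.card ↥(Inn M22t) = 443520 from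
        (Nat.card_congr (MonoidHom.ofInjective m22_conj_injective).toEquiv).symm.trans m22_card] at h1
    exact h1.symm
  rw [hidx, Nat.card_congr (Subgroup.subgroupOfEquivOfLe hNH).toEquiv, hNc, cardE hJ] at h
  rw [← h]; ring

variable (hN : Subgroup.normalizer (P : Set G) ≤ cH z)
include fr hN

theorem threeSub_sylow : ∃ S : Sylow 3 G, (S : Subgroup G) = threeSub fr := by
  have : Fact (Nat.Prime 3) := ⟨Nat.prime_three⟩
  have hpg : IsPGroup 3 ↥(threeSub fr) := IsPGroup.of_card (n := 3) (by rw [card_threeSub]; norm_num)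
  obtain ⟨S, hS⟩ := hpg.exists_le_sylow
  refine ⟨S, ?_⟩
  by_contra hne
  have hlt : (threeSub fr).subgroupOf (S : Subgroup G) < ⊤ :=
    lt_top_iff_ne_top.2 fun h => hne (le_antisymm (Subgroup.subgroupOf_eq_top.1 h) hS)
  have := S.2.isNilpotent
  have hnc : NormalizerCondition ↥(S : Subgroup G) := Group.normalizerCondition_of_isNilpotent
  have h2 := hnc _ hlt
  set K := (Subgroup.normalizer (((threeSub fr).subgroupOf (S : Subgroup G)) : Set ↥(S : Subgroup G))).map
    (S : Subgroup G).subtype with hK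
  have hKn : K ≤ cH z := by
    rintro _ ⟨s, hs, rfl⟩
    refine hN (normalizer_three_le fr ?_)
    refine Subgroup.mem_normalizer_iff.2 fun r => ?_
    have hsS : (s : G) ∈ (S : Subgroup G) := s.2
    constructor
    · intro hr
      exact (Subgroup.mem_normalizer_iff.1 hs ⟨r, hS hr⟩).1 hr
    · intro hr
      have hr' : r ∈ (S : Subgroup G) := by
        have := mul_mem (mul_mem (inv_mem hsS) (hS hr)) hsS
        simpa [mul_assoc] using this
      exact (Subgroup.mem_normalizer_iff.1 hs ⟨r, hr'⟩).2 hr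
  have hKc : Nat.card ↥((threeSub fr).subgroupOf (S : Subgroup G)) < Nat.card ↥K := by
    rw [hK, ← Nat.card_congr (Subgroup.equivMapOfInjective _ _ (S : Subgroup G).subtype_injective).toEquiv]
    exact Set.Finite.card_lt_card (Set.toFinite _) h2
  rw [Nat.card_congr (Subgroup.subgroupOfEquivOfLe hS).toEquiv, card_threeSub] at hKc
  obtain ⟨k, hk⟩ := IsPGroup.iff_card.1 ((S.2.to_subgroup _).map (S : Subgroup G).subtype : IsPGroup 3 ↥K)
  have hd := Subgroup.card_dvd_of_le hKn
  rw [card_cH D.hJ, hk] at hd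
  rw [hk] at hKc
  have hk4 : 4 ≤ k := by
    by_contra hlt
    have := Nat.pow_le_pow_right (show 0 < 3 by norm_num) (show k ≤ 3 by omega)
    omega
  exact absurd ((pow_dvd_pow 3 hk4).trans hd) (by norm_num)

/-- The normalizer of the group of order 27 has order 864. -/
theorem card_normalizer_three :
    Nat.card ↥(Subgroup.normalizer (threeSub fr : Set G)) = 864 := by
  classical
  have : Fact (Nat.Prime 3) := ⟨Nat.prime_three⟩
  obtain ⟨S, hS⟩ := threeSub_sylow fr hN
  set K := Subgroup.normalizer (threeSub fr : Set G) with hKdef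
  have hKH : K ≤ cH z := (normalizer_three_le fr).trans hN
  have hpm : ∀ k ∈ K, k * D.p * k⁻¹ = D.p ∨ k * D.p * k⁻¹ = D.p⁻¹ := by
    intro k hk
    have h1 := (Subgroup.mem_normalizer_iff.1 (normalizer_three_le fr hk) D.p).1 D.p_mem
    rcases (D.mem_P _).1 h1 with e | e | e
    · exact absurd (conj_eq_one_iff.1 e) D.pne
    · exact Or.inl e
    · refine Or.inr (e.trans (eq_inv_of_mul_eq_one_left ?_))
      rw [← D.p3]; simp [pow_succ]
  have hinC : ∀ k ∈ cH z, k * D.p * k⁻¹ = D.p → k ∈ cC z P := fun k hk he => ⟨hk, by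
    have hc : D.p * k = k * D.p := by rw [mul_inv_eq_iff_eq_mul] at he; exact he.symm
    refine Subgroup.mem_centralizer_iff.2 fun x hx => ?_
    rcases (D.mem_P x).1 hx with rfl | rfl | rfl
    · simp
    · exact hc
    · rw [mul_assoc, hc, ← mul_assoc, hc, mul_assoc]⟩
  -- an element inverting p
  obtain ⟨s, hsK, hsp⟩ : ∃ s ∈ K, s * D.p * s⁻¹ = D.p⁻¹ := by
    have htC : ∀ c ∈ cC z P, (D.t : G) * c * (D.t : G)⁻¹ ∈ cC z P := fun c hc =>
      hinC _ (mul_mem (mul_mem D.t.2 hc.1) (inv_mem D.t.2)) (by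
        have hcp : c * D.p * c⁻¹ = D.p := by
          rw [← Subgroup.mem_centralizer_iff.1 hc.2 _ D.p_mem]; group
        have hi : (D.t : G)⁻¹ * D.p * (D.t : G) = D.p⁻¹ := by
          have := congrArg (fun y : G => y⁻¹) D.tp
          simp only [mul_inv_rev, inv_inv] at this
          conv_lhs => rw [← this]
          group
        calc (D.t : G) * c * (D.t : G)⁻¹ * D.p * ((D.t : G) * c * (D.t : G)⁻¹)⁻¹
            = (D.t : G) * (c * ((D.t : G)⁻¹ * D.p * D.t) * c⁻¹) * (D.t : G)⁻¹ := by group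
          _ = (D.t : G) * (c * D.p⁻¹ * c⁻¹) * (D.t : G)⁻¹ := by rw [hi]
          _ = (D.t : G) * (c * D.p * c⁻¹)⁻¹ * (D.t : G)⁻¹ := by group
          _ = ((D.t : G) * D.p * (D.t : G)⁻¹)⁻¹ := by rw [hcp]; group
          _ = D.p := by rw [D.tp, inv_inv])
    have hle : ((((D.t : G) • S : Sylow 3 G) : Subgroup G)) ≤ cC z P := by
      rw [Sylow.coe_subgroup_smul, hS]
      rintro _ ⟨r, hr, rfl⟩
      exact htC r (threeSub_le_C fr hr)
    obtain ⟨⟨c, hc⟩, hcS⟩ := MulAction.exists_smul_eq ↥(cC z P) (((D.t : G) • S).subtype hle)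
      (S.subtype (hS ▸ threeSub_le_C fr : (S : Subgroup G) ≤ cC z P))
    have hcS' : c • ((D.t : G) • S) = S :=
      Sylow.subtype_injective ((Sylow.smul_subtype hle ⟨c, hc⟩).symm.trans hcS)
    refine ⟨c * D.t, ?_, ?_⟩
    · rw [← mul_smul] at hcS'
      have := Sylow.smul_eq_iff_mem_normalizer.1 hcS'
      rw [hKdef, ← hS]
      exact this
    · calc c * D.t * D.p * (c * D.t)⁻¹ = c * ((D.t : G) * D.p * (D.t : G)⁻¹) * c⁻¹ := by group
        _ = (c * D.p * c⁻¹)⁻¹ := by rw [D.tp]; group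
        _ = D.p⁻¹ := by rw [← Subgroup.mem_centralizer_iff.1 hc.2 _ D.p_mem]; group
  -- the part in C
  have hidx : ((cC z P).subgroupOf K).index = 2 := by
    rw [Subgroup.index_eq_two_iff]
    refine ⟨⟨s, hsK⟩, fun b => ?_⟩
    have hpi : D.p⁻¹ ≠ D.p := fun h => D.pne (by
      have h3 := D.p3
      rw [pow_succ, pow_two] at h3
      conv_lhs at h3 => arg 1; arg 1; rw [← h]
      rwa [inv_mul_cancel, one_mul] at h3)
    have hout : ∀ k ∈ K, k * D.p * k⁻¹ = D.p⁻¹ → k ∉ cC z P := fun k _ he hk => hpi (by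
      rw [← he, ← Subgroup.mem_centralizer_iff.1 hk.2 _ D.p_mem]; group)
    simp only [Subgroup.mem_subgroupOf, Subgroup.coe_mul]
    rcases hpm b b.2 with e | e
    · refine Or.inr ⟨hinC _ (hKH b.2) e, hout _ (mul_mem b.2 hsK) ?_⟩
      calc (b : G) * s * D.p * ((b : G) * s)⁻¹ = (b : G) * (s * D.p * s⁻¹) * (b : G)⁻¹ := by group
        _ = ((b : G) * D.p * (b : G)⁻¹)⁻¹ := by rw [hsp]; group
        _ = D.p⁻¹ := by rw [e]
    · refine Or.inl ⟨hinC _ (mul_mem (hKH b.2) (hKH hsK)) ?_, hout _ b.2 e⟩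
      calc (b : G) * s * D.p * ((b : G) * s)⁻¹ = (b : G) * (s * D.p * s⁻¹) * (b : G)⁻¹ := by group
        _ = ((b : G) * D.p * (b : G)⁻¹)⁻¹ := by rw [hsp]; group
        _ = D.p := by rw [e, inv_inv]
  have hcard : Nat.card ↥((cC z P).subgroupOf K) = 432 := by
    set N9 := Subgroup.normalizer (nineSub fr : Set M22t) with hN9
    have hsub : K.subgroupOf (cC z P) = N9.comap D.π := by
      ext c
      rw [Subgroup.mem_subgroupOf, hKdef, hN9, Subgroup.mem_comap]
      constructor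
      · intro hc
        rw [Subgroup.mem_normalizer_iff_map_conj_eq]
        refine Subgroup.eq_of_le_of_card_ge ?_
          (Nat.card_congr (Subgroup.equivMapOfInjective _ _ (MulAut.conj (D.π c)).injective).toEquiv).le
        rintro _ ⟨u, hu, rfl⟩
        rw [← map_threeC fr] at hu ⊢
        obtain ⟨d, hd, rfl⟩ := hu
        refine ⟨c * d * c⁻¹, ?_, by simp⟩
        obtain ⟨d', hd', he⟩ := (Subgroup.mem_normalizer_iff.1 hc (d : G)).1 ⟨d, hd, rfl⟩
        rw [show c * d * c⁻¹ = d' from Subtype.ext he.symm]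
        exact hd'
      · intro hc
        refine Subgroup.mem_normalizer_iff.2 fun r => ⟨?_, ?_⟩
        · rintro ⟨d, hd, rfl⟩
          refine ⟨c * d * c⁻¹, ⟨?_, by rw [conj_pow, hd.2]; group⟩, rfl⟩
          rw [map_mul, map_mul, map_inv]
          exact (Subgroup.mem_normalizer_iff.1 hc _).1 hd.1
        · rintro ⟨d, hd, he⟩
          refine ⟨c⁻¹ * d * c, ⟨?_, ?_⟩, ?_⟩
          · rw [map_mul, map_mul, map_inv]
            exact (Subgroup.mem_normalizer_iff.1 hc _).2 (by simpa [mul_assoc] using hd.1)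
          · rw [show c⁻¹ * d * c = c⁻¹ * d * c⁻¹⁻¹ by rw [inv_inv], conj_pow, hd.2]; group
          · simp only [map_mul, map_inv, he]
            simp [mul_assoc]
    have e1 : Nat.card ↥((cC z P).subgroupOf K) = Nat.card ↥(K.subgroupOf (cC z P)) := by
      rw [← Subgroup.inf_subgroupOf_right (cC z P) K, ← Subgroup.inf_subgroupOf_right K (cC z P),
        Nat.card_congr (Subgroup.subgroupOfEquivOfLe inf_le_right).toEquiv,
        Nat.card_congr (Subgroup.subgroupOfEquivOfLe inf_le_right).toEquiv, inf_comm]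
    have hsyl : Nat.card ↥N9 = 72 := by
      have hfac : (Nat.card M22t).factorization 3 = 2 := by
        rw [m22_card, show (443520 : ℕ) = 3 ^ 2 * 49280 from rfl,
          Nat.factorization_mul (by norm_num) (by norm_num), Nat.Prime.factorization_pow Nat.prime_three]
        simp [Nat.factorization_eq_zero_of_not_dvd (by norm_num : ¬ 3 ∣ 49280)]
      exact fr.Th.card_norm (Sylow.ofCard (nineSub fr) (by rw [card_nineSub, hfac]; norm_num))
    rw [e1, hsub]
    have h1 := (N9.comap D.π).card_mul_index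
    rw [Subgroup.index_comap_of_surjective _ D.πsurj, D.card_C] at h1
    have h2 := N9.card_mul_index
    rw [hsyl, m22_card] at h2
    have h3 : N9.index = 6160 := by omega
    rw [h3] at h1
    omega
  have := ((cC z P).subgroupOf K).card_mul_index
  rw [hidx, hcard] at this
  exact this.symm

/-- The Sylow 3-subgroups inside the centralizer of `z`. -/
theorem sylow_three_structure (R : Sylow 3 G) (hR : (R : Subgroup G) ≤ cH z) :
    IsExtraspecial 3 ↥(R : Subgroup G) ∧ Nat.card ↥(R : Subgroup G) = 27 ∧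
      Monoid.exponent ↥(R : Subgroup G) = 3 ∧
      Subgroup.normalizer ((R : Subgroup G) : Set G) ≤ cH z ∧
      Nat.card ↥(Subgroup.normalizer ((R : Subgroup G) : Set G)) = 864 := by
  have : Fact (Nat.Prime 3) := ⟨Nat.prime_three⟩
  obtain ⟨S, hS⟩ := threeSub_sylow fr hN
  obtain ⟨⟨h, hh⟩, hhS⟩ := MulAction.exists_smul_eq ↥(cH z)
    (S.subtype (hS ▸ threeSub_le fr : (S : Subgroup G) ≤ cH z)) (R.subtype hR)
  have hRS : h • S = R := Sylow.subtype_injective ((Sylow.smul_subtype _ ⟨h, hh⟩).symm.trans hhS)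
  let e : ↥(threeSub fr) ≃* ↥(R : Subgroup G) :=
    (Subgroup.equivMapOfInjective (threeSub fr) _ (MulAut.conj h).injective).trans
      (MulEquiv.subgroupCongr (by rw [← hRS, Sylow.coe_subgroup_smul, hS]; rfl))
  have hexp : ∀ r : ↥(R : Subgroup G), r ^ 3 = 1 := fun r => by
    rw [← e.apply_symm_apply r, ← map_pow]
    exact (congrArg e (Subtype.ext (threeSub_cube fr (e.symm r).2))).trans (map_one e)
  have hc : Nat.card ↥(R : Subgroup G) = 27 := by rw [← Nat.card_congr e.toEquiv, card_threeSub]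
  obtain ⟨hE, hX⟩ := Resistant.isExtraspecial_of_card_cube (p := 3) (E := ↥(R : Subgroup G))
    (by rw [hc]; norm_num) hexp ⟨e ⟨_, _, q_mem fr, rfl⟩, e ⟨_, _, x_mem fr, rfl⟩, fun h => by
      rw [← map_mul, ← map_mul] at h
      exact fr.qx (Subtype.ext (congrArg Subtype.val (e.injective h) :
        (fr.q : G) * fr.x = fr.x * fr.q))⟩
  have hnorm : Subgroup.normalizer ((R : Subgroup G) : Set G) =
      (Subgroup.normalizer (threeSub fr : Set G)).map (MulAut.conj h).toMonoidHom := by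
    rw [Subgroup.map_normalizer_eq_of_bijective _ (f := (MulAut.conj h).toMonoidHom) (MulAut.conj h).bijective]
    rw [← hRS, Sylow.coe_subgroup_smul, hS]
    rfl
  refine ⟨hE, hc, hX, ?_, ?_⟩
  · rw [hnorm]
    rintro _ ⟨k, hk, rfl⟩
    exact mul_mem (mul_mem hh (hN (normalizer_three_le fr hk))) (inv_mem hh)
  · rw [hnorm, ← Nat.card_congr (Subgroup.equivMapOfInjective _ _ (MulAut.conj h).injective).toEquiv,
      card_normalizer_three fr hN]

/-- One class of elements of order three. -/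
theorem one_class_three
    (hpx : IsConj D.p (fr.x : G)) (y : G) (hy : orderOf y = 3) : IsConj y (fr.x : G) := by
  have : Fact (Nat.Prime 3) := ⟨Nat.prime_three⟩
  obtain ⟨S, hS⟩ := threeSub_sylow fr hN
  obtain ⟨T, hT⟩ := (IsPGroup.of_card (n := 1) (by rw [Nat.card_zpowers, hy, pow_one]) :
    IsPGroup 3 ↥(Subgroup.zpowers y)).exists_le_sylow
  obtain ⟨g, hg⟩ := MulAction.exists_smul_eq G T S
  have hmem : g * y * g⁻¹ ∈ threeSub fr := by
    rw [← hS, ← hg, Sylow.coe_subgroup_smul]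
    exact ⟨y, hT (Subgroup.mem_zpowers y), rfl⟩
  have hy1 : g * y * g⁻¹ ≠ 1 := fun h => by
    rw [conj_eq_one_iff.1 h, orderOf_one] at hy; omega
  refine (isConj_iff.2 ⟨g, rfl⟩ : IsConj y (g * y * g⁻¹)).trans ?_
  obtain ⟨r, hr, hre⟩ := hmem
  rw [← hre] at hy1 ⊢
  show IsConj (r : G) (fr.x : G)
  have hr1 : (r : G) ≠ 1 := hy1
  by_cases hπ : D.π r = 1
  · obtain ⟨j, hj⟩ := ker_cube hπ hr.2
    have hrj : (r : G) = D.p ^ j := by rw [hj, SubgroupClass.coe_pow]; rfl
    rcases (D.mem_P (r : G)).1 (hrj ▸ pow_mem D.p_mem j) with h | h | h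
    · exact absurd h hr1
    · rw [h]; exact hpx
    · refine IsConj.trans ?_ hpx
      rw [isConj_iff]
      refine ⟨D.t, ?_⟩
      calc (D.t : G) * (r : G) * (D.t : G)⁻¹
          = ((D.t : G) * D.p * (D.t : G)⁻¹) * ((D.t : G) * D.p * (D.t : G)⁻¹) := by rw [h]; group
        _ = D.p := by
            rw [D.tp]
            have h3 := D.p3
            rw [pow_succ, pow_two] at h3
            rw [← mul_inv_rev, inv_eq_iff_mul_eq_one]
            exact h3
  · have ho : orderOf (D.π r) = 3 := orderOf_eq_prime (by rw [← map_pow, hr.2, map_one]) hπ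
    obtain ⟨m, hm⟩ := isConj_iff.1 (fr.Th.isConj _ ho)
    obtain ⟨c, rfl⟩ := D.πsurj m
    -- move the lift of `a`
    obtain ⟨k, hk⟩ : ∃ k, k = fr.x⁻¹ * (c⁻¹ * r * c) := ⟨_, rfl⟩
    have hk1 : D.π k = 1 := by
      rw [hk]; simp only [map_mul, map_inv]
      rw [fr.πx, ← hm]; group
    have hxk : fr.x * k = c⁻¹ * r * c := by rw [hk]; group
    have hk3 : k ^ 3 = 1 := by
      have e : (fr.x * k) ^ 3 = 1 := by
        rw [hxk, show c⁻¹ * r * c = c⁻¹ * r * c⁻¹⁻¹ by rw [inv_inv], conj_pow, hr.2]; group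
      rwa [(ker_central hk1 fr.x).symm.mul_pow, fr.x3, one_mul] at e
    obtain ⟨l, rfl⟩ := ker_cube hk1 hk3
    obtain ⟨j, hj0, hj⟩ : ∃ j : ℕ, j % 3 ≠ 0 ∧ fr.q * fr.x * fr.q⁻¹ = fr.x * D.pC ^ j := by
      obtain ⟨d, hd⟩ : ∃ d, d = fr.x⁻¹ * (fr.q * fr.x * fr.q⁻¹) := ⟨_, rfl⟩
      have hd1 : D.π d = 1 := by
        rw [hd]; simp only [map_mul, map_inv]
        rw [fr.πx, fr.πq, fr.Th.qa.eq]; group
      have hxd : fr.x * d = fr.q * fr.x * fr.q⁻¹ := by rw [hd]; group
      have hd3 : d ^ 3 = 1 := by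
        have e : (fr.x * d) ^ 3 = 1 := by rw [hxd, conj_pow, fr.x3]; group
        rwa [(ker_central hd1 fr.x).symm.mul_pow, fr.x3, one_mul] at e
      obtain ⟨j, rfl⟩ := ker_cube hd1 hd3
      refine ⟨j, fun h0 => fr.qx ?_, hxd.symm⟩
      rw [← Nat.mod_add_div j 3, h0, zero_add, pow_mul, pC_cube, one_pow, mul_one] at hxd
      exact (eq_mul_inv_iff_mul_eq.1 hxd).symm
    have hpow : ∀ n : ℕ, fr.q ^ n * fr.x * (fr.q ^ n)⁻¹ = fr.x * D.pC ^ (j * n) := by
      intro n
      induction n with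
      | zero => simp
      | succ n ih =>
        calc fr.q ^ (n + 1) * fr.x * (fr.q ^ (n + 1))⁻¹
            = fr.q * (fr.q ^ n * fr.x * (fr.q ^ n)⁻¹) * fr.q⁻¹ := by rw [pow_succ']; group
          _ = fr.q * fr.x * (D.pC ^ (j * n) * fr.q⁻¹) := by rw [ih]; group
          _ = fr.q * fr.x * (fr.q⁻¹ * D.pC ^ (j * n)) := by rw [((pC_central _).pow_left _).eq]
          _ = fr.x * D.pC ^ j * D.pC ^ (j * n) := by rw [← mul_assoc, hj]
          _ = _ := by rw [mul_assoc, ← pow_add, mul_add, mul_one, add_comm]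
    obtain ⟨n, hn⟩ : ∃ n, j * n % 3 = l % 3 := by
      refine ⟨j * l, ?_⟩
      rcases (by omega : j % 3 = 1 ∨ j % 3 = 2) with e | e <;>
        rw [← mul_assoc, Nat.mul_mod, Nat.mul_mod j j, e] <;> norm_num
    have key : fr.q ^ n * fr.x * (fr.q ^ n)⁻¹ = c⁻¹ * r * c := by
      rw [hpow, ← hxk]
      congr 1
      rw [← Nat.mod_add_div (j * n) 3, hn, ← Nat.mod_add_div l 3]
      simp [pow_add, pow_mul, pC_cube]
    refine IsConj.symm (isConj_iff.2 ⟨((c * fr.q ^ n : ↥(cC z P)) : G), ?_⟩)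
    have : c * fr.q ^ n * fr.x * (c * fr.q ^ n)⁻¹ = r := by
      rw [show c * fr.q ^ n * fr.x * (c * fr.q ^ n)⁻¹ = c * (fr.q ^ n * fr.x * (fr.q ^ n)⁻¹) * c⁻¹ by group, key]
      group
    exact congrArg Subtype.val this

end Cfsg.Agent.Lib.J4Fusion14
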