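import Cfsg.Agent.Lib.J4Fusion14.Frame

/-!
# Eigenspaces and fixed parts at an element of order three
-/

set_option autoImplicit false

namespace Cfsg.Agent.Lib.J4Fusion14

open Cfsg Cfsg.Agent.Lib.J4Type19

attribute [local instance] m22_finite

section Module

variable {C V M : Type*} [Group C] [AddCommGroup V] [DistribMulAction C V] [Group M] (J : JMod C V M)

theorem eig_conj (g a : C) (k : ℕ) : J.eig (g * a * g⁻¹) k = moveSub g (J.eig a k) := by
  ext v
  rw [mem_moveSub]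
  constructor
  · intro hv
    refine ⟨g⁻¹ • v, ?_, smul_inv_smul g v⟩
    have h : (g * a * g⁻¹) • v = J.ω ^ k • v := hv
    show a • g⁻¹ • v = J.ω ^ k • g⁻¹ • v
    rw [J.ωpow_comm, ← h, ← mul_smul, ← mul_smul, ← mul_assoc, ← mul_assoc, inv_mul_cancel, one_mul]
  · rintro ⟨w, hw, rfl⟩
    have h : a • w = J.ω ^ k • w := hw
    show (g * a * g⁻¹) • g • w = J.ω ^ k • g • w
    rw [mul_smul, mul_smul, inv_smul_smul, h, ← J.ωpow_comm]

theorem eig_ωmul (a : C) (j m : ℕ) : J.eig (J.ω ^ j * a) m = J.eig a (m + 2 * j) := by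
  ext v
  show (J.ω ^ j * a) • v = J.ω ^ m • v ↔ a • v = J.ω ^ (m + 2 * j) • v
  rw [mul_smul]
  constructor
  · intro h
    calc a • v = J.ω ^ (2 * j + j) • a • v := by
          rw [J.ωpow_congr (n := 2 * j + j) (m := 0) (by omega), pow_zero, one_smul]
      _ = J.ω ^ (2 * j) • J.ω ^ m • v := by rw [← J.ωpow_add, h]
      _ = _ := by rw [J.ωpow_add]; congr 2; omega
  · intro h
    rw [h, J.ωpow_add, J.ωpow_congr (n := j + (m + 2 * j)) (m := m) (by omega)]

theorem eig_ω_mem (a : C) (k : ℕ) {v : V} (hv : v ∈ J.eig a k) : J.ω • v ∈ J.eig a k := by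
  show a • J.ω • v = J.ω ^ k • J.ω • v
  rw [← J.ω_comm, show a • v = _ from hv, ← mul_smul, ← mul_smul, ← pow_succ, ← pow_succ']

theorem eig_comm_mem {a g : C} (h : Commute a g) (k : ℕ) {v : V} (hv : v ∈ J.eig a k) : g • v ∈ J.eig a k := by
  show a • g • v = J.ω ^ k • g • v
  rw [← mul_smul, h.eq, mul_smul, show a • v = _ from hv, J.ωpow_comm]

theorem card_decomp {a : C} (ha3 : a ^ 3 = 1) (S : AddSubgroup V) (hω : ∀ v ∈ S, J.ω • v ∈ S)
    (ha : ∀ v ∈ S, a • v ∈ S) :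
    Nat.card S = Nat.card ↥(S ⊓ J.eig a 0) * (Nat.card ↥(S ⊓ J.eig a 1) * Nat.card ↥(S ⊓ J.eig a 2)) := by
  let Φ : (↥(S ⊓ J.eig a 0) × ↥(S ⊓ J.eig a 1) × ↥(S ⊓ J.eig a 2)) → S := fun q =>
    ⟨(q.1 : V) + q.2.1 + q.2.2, add_mem (add_mem q.1.2.1 q.2.1.2.1) q.2.2.2.1⟩
  have hΦ : Function.Bijective Φ := by
    constructor
    · intro q q' h
      have h' : (q.1 : V) + q.2.1 + q.2.2 = (q'.1 : V) + q'.2.1 + q'.2.2 := congrArg Subtype.val h
      have hk : ∀ k < 3, J.proj a k ((q.1 : V) + q.2.1 + q.2.2) = J.proj a k ((q'.1 : V) + q'.2.1 + q'.2.2) :=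
        fun k _ => by rw [h']
      simp only [J.proj_add, J.proj_eig q.1.2.2, J.proj_eig q.2.1.2.2, J.proj_eig q.2.2.2.2,
        J.proj_eig q'.1.2.2, J.proj_eig q'.2.1.2.2, J.proj_eig q'.2.2.2.2] at hk
      have e0 := hk 0 (by norm_num); have e1 := hk 1 (by norm_num); have e2 := hk 2 (by norm_num)
      norm_num at e0 e1 e2
      exact Prod.ext e0 (Prod.ext e1 e2)
    · intro v
      exact ⟨(⟨_, J.proj_mem_sub hω ha 0 v.2, J.proj_mem ha3 0 _⟩, ⟨_, J.proj_mem_sub hω ha 1 v.2, J.proj_mem ha3 1 _⟩,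
        ⟨_, J.proj_mem_sub hω ha 2 v.2, J.proj_mem ha3 2 _⟩), Subtype.ext (J.proj_sum a _)⟩
  rw [← Nat.card_eq_of_bijective Φ hΦ, Nat.card_prod, Nat.card_prod]

theorem card_eig_lifts {F : MFacts M} (L : Lifts J F) (k : ℕ) : Nat.card ↥(J.eig L.a k) = 16 := by
  have h := card_decomp J L.a3 ⊤ (fun _ _ => trivial) (fun _ _ => trivial)
  rw [AddSubgroup.card_top, J.cardV, top_inf_eq, top_inf_eq, top_inf_eq, J.card_eig L 0 (by norm_num),
    J.card_eig L 1 (by norm_num)] at h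
  rw [J.eig_congr L.a (n := k) (m := k % 3) (by omega)]
  rcases (by omega : k % 3 = 0 ∨ k % 3 = 1 ∨ k % 3 = 2) with e | e | e <;> rw [e]
  · exact J.card_eig L 0 (by norm_num)
  · exact J.card_eig L 1 (by norm_num)
  · omega

/-- The part of the fixed points of `c` in one eigenspace. -/
def part (a c : C) (k : ℕ) : AddSubgroup V := fixElt c ⊓ J.eig a k

theorem part_congr (a c : C) {n m : ℕ} (h : n % 3 = m % 3) : part J a c n = part J a c m := by
  rw [part, part, J.eig_congr a h]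

variable {a c : C}

theorem add_mem_part (hc : c * c = 1) (hac : Commute a c) {k : ℕ} {v : V} (hv : v ∈ J.eig a k) :
    c • v + v ∈ part J a c k :=
  ⟨show c • (c • v + v) = c • v + v by rw [smul_add, ← mul_smul, hc, one_smul, add_comm],
    add_mem (eig_comm_mem J hac k hv) hv⟩

theorem card_part (hc : c * c = 1) (hac : Commute a c) (k : ℕ) (h16 : Nat.card ↥(J.eig a k) = 16) :
    Nat.card ↥(part J a c k) = 4 ∨ Nat.card ↥(part J a c k) = 16 := by
  have := J.finiteV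
  have hle : Nat.card ↥(part J a c k) ≤ 16 := h16 ▸ AddSubgroup.card_le_of_le inf_le_right
  obtain ⟨e, -, he⟩ := J.card_pow (part J a c k) fun v hv =>
    ⟨J.fixElt_ω c v hv.1, eig_ω_mem J a k hv.2⟩
  rw [he] at hle ⊢
  rcases e with _ | _ | _ | e
  · exfalso
    have hbot : part J a c k = ⊥ := AddSubgroup.eq_bot_of_card_eq _ (by simpa using he)
    have hall : J.eig a k ≤ part J a c k := fun v hv => by
      refine ⟨?_, hv⟩
      have := add_mem_part J hc hac hv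
      rw [hbot, AddSubgroup.mem_bot, add_eq_zero_iff_eq_neg, J.neg_eq] at this
      exact this
    have := AddSubgroup.card_le_of_le hall
    rw [h16, he] at this
    simp at this
  · left; rfl
  · right; rfl
  · exfalso
    have h3 : 4 ^ 3 ≤ 4 ^ (e + 1 + 1 + 1) := Nat.pow_le_pow_right (by norm_num) (by omega)
    omega

theorem part_image (hc : c * c = 1) (hac : Commute a c) {k : ℕ} (h16 : Nat.card ↥(J.eig a k) = 16)
    (h4 : Nat.card ↥(part J a c k) = 4) {v : V} (hv : v ∈ part J a c k) :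
    ∃ v' ∈ J.eig a k, c • v' + v' = v := by
  have := J.finiteV
  let ψ : ↥(J.eig a k) →+ ↥(part J a c k) :=
    { toFun := fun u => ⟨c • (u : V) + u, add_mem_part J hc hac u.2⟩
      map_zero' := Subtype.ext (by simp)
      map_add' := fun u u' => Subtype.ext (by simp only [AddSubgroup.coe_add, smul_add]; abel) }
  have hker : Nat.card ↥ψ.ker ≤ 4 := by
    rw [← h4]
    refine Nat.card_le_card_of_injective
      (fun u : ↥ψ.ker => (⟨((u : ↥(J.eig a k)) : V), ?_, (u : ↥(J.eig a k)).2⟩ : ↥(part J a c k))) fun u u' h =>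
      Subtype.ext (Subtype.ext (congrArg Subtype.val h :))
    have h := congrArg Subtype.val (show ψ u = 0 from u.2)
    change c • ((u : ↥(J.eig a k)) : V) + (u : ↥(J.eig a k)) = 0 at h
    rw [add_eq_zero_iff_eq_neg, J.neg_eq] at h
    exact h
  have hr : ψ.range = ⊤ := by
    refine AddSubgroup.eq_of_le_of_card_ge le_top ?_
    have h := ψ.ker.card_mul_index
    rw [AddSubgroup.index_ker, h16] at h
    rw [AddSubgroup.card_top, h4]
    by_contra hlt
    have := Nat.mul_le_mul hker (show Nat.card ψ.range ≤ 3 by omega)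
    omega
  obtain ⟨u, hu⟩ := hr.ge (AddSubgroup.mem_top (⟨v, hv⟩ : ↥(part J a c k)))
  exact ⟨u, u.2, congrArg Subtype.val hu⟩

theorem fix_proj (ha3 : a ^ 3 = 1) (hac : Commute a c) {v : V} (hv : c • v = v) (k : ℕ) :
    J.proj a k v ∈ part J a c k := by
  refine ⟨J.proj_mem_sub (S := fixElt c) (J.fixElt_ω c) (fun w hw => ?_) k hv, J.proj_mem ha3 k v⟩
  show c • a • w = a • w
  rw [← mul_smul, ← hac.eq, mul_smul, show c • w = w from hw]

variable {F : MFacts M} (L : Lifts J F) [Finite M]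
include L

theorem parts (ha3 : a ^ 3 = 1) (h16 : ∀ k, Nat.card ↥(J.eig a k) = 16) (hc : c * c = 1) (hπ : J.π c ≠ 1)
    (hac : Commute a c) :
    ∃ k₀, Nat.card ↥(part J a c k₀) = 16 ∧ ∀ m, m % 3 ≠ k₀ % 3 → Nat.card ↥(part J a c m) = 4 := by
  have h4 : c ^ 4 = 1 := by rw [show (4 : ℕ) = 2 * 2 from rfl, pow_mul, pow_two c, hc, one_pow]
  have hf := J.card_fixElt L (c := c) (by rw [← map_mul, hc, map_one]) hπ h4
  have hd := card_decomp J ha3 (fixElt c) (J.fixElt_ω c) fun w hw => by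
    show c • a • w = a • w
    rw [← mul_smul, ← hac.eq, mul_smul, show c • w = w from hw]
  rw [hf] at hd
  change 2 ^ 8 = Nat.card ↥(part J a c 0) * (Nat.card ↥(part J a c 1) * Nat.card ↥(part J a c 2)) at hd
  have hk := fun k => card_part J hc hac k (h16 k)
  have hm : ∀ m, Nat.card ↥(part J a c m) = Nat.card ↥(part J a c (m % 3)) := fun m => by
    rw [part_congr J a c (n := m) (m := m % 3) (by omega)]
  rcases hk 0 with h0 | h0 <;> rcases hk 1 with h1 | h1 <;> rcases hk 2 with h2 | h2 <;> rw [h0, h1, h2] at hd <;>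
    norm_num at hd
  · refine ⟨2, h2, fun m hm' => ?_⟩
    rw [hm]
    rcases (by omega : m % 3 = 0 ∨ m % 3 = 1) with e | e <;> rw [e] <;> assumption
  · refine ⟨1, h1, fun m hm' => ?_⟩
    rw [hm]
    rcases (by omega : m % 3 = 0 ∨ m % 3 = 2) with e | e <;> rw [e] <;> assumption
  · refine ⟨0, h0, fun m hm' => ?_⟩
    rw [hm]
    rcases (by omega : m % 3 = 1 ∨ m % 3 = 2) with e | e <;> rw [e] <;> assumption

end Module

variable {G : Type*} [Group G] [Finite G] {z : G} {P : Subgroup G} (D : HData z P)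

include D in
/-- An element of `C` fixing the vector of `e` commutes with `e`. -/
theorem commute_of_smul_eq (c : ↥(cC z P)) (e : ↥(cE z)) (h : c • mk e = mk e) : Commute (c : G) (e : G) := by
  rw [smul_mk, mk_eq D.hJ] at h
  have h' : (e : G) = (c : G) * e * (c : G)⁻¹ ∨ (e : G) = (c : G) * e * (c : G)⁻¹ * z := h
  rcases h' with h' | h'
  · show (c : G) * e = e * c
    conv_rhs => rw [h']
    group
  exfalso
  apply z_ne D.hJ
  have hzz := z_sq D.hJ
  have hcp : (c : G) * D.p = D.p * c := (D.comm_p c).symm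
  have hzp : z * D.p = D.p * z := D.comm_z D.pC
  have hzc : z * (c : G) = c * z := D.comm_z c
  have hze : ∀ x ∈ cE z, z * x = x * z := fun x hx =>
    (Subgroup.mem_centralizer_singleton_iff.1 (cE_le z hx)).symm
  have h1 : (c : G) * e * (c : G)⁻¹ = e * z := by
    conv_rhs => rw [h', mul_assoc, hzz, mul_one]
  -- the conjugates of `e` by powers of `p` are moved in the same way
  have step : ∀ x : G, (c : G) * x * (c : G)⁻¹ = x * z →
      (c : G) * (D.p * x * D.p⁻¹) * (c : G)⁻¹ = D.p * x * D.p⁻¹ * z := by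
    intro x hx
    calc (c : G) * (D.p * x * D.p⁻¹) * (c : G)⁻¹
        = ((c : G) * D.p) * x * (D.p⁻¹ * (c : G)⁻¹) := by group
      _ = D.p * ((c : G) * x * (c : G)⁻¹) * D.p⁻¹ := by
          rw [← mul_inv_rev, hcp, mul_inv_rev]; group
      _ = D.p * x * (z * D.p⁻¹) := by rw [hx]; group
      _ = _ := by rw [(Commute.inv_right (show Commute z D.p from hzp)).eq]; group
  obtain ⟨e1, he1⟩ : ∃ e1, e1 = cEAut D.p D.pH e := ⟨_, rfl⟩
  obtain ⟨e2, he2⟩ : ∃ e2, e2 = cEAut D.p D.pH e1 := ⟨_, rfl⟩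
  have h2 : (c : G) * e1 * (c : G)⁻¹ = e1 * z := by rw [he1]; exact step _ h1
  have h3 : (c : G) * e2 * (c : G)⁻¹ = e2 * z := by rw [he2]; exact step _ h2
  have h4 : (c : G) * ((e : G) * e1) * (c : G)⁻¹ = (e : G) * e1 := by
    rw [show (c : G) * ((e : G) * e1) * (c : G)⁻¹ = ((c : G) * e * (c : G)⁻¹) * ((c : G) * e1 * (c : G)⁻¹) by group,
      h1, h2, mul_assoc, ← mul_assoc z, hze _ e1.2, mul_assoc (e1 : G) z z, hzz, mul_one]
  have hsum : mk (e * e1) = mk e2 := by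
    rw [mk_mul, he2, ← D.smul_p_mk, he1, ← D.smul_p_mk]
    have h := D.toJMod.ω_sum (mk e)
    rw [add_eq_zero_iff_eq_neg, D.toJMod.neg_eq] at h
    exact h
  have h5 : (c : G) * e2 * (c : G)⁻¹ = e2 := by
    rcases (mk_eq D.hJ).1 hsum with h | h
    · rw [h]; exact h4
    · rw [h, show (c : G) * (((e * e1 : ↥(cE z)) : G) * z) * (c : G)⁻¹
          = ((c : G) * ((e : G) * e1) * (c : G)⁻¹) * ((c : G) * z * (c : G)⁻¹) by rw [Subgroup.coe_mul]; group,
        h4, ← hzc, mul_inv_cancel_right, Subgroup.coe_mul]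
  rw [h5] at h3
  exact left_eq_mul.1 h3

omit [Finite G] in
theorem smul_eq_of_commute (c : ↥(cC z P)) (e : ↥(cE z)) (h : Commute (c : G) (e : G)) : c • mk e = mk e := by
  rw [smul_mk]
  congr 1
  apply Subtype.ext
  show (c : G) * e * (c : G)⁻¹ = e
  rw [h.eq, mul_inv_cancel_right]

theorem eig_zero_iff (x : ↥(cC z P)) (e : ↥(cE z)) : mk e ∈ D.toJMod.eig x 0 ↔ Commute (e : G) (x : G) := by
  show x • mk e = D.toJMod.ω ^ 0 • mk e ↔ _
  rw [pow_zero, one_smul]
  exact ⟨fun h => (commute_of_smul_eq D x e h).symm, fun h => smul_eq_of_commute x e h.symm⟩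

include D in
theorem fixElt_iff (c : ↥(cC z P)) (e : ↥(cE z)) : mk e ∈ fixElt (V := cV z) c ↔ Commute (e : G) (c : G) :=
  ⟨fun h => (commute_of_smul_eq D c e h).symm, fun h => smul_eq_of_commute c e h.symm⟩

theorem three_ne {m : M22t} (h3 : m ^ 3 = 1) (h1 : m ≠ 1) : orderOf m = 3 :=
  orderOf_eq_prime (hp := ⟨Nat.prime_three⟩) h3 h1

/-- A lift of order three of any element of order three, with three eigenspaces of order 16. -/
theorem exists_three_lift {F : MFacts M22t} (L : Lifts D.toJMod F) (Th : Three M22t) {m : M22t}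
    (hm : orderOf m = 3) :
    ∃ c : ↥(cC z P), D.π c = m ∧ c ^ 3 = 1 ∧ ∀ k, Nat.card ↥(D.toJMod.eig c k) = 16 := by
  obtain ⟨g, hg⟩ := isConj_iff.1 ((Th.isConj F.a (three_ne F.a3 F.a1)).symm.trans (Th.isConj m hm))
  obtain ⟨g, rfl⟩ := D.πsurj g
  refine ⟨g * L.a * g⁻¹, ?_, by rw [conj_pow, L.a3, mul_one, mul_inv_cancel], fun k => ?_⟩
  · rw [map_mul, map_mul, map_inv, show D.π L.a = F.a from L.πa, hg]
  · rw [eig_conj, card_moveSub]
    exact card_eig_lifts D.toJMod L k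

theorem card_eig_three {F : MFacts M22t} (L : Lifts D.toJMod F) (Th : Three M22t) {x : ↥(cC z P)} (hx : x ^ 3 = 1)
    (hπ : D.π x ≠ 1) (k : ℕ) : Nat.card ↥(D.toJMod.eig x k) = 16 := by
  obtain ⟨c, hc, hc3, h16⟩ := exists_three_lift D L Th (three_ne (by rw [← map_pow, hx, map_one]) hπ)
  obtain ⟨r, hr⟩ : ∃ r, r = x * c⁻¹ := ⟨_, rfl⟩
  have hr1 : D.π r = 1 := by rw [hr, map_mul, map_inv, hc, mul_inv_cancel]
  have hr3 : r ^ 3 = 1 := by
    have h := (D.toJMod.ker_comm r hr1 c).mul_pow 3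
    rwa [show r * c = x by rw [hr, inv_mul_cancel_right], hx, hc3, mul_one, eq_comm] at h
  obtain ⟨j, hj⟩ := D.toJMod.ker3 r hr1 hr3
  rw [show x = D.toJMod.ω ^ j * c by rw [← hj, hr, inv_mul_cancel_right], eig_ωmul]
  exact h16 _

/-- A lift of order two of any involution. -/
theorem exists_inv_lift {F : MFacts M22t} {m : M22t} (hm : m * m = 1) (h1 : m ≠ 1) :
    ∃ c : ↥(cC z P), D.π c = m ∧ c * c = 1 := by
  have hf : orderOf F.f = 2 := orderOf_eq_prime (by rw [pow_two, F.sq0 _ F.f0]) F.f1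
  obtain ⟨g, hg⟩ := isConj_iff.1 (F.inv_conj m F.f (orderOf_eq_prime (by rw [pow_two, hm]) h1) hf)
  obtain ⟨g, rfl⟩ := D.πsurj g
  obtain ⟨c, hc, h4⟩ := D.toJMod.exists_two_lift hm
  have hc' : D.π c = m := hc
  refine ⟨c, hc, ?_⟩
  have h := D.lift_sq_U0 (F := F) (c := g * c * g⁻¹) (by rw [map_mul, map_mul, map_inv, hc', hg]; exact F.f0)
    (D.toJMod.conj_four h4)
  rwa [show g * c * g⁻¹ * (g * c * g⁻¹) = g * (c * c) * g⁻¹ by group, conj_eq_one_iff] at h

theorem commute_of_π {c d : ↥(cC z P)} (hc : c * c = 1) (hd : d ^ 3 = 1) (h : Commute (D.π d) (D.π c)) :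
    Commute d c := by
  obtain ⟨k, hk⟩ : ∃ k, k = d * c * d⁻¹ * c⁻¹ := ⟨_, rfl⟩
  have hk1 : D.π k = 1 := by
    rw [hk, map_mul, map_mul, map_mul, map_inv, map_inv, h.eq, mul_inv_cancel_right, mul_inv_cancel]
  have hkc : ∀ g, Commute k g := D.toJMod.ker_comm k hk1
  have hk2 : k ^ 2 = 1 := by
    have e : k * c = d * c * d⁻¹ := by rw [hk]; group
    have e2 := (hkc c).mul_pow 2
    rw [e, conj_pow, pow_two c, hc, mul_one, mul_inv_cancel, mul_one] at e2
    exact e2.symm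
  have hk3 : k ^ 3 = 1 := by
    have e : k * d = c⁻¹ * d * c⁻¹⁻¹ := by
      have e1 : c * (k * d) = d * c := by
        rw [← mul_assoc, ← (hkc c).eq, hk]; group
      rw [← inv_mul_cancel_left c (k * d), e1]; group
    have e2 := (hkc d).mul_pow 3
    rw [e, conj_pow, hd, mul_one, mul_inv_cancel, mul_one] at e2
    exact e2.symm
  have hk0 : k = 1 := by rwa [pow_succ, hk2, one_mul] at hk3
  rw [hk, mul_inv_eq_one, mul_inv_eq_iff_eq_mul] at hk0
  exact hk0

/-- The shift of a conjugation. -/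
theorem exists_shift {q x : ↥(cC z P)} (hx : x ^ 3 = 1) (h : Commute (D.π q) (D.π x))
    (hne : ¬ Commute q x) : ∃ f : ℕ, f % 3 ≠ 0 ∧ q * x * q⁻¹ = D.toJMod.ω ^ f * x := by
  obtain ⟨k, hk⟩ : ∃ k, k = q * x * q⁻¹ * x⁻¹ := ⟨_, rfl⟩
  have hk1 : D.π k = 1 := by
    rw [hk, map_mul, map_mul, map_mul, map_inv, map_inv, h.eq, mul_inv_cancel_right, mul_inv_cancel]
  have e : k * x = q * x * q⁻¹ := by rw [hk]; group
  have hk3 : k ^ 3 = 1 := by
    have e2 := (D.toJMod.ker_comm k hk1 x).mul_pow 3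
    rw [e, conj_pow, hx, mul_one, mul_inv_cancel, mul_one] at e2
    exact e2.symm
  obtain ⟨f, hf⟩ := D.toJMod.ker3 k hk1 hk3
  refine ⟨f, fun h0 => hne ?_, by rw [← e, hf]⟩
  rw [← Nat.mod_add_div f 3, h0, zero_add, pow_mul, D.toJMod.ω3, one_pow] at hf
  rw [hf, one_mul] at e
  exact (mul_inv_eq_iff_eq_mul.1 e.symm)

/-- An inner involution with the image of the involution `c₀` lies in `E * c₀`. -/
theorem inner_involution {u : G} (h2 : u * u = 1) {e : G} (he : e ∈ cE z) (c : ↥(cC z P)) (hu : u = e * c)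
    {c₀ : ↥(cC z P)} (hc₀ : c₀ * c₀ = 1) (hπ : D.π c = D.π c₀) : ∃ e' ∈ cE z, u = e' * (c₀ : G) := by
  obtain ⟨k, hk⟩ : ∃ k, k = c₀⁻¹ * c := ⟨_, rfl⟩
  have hk1 : D.π k = 1 := by rw [hk, map_mul, map_inv, hπ, inv_mul_cancel]
  have hck : (c : G) = (c₀ : G) * (k : G) := by
    rw [← Subgroup.coe_mul, hk, mul_inv_cancel_left]
  obtain ⟨e', he', j, hu'⟩ : ∃ e' : G, e' ∈ cE z ∧ ∃ j : ℕ, u = e' * (c₀ : G) * D.p ^ j := by
    obtain ⟨j, hj | hj⟩ := (D.ker_iff k).1 hk1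
    · exact ⟨e, he, j, by rw [hu, hck, hj, ← mul_assoc]⟩
    · refine ⟨e * z, mul_mem he (z_mem D.hJ), j, ?_⟩
      rw [hu, hck, hj, ← mul_assoc (c₀ : G), ← D.comm_z c₀]
      group
  have hcc : (c₀ : G) * c₀ = 1 := congrArg Subtype.val hc₀
  have hq : Commute (c₀ : G) (D.p ^ j) := (show Commute D.p (c₀ : G) from D.comm_p c₀).symm.pow_right j
  have hj0 : D.p ^ j = 1 := by
    refine D.sq_order j ?_
    obtain ⟨q, hqd⟩ : ∃ q, q = (c₀ : G) * D.p ^ j := ⟨_, rfl⟩
    have hqq : q * q = D.p ^ (2 * j) := by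
      rw [hqd, mul_assoc, ← mul_assoc (D.p ^ j), ← hq.eq, mul_assoc (c₀ : G), ← mul_assoc, hcc, one_mul,
        ← pow_add, two_mul]
    rw [hu', mul_assoc e' (c₀ : G), ← hqd] at h2
    have : D.p ^ (2 * j) = (e' * (q * e' * q⁻¹))⁻¹ := by
      refine eq_inv_of_mul_eq_one_right ?_
      rw [← hqq, ← h2]; group
    rw [this]
    refine inv_mem (mul_mem he' (cE_conj ?_ he'))
    rw [hqd]; exact mul_mem c₀.2.1 (pow_mem D.pH j)
  exact ⟨e', he', by rw [hu', hj0, mul_one]⟩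

include D in
theorem card_cent_pre (S : AddSubgroup (cV z)) (s : Set G)
    (h : ∀ e : ↥(cE z), mk e ∈ S ↔ ∀ y ∈ s, Commute y (e : G)) :
    Nat.card ↥(cE z ⊓ Subgroup.centralizer s) = 2 * Nat.card ↥S := by
  rw [← card_pre D.hJ S, Nat.card_congr (Subgroup.equivMapOfInjective (pre S) (cE z).subtype
    (Subgroup.subtype_injective _)).toEquiv]
  congr 2
  ext g
  constructor
  · rintro ⟨hg, hc⟩
    exact ⟨⟨g, hg⟩, (h ⟨g, hg⟩).2 fun y hy => Subgroup.mem_centralizer_iff.1 hc y hy, rfl⟩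
  · rintro ⟨e, he, rfl⟩
    exact ⟨e.2, Subgroup.mem_centralizer_iff.2 fun y hy => ((h e).1 he y hy).eq⟩

end Cfsg.Agent.Lib.J4Fusion14
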