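import Cfsg.Agent.Lib.J4Fusion14.Defs

/-!
# The central involution has no conjugate in the outer coset
-/

set_option autoImplicit false

namespace Cfsg.Agent.Lib.J4Fusion14

open Cfsg Cfsg.Agent.Lib.J4Type19

attribute [local instance] m22_finite

variable {G : Type*} [Group G] [Finite G] {z : G} {P : Subgroup G}

theorem inner14_of_not_not (D : HData z P) {g h : G} (hg : g ∈ cH z) (hh : h ∈ cH z)
    (ng : ¬ D.Inner14 g) (nh : ¬ D.Inner14 h) : D.Inner14 (g * h) := by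
  have hi : (Inn M22t).index = 2 := Compute.Mathieu.card_out_M22
  rw [D.inner14_iff ⟨g, hg⟩] at ng
  rw [D.inner14_iff ⟨h, hh⟩] at nh
  refine (D.inner14_iff (⟨g, hg⟩ * ⟨h, hh⟩)).2 ?_
  rw [map_mul, Subgroup.mul_mem_iff_of_index_two hi]
  exact iff_of_false ng nh

theorem act_semilinear (D : HData z P) (u : ↥(cH z)) (hu : ¬ D.Inner14 (u : G)) (v : cV z) :
    act u (D.toJMod.ω • v) = D.toJMod.ω • D.toJMod.ω • act u v := by
  obtain ⟨e, he, c, hc, h | h⟩ := D.decomp u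
  · exact absurd ⟨e, he, c, hc, h⟩ hu
  have hu' : u = ⟨e, cE_le z he⟩ * (D.t * ⟨c, hc.1⟩) := Subtype.ext h
  rw [hu', act_mul, act_mul, act_mul, act_mul, act_cE he D.hJ, act_cE he D.hJ,
    show act (⟨c, hc.1⟩ : ↥(cH z)) v = (⟨c, hc⟩ : ↥(cC z P)) • v from act_smul ⟨c, hc⟩ v,
    show act (⟨c, hc.1⟩ : ↥(cH z)) (D.toJMod.ω • v) = (⟨c, hc⟩ : ↥(cC z P)) • D.toJMod.ω • v from
      act_smul ⟨c, hc⟩ _, ← D.toJMod.ω_comm]
  obtain ⟨f, hf⟩ := mk_surjective ((⟨c, hc⟩ : ↥(cC z P)) • v)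
  rw [← hf, D.smul_p_mk, act_mk, act_mk, D.smul_p_mk, D.smul_p_mk]
  congr 1
  apply Subtype.ext
  show (D.t : G) * (D.p * f * D.p⁻¹) * (D.t : G)⁻¹ = D.p * (D.p * ((D.t : G) * f * (D.t : G)⁻¹) * D.p⁻¹) * D.p⁻¹
  have hpp : D.p * D.p = D.p⁻¹ :=
    (inv_eq_of_mul_eq_one_right (by rw [← mul_assoc]; simpa [pow_succ] using D.p3)).symm
  rw [show (D.t : G) * (D.p * f * D.p⁻¹) * (D.t : G)⁻¹ =
      ((D.t : G) * D.p * (D.t : G)⁻¹) * ((D.t : G) * f * (D.t : G)⁻¹) * ((D.t : G) * D.p * (D.t : G)⁻¹)⁻¹ by group,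
    D.tp, inv_inv, ← hpp]
  have h3 : D.p * (D.p * D.p) = 1 := by rw [hpp, mul_inv_cancel]
  have h4 : D.p * (D.p * (D.p * D.p)) = D.p := by rw [h3, mul_one]
  simp only [mul_assoc, h4]

/-- `v ↦ v + u v`. -/
def addAct (u : ↥(cH z)) : cV z →+ cV z := AddMonoidHom.id _ + act u

omit [Finite G] in
theorem addAct_apply (u : ↥(cH z)) (v : cV z) : addAct u v = v + act u v := rfl

omit [Finite G] in
theorem addAct_isotropic (hJ : IsOfJankoFourTypeWith z P) (u : ↥(cH z)) (huu : u * u = 1) (x y : cV z) :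
    form hJ (addAct u x) (addAct u y) = 0 := by
  have e : form hJ (act u x) y = form hJ x (act u y) := by
    conv_lhs => rw [← act_form hJ u (act u x) y, ← act_mul, huu, act_one]
  simp only [addAct_apply, map_add, AddMonoidHom.add_apply]
  rw [e, act_form hJ]
  generalize form hJ x y = a
  generalize form hJ x (act u y) = b
  revert a b
  decide

theorem card_addAct (D : HData z P) (u : ↥(cH z)) (hu : ¬ D.Inner14 (u : G)) :
    64 ≤ Nat.card ↥(addAct u).range := by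
  have := D.toJMod.finiteV
  have hsub : ∀ x y : cV z, addAct u x = 0 → addAct u y = 0 → x = D.toJMod.ω • y → y = 0 := by
    intro x y hx hy hxy
    rw [addAct_apply, add_eq_zero_iff_eq_neg, D.toJMod.neg_eq] at hx hy
    have h := act_semilinear D u hu y
    rw [← hxy, ← hx, ← hy, hxy] at h
    refine D.toJMod.ωfix y ?_
    have h2 := congrArg (fun w => D.toJMod.ω • D.toJMod.ω • w) h
    simp only [D.toJMod.ω3_smul] at h2
    exact h2.symm
  let f : ↥(addAct u).ker × ↥(addAct u).ker → cV z := fun q => (q.1 : cV z) + D.toJMod.ω • (q.2 : cV z)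
  have hf : Function.Injective f := by
    rintro ⟨⟨a, ha⟩, ⟨b, hb⟩⟩ ⟨⟨a', ha'⟩, ⟨b', hb'⟩⟩ h
    have h' : a + D.toJMod.ω • b = a' + D.toJMod.ω • b' := h
    have e : b - b' = 0 := hsub (a' - a) _ (by rw [map_sub, AddMonoidHom.mem_ker.1 ha', AddMonoidHom.mem_ker.1 ha, sub_zero])
      (by rw [map_sub, AddMonoidHom.mem_ker.1 hb, AddMonoidHom.mem_ker.1 hb', sub_zero]) (by
        rw [smul_sub, sub_eq_sub_iff_add_eq_add, add_comm (D.toJMod.ω • b) a, h', add_comm])
    rw [sub_eq_zero] at e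
    subst e
    rw [add_left_inj] at h'
    subst h'
    rfl
  have h1 := Nat.card_le_card_of_injective f hf
  rw [Nat.card_prod, D.toJMod.cardV] at h1
  have h2 := AddSubgroup.card_mul_index (addAct u).ker
  rw [AddSubgroup.index_ker, D.toJMod.cardV] at h2
  have h3 : Nat.card ↥(addAct u).ker ≤ 64 := by
    by_contra hc
    have : 65 * 65 ≤ Nat.card ↥(addAct u).ker * Nat.card ↥(addAct u).ker :=
      Nat.mul_le_mul (by omega) (by omega)
    omega
  by_contra hc
  have : Nat.card ↥(addAct u).ker * Nat.card ↥(addAct u).range ≤ 64 * 63 :=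
    Nat.mul_le_mul h3 (by omega)
  omega

theorem no_outer (D : HData z P) (hI : ∀ g : G, D.Inner14 (g * z * g⁻¹) → g * z * g⁻¹ = z) :
    ∀ g : G, g * z * g⁻¹ ∈ cH z → g * z * g⁻¹ = z := by
  classical
  intro g hH
  by_contra hne
  have := D.toJMod.finiteV
  obtain ⟨u, hu⟩ : ∃ u : ↥(cH z), (u : G) = g * z * g⁻¹ := ⟨⟨_, hH⟩, rfl⟩
  have hun : ¬ D.Inner14 (u : G) := fun h => hne (hI g (hu ▸ h))
  have huu : u * u = 1 := Subtype.ext (by
    rw [Subgroup.coe_mul, hu, show g * z * g⁻¹ * (g * z * g⁻¹) = g * (z * z) * g⁻¹ by group, z_sq D.hJ,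
      Subgroup.coe_one]
    group)
  have hui : (u : G)⁻¹ = u := inv_eq_of_mul_eq_one_right (congrArg Subtype.val huu)
  -- `a e`
  let a : ↥(cE z) → ↥(cE z) := fun e =>
    ⟨(u : G) * e * (u : G)⁻¹ * (e : G)⁻¹, mul_mem (cE_conj u.2 e.2) (inv_mem e.2)⟩
  have hmk : ∀ e, mk (a e) = addAct u (mk e) := by
    intro e
    rw [show a e = cEAut (u : G) u.2 e * e⁻¹ from rfl, mk_mul, addAct_apply, act_mk, add_comm (mk e)]
    congr 1
    refine eq_of_sub_eq_zero ?_
    rw [sub_eq_add_neg, D.toJMod.neg_eq, ← mk_mul, inv_mul_cancel, mk_one]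
  have hcomm : ∀ e f, Commute (a e) (a f) := fun e f => by
    rw [← pair_eq_zero, ← form_mk D.hJ, hmk, hmk, addAct_isotropic D.hJ u huu]
  -- key property
  have key : ∀ e, a e * a e = 1 → mk (a e) ≠ 0 →
      (a e : G) ∈ cH z ∧ g⁻¹ * (a e : G) * g ∈ cH z ∧ ¬ D.Inner14 (g⁻¹ * (a e : G) * g) := by
    intro e hsq hne0
    have hsq' : (a e : G) * a e = 1 := congrArg Subtype.val hsq
    have hw : (e : G) * (u : G) * (e : G)⁻¹ = (u : G) * (a e : G) := by
      show _ = (u : G) * ((u : G) * e * (u : G)⁻¹ * (e : G)⁻¹)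
      have h2 : (u : G) * (u : G) = 1 := congrArg Subtype.val huu
      rw [hui, show (u : G) * ((u : G) * e * u * (e : G)⁻¹) = ((u : G) * u) * e * u * (e : G)⁻¹ by group, h2, one_mul]
    have hww : (u : G) * (a e : G) * ((u : G) * (a e : G)) = 1 := by
      rw [← hw, show (e : G) * u * (e : G)⁻¹ * (e * u * (e : G)⁻¹) = e * ((u : G) * u) * (e : G)⁻¹ by group,
        show (u : G) * (u : G) = 1 from congrArg Subtype.val huu]
      group
    have hua : Commute (u : G) (a e : G) := by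
      have h1 : (u : G) * (a e : G) = ((u : G) * (a e : G))⁻¹ := eq_inv_of_mul_eq_one_left hww
      rw [mul_inv_rev, hui, inv_eq_of_mul_eq_one_right hsq'] at h1
      exact h1
    have hσ : g⁻¹ * (a e : G) * g ∈ cH z := by
      refine Subgroup.mem_centralizer_singleton_iff.2 ?_
      have := hua.eq
      rw [hu] at this
      calc g⁻¹ * (a e : G) * g * z = g⁻¹ * ((a e : G) * (g * z * g⁻¹)) * g := by group
        _ = g⁻¹ * ((g * z * g⁻¹) * (a e : G)) * g := by rw [this]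
        _ = z * (g⁻¹ * (a e : G) * g) := by group
    refine ⟨cE_le z (a e).2, hσ, fun hin => ?_⟩
    have h1 := D.inner14_mul (D.inner14_cE (z_mem D.hJ)) hin
    have h2 : z * (g⁻¹ * (a e : G) * g) = (g⁻¹ * (e : G) * g) * z * (g⁻¹ * (e : G) * g)⁻¹ := by
      calc z * (g⁻¹ * (a e : G) * g) = g⁻¹ * ((g * z * g⁻¹) * (a e : G)) * g := by group
        _ = g⁻¹ * ((e : G) * (u : G) * (e : G)⁻¹) * g := by rw [hw, hu]
        _ = _ := by rw [hu]; group
    rw [h2] at h1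
    have h3 := hI _ h1
    rw [← h2, mul_eq_left, show g⁻¹ * (a e : G) * g = g⁻¹ * (a e : G) * g⁻¹⁻¹ by rw [inv_inv], conj_eq_one_iff] at h3
    exact hne0 ((mk_eq_zero D.hJ).2 (Or.inl h3))
  -- existence
  have hz : ∀ e, a e * a e = 1 ∨ a e * a e = ⟨z, z_mem D.hJ⟩ := fun e =>
    (sq_or D.hJ (a e)).imp (fun h => Subtype.ext h) fun h => Subtype.ext h
  have hdiff : ∀ e f, mk (a (e * f)) = mk (a e) + mk (a f) := fun e f => by
    rw [hmk, hmk, hmk, mk_mul, map_add]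
  have hsqmul : ∀ e f, a (e * f) * a (e * f) = a e * a e * (a f * a f) := by
    intro e f
    have hcp : ∀ w : ↥(cE z), Commute w ⟨z, z_mem D.hJ⟩ := fun w =>
      Subgroup.mem_center_iff.1 (z_center D.hJ) w
    have h4 : a (e * f) = a e * a f ∨ a (e * f) = a e * a f * ⟨z, z_mem D.hJ⟩ :=
      ((mk_eq D.hJ).1 (show mk (a e * a f) = mk (a (e * f)) by rw [mk_mul, hdiff])).imp
        (fun h => Subtype.ext h) fun h => Subtype.ext h
    have h5 : a e * a f * (a e * a f) = a e * a e * (a f * a f) := (hcomm f e).mul_mul_mul_comm _ _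
    rcases h4 with h | h
    · rw [h, h5]
    · rw [h, (hcp (a e * a f)).symm.mul_mul_mul_comm, h5,
        show (⟨z, z_mem D.hJ⟩ : ↥(cE z)) * ⟨z, z_mem D.hJ⟩ = 1 from Subtype.ext (z_sq D.hJ), mul_one]
  have hex : ∀ (e₁ : ↥(cE z)) (k : cV z), ∃ e, a e * a e = 1 ∧ pair e₁ (a e) = 0 ∧ mk (a e) ≠ 0 ∧ mk (a e) ≠ k := by
    intro e₁ k
    have := Fintype.ofFinite (cV z)
    have hsel : ∀ x : ↥(addAct u).range, ∃ e, mk (a e) = (x : cV z) := by
      rintro ⟨_, v, rfl⟩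
      obtain ⟨e, rfl⟩ := mk_surjective v
      exact ⟨e, hmk e⟩
    choose sel hsel using hsel
    let F : ↥(addAct u).range → Bool × ZMod 2 := fun x =>
      (decide (a (sel x) * a (sel x) = 1), pair e₁ (a (sel x)))
    have := Fintype.ofFinite ↥(addAct u).range
    have hlt : Fintype.card (Bool × ZMod 2) * 2 < Fintype.card ↥(addAct u).range := by
      rw [← Nat.card_eq_fintype_card (α := ↥(addAct u).range), Fintype.card_prod, Fintype.card_bool, ZMod.card]
      have := card_addAct D u hun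
      omega
    obtain ⟨b, hb⟩ := Fintype.exists_lt_card_fiber_of_mul_lt_card F hlt
    obtain ⟨x, hx, y, hy, w, hw, hxy, hxw, hyw⟩ := Finset.two_lt_card.1 hb
    simp only [Finset.mem_filter, Finset.mem_univ, true_and] at hx hy hw
    have good : ∀ y, F y = F x → x ≠ y → a (sel x * sel y) * a (sel x * sel y) = 1 ∧
        pair e₁ (a (sel x * sel y)) = 0 ∧ mk (a (sel x * sel y)) ≠ 0 := by
      intro y e hne'
      obtain ⟨e1, e2⟩ := Prod.ext_iff.1 e
      refine ⟨?_, ?_, ?_⟩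
      · have h1 : (a (sel y) * a (sel y) = 1) ↔ (a (sel x) * a (sel x) = 1) := decide_eq_decide.1 e1
        rw [hsqmul]
        rcases hz (sel x) with h | h
        · rw [h, h1.2 h, one_mul]
        · rcases hz (sel y) with h' | h'
          · rw [h1.1 h', h', one_mul]
          · rw [h, h']; exact Subtype.ext (z_sq D.hJ)
      · rw [← form_mk D.hJ, hdiff, map_add, form_mk, form_mk, show pair e₁ (a (sel y)) = pair e₁ (a (sel x)) from e2]
        generalize pair e₁ (a (sel x)) = r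
        revert r
        decide
      · rw [hdiff, hsel, hsel]
        intro h
        rw [add_eq_zero_iff_eq_neg, D.toJMod.neg_eq] at h
        exact hne' (Subtype.ext h)
    obtain ⟨h1, h2, h3⟩ := good y (hy.trans hx.symm) hxy
    obtain ⟨h1', h2', h3'⟩ := good w (hw.trans hx.symm) hxw
    by_cases hk : mk (a (sel x * sel y)) = k
    · refine ⟨_, h1', h2', h3', ?_⟩
      rw [← hk, hdiff, hdiff, hsel, hsel, hsel, ne_eq, add_right_inj]
      exact fun h => hyw (Subtype.ext h).symm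
    · exact ⟨_, h1, h2, h3, hk⟩
  obtain ⟨e₁, s1, -, n1, -⟩ := hex 1 0
  obtain ⟨e₂, s2, p2, n2, d2⟩ := hex e₁ (mk (a e₁))
  have h12 : a (e₁ * e₂) = a e₁ * a e₂ := by
    have hc : (e₁ : G) * a e₂ = (a e₂ : G) * e₁ := congrArg Subtype.val (pair_eq_zero.1 p2).eq
    apply Subtype.ext
    show (u : G) * ((e₁ : G) * e₂) * (u : G)⁻¹ * ((e₁ : G) * e₂)⁻¹ = (a e₁ : G) * a e₂
    calc _ = (a e₁ : G) * ((e₁ : G) * a e₂ * (e₁ : G)⁻¹) := by
          show _ = (u : G) * e₁ * (u : G)⁻¹ * (e₁ : G)⁻¹ * (e₁ * ((u : G) * e₂ * (u : G)⁻¹ * (e₂ : G)⁻¹) * (e₁ : G)⁻¹)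
          group
      _ = _ := by rw [hc, mul_inv_cancel_right]
  obtain ⟨-, hH1, hn1⟩ := key e₁ s1 n1
  obtain ⟨-, hH2, hn2⟩ := key e₂ s2 n2
  obtain ⟨-, -, hn3⟩ := key (e₁ * e₂) (by rw [hsqmul, s1, s2, one_mul]) (by
    rw [hdiff]
    intro h
    rw [add_eq_zero_iff_eq_neg, D.toJMod.neg_eq] at h
    exact d2 h.symm)
  apply hn3
  have := inner14_of_not_not D hH1 hH2 hn1 hn2
  rwa [show g⁻¹ * (a e₁ : G) * g * (g⁻¹ * (a e₂ : G) * g) = g⁻¹ * (a (e₁ * e₂) : G) * g by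
    rw [h12, Subgroup.coe_mul]; group] at this

end Cfsg.Agent.Lib.J4Fusion14
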