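import Cfsg.Agent.Lib.J4Type19.Main

/-!
# Fusion of the central involution in groups of type J4: definitions

The structure `Three` holds what is used on the centraliser of an element of order three of M22.
-/

set_option autoImplicit false

namespace Cfsg.Agent.Lib.J4Fusion14

open Cfsg Cfsg.Agent.Lib.J4Type19

/-- The centraliser of an element of order three in M22. -/
structure Three (M : Type*) [Group M] : Type _ where
  a : M
  t : M
  t₁ : M
  q : M
  a3 : a ^ 3 = 1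
  a1 : a ≠ 1
  tt : t * t = 1
  t1 : t ≠ 1
  t₁₁ : t₁ * t₁ = 1
  t₁_ne : t₁ ≠ 1
  t₁t : t₁ ≠ t
  ta : Commute t a
  t₁a : Commute t₁ a
  comm : Commute t t₁
  q3 : q ^ 3 = 1
  qa : Commute q a
  qt : q * t * q⁻¹ = t₁
  qt₁ : q * t₁ * q⁻¹ = t * t₁
  qne : q ≠ a
  qne' : q ≠ a⁻¹
  four : ∀ s, Commute s a → s * s = 1 → s = 1 ∨ s = t ∨ s = t₁ ∨ s = t * t₁
  card_cent : Nat.card (Subgroup.centralizer ({a} : Set M)) = 36
  isConj : ∀ x : M, orderOf x = 3 → IsConj a x
  two_part : ∃ S : Subgroup M, Nat.card S = 128 ∧ ∀ s ∈ S, Commute s t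
  card_norm : ∀ S : Sylow 3 M, Nat.card (Subgroup.normalizer ((S : Subgroup M) : Set M)) = 72

variable {G : Type*} [Group G] {z : G} {P : Subgroup G}

/-- The action of the whole centraliser on the symplectic space. -/
def act (h : ↥(cH z)) : cV z →+ cV z := MonoidHom.toAdditive (Abelianization.map (cEAut (h : G) h.2))

theorem act_mk (h : ↥(cH z)) (e : ↥(cE z)) : act h (mk e) = mk (cEAut (h : G) h.2 e) := rfl

theorem act_one (v : cV z) : act (1 : ↥(cH z)) v = v := by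
  obtain ⟨e, rfl⟩ := mk_surjective v
  rw [act_mk]; congr 1; apply Subtype.ext; simp [cEAut]

theorem act_mul (g h : ↥(cH z)) (v : cV z) : act (g * h) v = act g (act h v) := by
  obtain ⟨e, rfl⟩ := mk_surjective v
  rw [act_mk, act_mk, act_mk]; congr 1; apply Subtype.ext; simp [cEAut, mul_assoc]

theorem act_inv_act (h : ↥(cH z)) (v : cV z) : act h⁻¹ (act h v) = v := by
  rw [← act_mul, inv_mul_cancel, act_one]

theorem act_smul (c : ↥(cC z P)) (v : cV z) : act ⟨(c : G), c.2.1⟩ v = c • v := rfl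

theorem act_form (hJ : IsOfJankoFourTypeWith z P) (h : ↥(cH z)) (u v : cV z) :
    form hJ (act h u) (act h v) = form hJ u v := by
  obtain ⟨e, rfl⟩ := mk_surjective u
  obtain ⟨f, rfl⟩ := mk_surjective v
  rw [act_mk, act_mk, form_mk, form_mk]
  have hinj : Function.Injective (cEAut (z := z) (h : G) h.2) := fun p q e =>
    Subtype.ext (mul_left_cancel (mul_right_cancel (congrArg Subtype.val e : (h : G) * p * (h : G)⁻¹ = _)))
  have : Commute (cEAut (h : G) h.2 e) (cEAut (h : G) h.2 f) ↔ Commute e f :=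
    ⟨fun e' => hinj (by rw [map_mul, map_mul]; exact e'.eq), fun e' => e'.map _⟩
  classical
  exact if_congr this rfl rfl

theorem act_cE {e : G} (he : e ∈ cE z) (hJ : IsOfJankoFourTypeWith z P) (v : cV z) :
    act ⟨e, cE_le z he⟩ v = v := by
  obtain ⟨f, rfl⟩ := mk_surjective v
  rw [act_mk, eq_comm, mk_eq hJ]
  have hf : e * (f : G) * e⁻¹ = f ∨ e * (f : G) * e⁻¹ = f * z := by
    rcases comm_or hJ ⟨e, he⟩ f with h | h
    · exact Or.inl (mul_inv_eq_one.1 h)
    · refine Or.inr ?_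
      rw [mul_inv_eq_iff_eq_mul] at h
      rw [h, ← Subgroup.mem_centralizer_singleton_iff.1 (cE_le z f.2)]
  exact hf

end Cfsg.Agent.Lib.J4Fusion14

namespace Cfsg.Agent.Lib.J4Type19.HData

open Cfsg Cfsg.Agent.Lib.J4Type19

variable {G : Type*} [Group G] {z : G} {P : Subgroup G}

/-- Elements of `E * C`. -/
def Inner14 (_D : HData z P) (h : G) : Prop := ∃ e ∈ cE z, ∃ c ∈ cC z P, h = e * c

theorem comm_z14 {h : G} (hh : h ∈ cH z) : h * z = z * h := Subgroup.mem_centralizer_singleton_iff.1 hh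

variable (D : HData z P)
include D

theorem inner14_mem {h : G} (hh : D.Inner14 h) : h ∈ cH z := by
  obtain ⟨e, he, c, hc, rfl⟩ := hh
  exact mul_mem (cE_le z he) hc.1

theorem inner14_cE {e : G} (he : e ∈ cE z) : D.Inner14 e := ⟨e, he, 1, one_mem _, (mul_one e).symm⟩

theorem inner14_cC {c : G} (hc : c ∈ cC z P) : D.Inner14 c := ⟨1, one_mem _, c, hc, (one_mul c).symm⟩

theorem inner14_mul {g h : G} (hg : D.Inner14 g) (hh : D.Inner14 h) : D.Inner14 (g * h) := by
  obtain ⟨e, he, c, hc, rfl⟩ := hg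
  obtain ⟨e', he', c', hc', rfl⟩ := hh
  exact ⟨e * (c * e' * c⁻¹), mul_mem he (cE_conj hc.1 he'), c * c', mul_mem hc hc', by group⟩

theorem inner14_inv {g : G} (hg : D.Inner14 g) : D.Inner14 g⁻¹ := by
  obtain ⟨e, he, c, hc, rfl⟩ := hg
  exact ⟨c⁻¹ * e⁻¹ * c⁻¹⁻¹, cE_conj (inv_mem hc.1) (inv_mem he), c⁻¹, inv_mem hc, by group⟩

variable [Finite G]

theorem inner14_iff (h : ↥(cH z)) : D.Inner14 (h : G) ↔ D.φ h ∈ Inn M22t := by
  constructor
  · rintro ⟨e, he, c, hc, hh⟩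
    rw [D.φ_inner he ⟨c, hc⟩ hh]
    exact ⟨_, rfl⟩
  · intro hi
    obtain ⟨e, he, c, hc, hh | hh⟩ := D.decomp h
    · exact ⟨e, he, c, hc, hh⟩
    · exact absurd hi (D.φ_outer he ⟨c, hc⟩ hh)

end Cfsg.Agent.Lib.J4Type19.HData
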