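import Cfsg.Agent.Lib.J4Fusion14.Defs

/-!
# The frame at an element of order three

`x` is the lift of an element of order three for which the involution `w` acts trivially on the fixed
points of `x` in the extraspecial group, while `w₁` fixes only one point there.
-/

set_option autoImplicit false

namespace Cfsg.Agent.Lib.J4Fusion14

open Cfsg Cfsg.Agent.Lib.J4Type19

variable {G : Type*} [Group G] [Finite G] {z : G} {P : Subgroup G}

/-- The frame. -/
structure Frame (D : HData z P) : Type _ where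
  F : MFacts M22t
  L : Lifts D.toJMod F
  Th : Three M22t
  x : ↥(cC z P)
  w : ↥(cC z P)
  w₁ : ↥(cC z P)
  q : ↥(cC z P)
  πx : D.π x = Th.a
  πw : D.π w = Th.t
  πw₁ : D.π w₁ = Th.t₁
  πq : D.π q = Th.q
  x3 : x ^ 3 = 1
  ww : w * w = 1
  ww₁ : w₁ * w₁ = 1
  q3 : q ^ 3 = 1
  xw : Commute x w
  xw₁ : Commute x w₁
  qx : ¬ Commute q x
  card_x : Nat.card ↥(cE z ⊓ Subgroup.centralizer ({(x : G)} : Set G)) = 32
  nondeg : ∀ e ∈ cE z, Commute e (x : G) → (∀ f ∈ cE z, Commute f (x : G) → Commute e f) → e = 1 ∨ e = z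
  w_fix : ∀ e ∈ cE z, Commute e (x : G) → Commute e (w : G)
  card_w₁ : Nat.card ↥(cE z ⊓ Subgroup.centralizer ({(x : G), (w₁ : G)} : Set G)) = 8
  w₁_abel : ∀ e ∈ cE z, ∀ f ∈ cE z, Commute e (x : G) → Commute e (w₁ : G) → Commute f (x : G) →
    Commute f (w₁ : G) → Commute e f
  U : Subgroup M22t
  good : D.toJMod.Good U
  tU : Th.t ∈ U
  t₁U : Th.t₁ ∈ U
  plane : ∀ e : ↥(cE z), Commute (e : G) (x : G) → Commute (e : G) (w₁ : G) → mk e ∈ D.toJMod.fix U

end Cfsg.Agent.Lib.J4Fusion14
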