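import Cfsg.Agent.Lib.J4Fusion14.Defs

/-!
# Elementary subgroups of order `2 ^ 11` lie in `E * C`
-/

set_option autoImplicit false

namespace Cfsg.Agent.Lib.J4Type19

open Cfsg

attribute [local instance] m22_finite

variable {G : Type*} [Group G] [Finite G] {z : G} {P : Subgroup G}

namespace HData

variable (D : HData z P)
include D

/-- An elementary subgroup of order `2 ^ 11` of the centralizer consists of inner elements. -/
theorem elem_inner14 {F : MFacts M22t} (L : Lifts D.toJMod F) {B : Subgroup G} (hB : B ≤ cH z)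
    (hsq : ∀ b ∈ B, b * b = 1) (hc : Nat.card ↥B = 2 ^ 11) {b : G} (hb : b ∈ B) : D.Inner14 b := by
  obtain ⟨U, -, hin, -, -⟩ := D.key L hB hsq hc
  obtain ⟨u, -, hu⟩ := hin b hb
  exact (D.inner14_iff ⟨b, hB hb⟩).2 ⟨u, hu.symm⟩

theorem exists_span14 {F : MFacts M22t} (L : Lifts D.toJMod F) : ∃ B : Subgroup G, B ≤ cH z ∧ (∀ b ∈ B, b * b = 1) ∧
    Nat.card ↥B = 2 ^ 11 ∧ ∀ b, D.InSpan F.U0 b → b ∈ B := by
  classical
  have hU := D.toJMod.good_U0 L
  have hsq : ∀ b, D.InSpan F.U0 b → b * b = 1 := by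
    rintro b ⟨e, he, c, hc, h4, rfl⟩
    obtain ⟨he2, hec⟩ := D.good_pre_sq L hU he
    have hcc : (c : G) * c = 1 := congrArg Subtype.val (D.lift_sq_U0 hc h4)
    rw [show (e : G) * c * (e * c) = e * (c * e) * c by group, hec c hc h4,
      show (e : G) * (e * c) * c = (e * e) * (c * c) by group, he2, hcc, one_mul]
  let B : Subgroup G :=
    { carrier := {b | D.InSpan F.U0 b}
      one_mem' := ⟨1, by rw [mk_one]; exact zero_mem _, 1, by rw [map_one]; exact one_mem _, one_pow 4, by simp⟩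
      mul_mem' := by
        rintro b b' ⟨e, he, c, hc, h4, rfl⟩ ⟨e', he', c', hc', h4', rfl⟩
        refine ⟨e * e', by rw [mk_mul]; exact add_mem he he', c * c', by rw [map_mul]; exact mul_mem hc hc',
          D.pow_four_mul F.sq0 hc hc' h4 h4', ?_⟩
        rw [Subgroup.coe_mul, Subgroup.coe_mul,
          show (e : G) * c * (e' * c') = e * (c * e') * c' by group, (D.good_pre_sq L hU he').2 c hc h4]
        group
      inv_mem' := fun {b} hb => by
        show D.InSpan F.U0 b⁻¹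
        rw [inv_eq_of_mul_eq_one_right (hsq b hb)]
        exact hb }
  refine ⟨B, ?_, hsq, ?_, fun b hb => hb⟩
  · rintro b ⟨e, -, c, -, -, rfl⟩
    exact mul_mem (cE_le z e.2) c.2.1
  have hl : ∀ u : ↥F.U0, ∃ c : ↥(cC z P), D.π c = u ∧ c ^ 4 = 1 := fun u => D.toJMod.exists_two_lift (F.sq0 u u.2)
  choose l hl hl4 using hl
  let m : ↥(pre (D.toJMod.fix F.U0)) × ↥F.U0 → ↥B := fun q =>
    ⟨((q.1 : ↥(cE z)) : G) * (l q.2 : G), (q.1 : ↥(cE z)), q.1.2, l q.2, (hl q.2).symm ▸ q.2.2, hl4 q.2, rfl⟩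
  have hm : Function.Bijective m := by
    constructor
    · rintro ⟨a, u⟩ ⟨a', u'⟩ h
      have h' : ((a : ↥(cE z)) : G) * (l u : G) = ((a' : ↥(cE z)) : G) * (l u' : G) := congrArg Subtype.val h
      have hu : u = u' := by
        apply Subtype.ext
        rw [← hl u, ← hl u']
        apply m22_conj_injective
        rw [← D.φ_inner (h := ⟨_, mul_mem (cE_le z (a : ↥(cE z)).2) (l u).2.1⟩) (a : ↥(cE z)).2 (l u) rfl,
          ← D.φ_inner (h := ⟨_, mul_mem (cE_le z (a : ↥(cE z)).2) (l u).2.1⟩) (a' : ↥(cE z)).2 (l u') h']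
      subst hu
      exact Prod.ext (Subtype.ext (Subtype.ext (mul_right_cancel h'))) rfl
    · rintro ⟨b, e, he, c, hc, h4, rfl⟩
      obtain ⟨u, hu⟩ : ∃ u : ↥F.U0, u = ⟨D.π c, hc⟩ := ⟨_, rfl⟩
      have hπ : D.π (l u) = D.π c := by rw [hl u, hu]
      obtain ⟨k, hk⟩ : ∃ k, k = (l u)⁻¹ * c := ⟨_, rfl⟩
      have hk1 : D.π k = 1 := by rw [hk, map_mul, map_inv, hπ, inv_mul_cancel]
      have hk4 : k ^ 4 = 1 := by
        have := (D.toJMod.ker_comm k hk1 (l u)).symm.mul_pow 4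
        rwa [show l u * k = c by rw [hk, mul_inv_cancel_left], h4, hl4, one_mul, eq_comm] at this
      have hck : (c : G) = (l u : G) * (k : G) := by
        rw [← Subgroup.coe_mul, hk, mul_inv_cancel_left]
      rcases D.ker_two hk1 (D.ker_four hk1 hk4) with h | h
      · refine ⟨(⟨e, he⟩, u), Subtype.ext ?_⟩
        show (e : G) * (l u : G) = e * c
        rw [hck, h, mul_one]
      · refine ⟨(⟨e * ⟨z, z_mem D.hJ⟩, show mk (e * _) ∈ _ by
          rw [mk_mul, (mk_eq_zero D.hJ (e := ⟨z, z_mem D.hJ⟩)).2 (Or.inr rfl), add_zero]; exact he⟩, u), Subtype.ext ?_⟩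
        show (e : G) * z * (l u : G) = e * c
        rw [hck, h, mul_assoc, D.comm_z]
  rw [← Nat.card_eq_of_bijective m hm, Nat.card_prod, card_pre D.hJ, (D.toJMod.fix_U0 L).1, F.card0]
  norm_num


/-- For every good subgroup there is an elementary subgroup of order `2 ^ 11` containing all attached elements. -/
theorem exists_span_good14 {F : MFacts M22t} (L : Lifts D.toJMod F) {U : Subgroup M22t} (hU : D.toJMod.Good U) :
    ∃ B : Subgroup G, B ≤ cH z ∧ (∀ b ∈ B, b * b = 1) ∧ Nat.card ↥B = 2 ^ 11 ∧ ∀ b, D.InSpan U b → b ∈ B := by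
  obtain ⟨B, hB, hsq, hc, hmem⟩ := D.exists_span14 L
  obtain ⟨g, -, hg⟩ := D.toJMod.good_conj L hU (IsPGroup.of_card (n := 4) (by rw [hU.1]; norm_num)) le_rfl
  obtain ⟨a, rfl⟩ := D.πsurj g
  refine ⟨B.map (MulAut.conj (a : G)⁻¹).toMonoidHom, ?_, ?_, ?_, ?_⟩
  · rintro _ ⟨b, hb, rfl⟩
    exact mul_mem (mul_mem (inv_mem a.2.1) (hB hb)) (by simpa using a.2.1)
  · rintro _ ⟨b, hb, rfl⟩
    rw [← map_mul, hsq b hb, map_one]
  · rw [← Nat.card_congr (Subgroup.equivMapOfInjective B _ (MulAut.conj (a : G)⁻¹).injective).toEquiv, hc]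
  · rintro b ⟨e, he, c, hcU, h4, rfl⟩
    refine ⟨(a : G) * ((e : G) * c) * (a : G)⁻¹, hmem _ ⟨cEAut (a : G) a.2.1 e, ?_, a * c * a⁻¹, ?_, ?_, ?_⟩, ?_⟩
    · rw [← smul_mk]
      refine D.toJMod.mem_fix_smul (U := U) (fun x hx => ?_) he
      rw [← hg] at hx
      obtain ⟨y, hy, rfl⟩ := hx
      simpa [toJMod, mul_assoc] using hy
    · rw [← hg]
      exact ⟨D.π c, hcU, by simp⟩
    · rw [conj_pow, h4, mul_one, mul_inv_cancel]
    · show _ = (a : G) * e * (a : G)⁻¹ * ((a : G) * c * (a : G)⁻¹)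
      group
    · simp [mul_assoc]

end HData

end Cfsg.Agent.Lib.J4Type19
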