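import Cfsg.Agent.Lib.J4Fusion14.Pair
import Cfsg.Agent.Lib.J4Fusion14.Span

/-!
# Tools for conjugates of the central involution in the extraspecial group
-/

set_option autoImplicit false
set_option linter.unusedSectionVars false

namespace Cfsg.Agent.Lib.J4Fusion14

open Cfsg Cfsg.Agent.Lib.J4Type19

attribute [local instance] m22_finite

variable {G : Type*} [Group G] [Finite G] {z : G} {P : Subgroup G} (D : HData z P)
include D

theorem inE_beta {e f : ↥(cE z)} : D.toJMod.β (mk e) (mk f) = 0 ↔ Commute (e : G) (f : G) := by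
  show form D.hJ (mk e) (mk f) = 0 ↔ _
  rw [form_mk, pair_eq_zero]
  exact ⟨fun h => congrArg Subtype.val h.eq, fun h => Subtype.ext h.eq⟩

theorem inE_act_inner {d : ↥(cH z)} {e : G} (he : e ∈ cE z) (c : ↥(cC z P)) (h : (d : G) = e * (c : G))
    (v : cV z) : act d v = c • v := by
  rw [show d = ⟨e, cE_le z he⟩ * ⟨(c : G), c.2.1⟩ from Subtype.ext h, act_mul, act_cE he D.hJ, act_smul]

theorem inE_ω (v : cV z) : D.toJMod.ω • v = act ⟨D.p, D.pH⟩ v := (act_smul D.pC v).symm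

theorem inE_ω_sq (v : cV z) : D.toJMod.ω • D.toJMod.ω • v = act ⟨D.p⁻¹, inv_mem D.pH⟩ v := by
  have h : (⟨D.p⁻¹, inv_mem D.pH⟩ : ↥(cH z)) = ⟨D.p, D.pH⟩ * ⟨D.p, D.pH⟩ := Subtype.ext (by
    show D.p⁻¹ = D.p * D.p
    refine inv_eq_of_mul_eq_one_left ?_
    rw [← D.p3]; simp [pow_succ, mul_assoc])
  rw [h, act_mul, inE_ω D, inE_ω D]

theorem inE_act_ω_inner {d : ↥(cH z)} (hd : D.Inner14 (d : G)) (v : cV z) :
    act d (D.toJMod.ω • v) = D.toJMod.ω • act d v := by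
  obtain ⟨e, he, c, hc, h⟩ := hd
  rw [inE_act_inner D he ⟨c, hc⟩ h, inE_act_inner D he ⟨c, hc⟩ h, D.toJMod.ω_comm]

theorem inE_act_ω_outer {d : ↥(cH z)} (hd : ¬ D.Inner14 (d : G)) (v : cV z) :
    act d (D.toJMod.ω • v) = D.toJMod.ω • D.toJMod.ω • act d v := by
  obtain ⟨e, he, c, hc, h⟩ := (inner14_or D d.2).resolve_left hd
  have htc : (D.t : G) * c ∈ cH z := mul_mem D.t.2 hc.1
  have hd' : d = ⟨e, cE_le z he⟩ * ⟨(D.t : G) * c, htc⟩ := Subtype.ext h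
  rw [inE_ω_sq D, inE_ω D, hd', act_mul, act_cE he D.hJ, act_mul _ ⟨(D.t : G) * c, htc⟩, act_cE he D.hJ,
    ← act_mul, ← act_mul]
  refine DFunLike.congr_fun (congrArg act (Subtype.ext ?_)) _
  show (D.t : G) * c * D.p = D.p⁻¹ * ((D.t : G) * c)
  have h1 : (D.t : G) * D.p = D.p⁻¹ * D.t := mul_inv_eq_iff_eq_mul.1 D.tp
  have h2 : c * D.p = D.p * c := (D.comm_p ⟨c, hc⟩).symm
  rw [mul_assoc, h2, ← mul_assoc, h1, mul_assoc]

theorem inE_inner_act_lift {d : ↥(cH z)} (hd : D.Inner14 (d : G)) (hinv : ∀ v, act d (act d v) = v)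
    {m : M22t} (hm : D.φ d = MulAut.conj m) (hm2 : m * m = 1) {c' : ↥(cC z P)} (hc' : D.π c' = m)
    (h4 : c' ^ 4 = 1) (v : cV z) : act d v = c' • v := by
  obtain ⟨e, he, c, hc, h⟩ := hd
  have hπ : D.π ⟨c, hc⟩ = D.π c' := by
    apply m22_conj_injective
    rw [hc', ← hm, D.φ_inner he ⟨c, hc⟩ h]
  obtain ⟨k, hk⟩ : ∃ k, k = c'⁻¹ * (⟨c, hc⟩ : ↥(cC z P)) := ⟨_, rfl⟩
  have hk1 : D.π k = 1 := by rw [hk, map_mul, map_inv, hπ, inv_mul_cancel]
  obtain ⟨j, hj⟩ := D.toJMod.ker_act k hk1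
  have hcc : ∀ w, (⟨c, hc⟩ : ↥(cC z P)) • w = c' • D.toJMod.ω ^ j • w := fun w => by
    rw [← hj, ← mul_smul, hk, mul_inv_cancel_left]
  have hω : ∀ w : cV z, D.toJMod.ω ^ (2 * j) • w = w := fun w => by
    have h2 := hinv w
    rw [inE_act_inner D he ⟨c, hc⟩ h, inE_act_inner D he ⟨c, hc⟩ h, hcc, hcc, D.toJMod.ωpow_comm j c',
      D.toJMod.ωpow_add, ← two_mul,
      D.toJMod.lift_sq_smul (c := c') (show D.π c' * D.π c' = 1 by rw [hc', hm2]) h4] at h2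
    exact h2
  rw [inE_act_inner D he ⟨c, hc⟩ h, hcc]
  congr 1
  conv_rhs => rw [← hω v, ← hω (D.toJMod.ω ^ (2 * j) • v), D.toJMod.ωpow_add]
  exact D.toJMod.ωpow_congr (by omega) v

theorem inE_pow_four {e : G} (he : e ∈ cE z) : e ^ 4 = 1 := by
  rw [show (4 : ℕ) = 2 * 2 from rfl, pow_mul, pow_two e]
  rcases sq_or D.hJ ⟨e, he⟩ with h | h
  · rw [show e * e = 1 from h, one_pow]
  · rw [show e * e = z from h, pow_two, z_sq D.hJ]

theorem inE_mem_cE {d : ↥(cH z)} (h : D.φ d = 1) (h4 : (d : G) ^ 4 = 1) : (d : G) ∈ cE z := by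
  obtain ⟨e, he, q, hq, heq⟩ := (D.φ_eq d).1 h
  have hqH : q ∈ cH z := by
    rw [show q = e⁻¹ * (d : G) by rw [heq, inv_mul_cancel_left]]
    exact mul_mem (inv_mem (cE_le z he)) d.2
  have hq3 : q ^ 3 = 1 := by
    rcases (D.mem_P q).1 hq with rfl | rfl | rfl
    · exact one_pow 3
    · exact D.p3
    · rw [← pow_two, ← pow_mul, mul_comm, pow_mul, D.p3, one_pow]
  have hq4 : q ^ 4 = q := by rw [pow_succ, hq3, one_mul]
  have hqE : q ∈ cE z := by
    obtain ⟨a, ha⟩ : ∃ a, a = e * (q * e * q⁻¹) * (q ^ 2 * e * (q ^ 2)⁻¹) * (q ^ 3 * e * (q ^ 3)⁻¹) := ⟨_, rfl⟩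
    have haE : a ∈ cE z := ha ▸ mul_mem (mul_mem (mul_mem he (cE_conj hqH he)) (cE_conj (pow_mem hqH 2) he))
      (cE_conj (pow_mem hqH 3) he)
    have : a * q ^ 4 = 1 := by
      rw [← h4, heq, ha]; simp [pow_succ]; group
    rw [hq4] at this
    rw [eq_inv_of_mul_eq_one_right this]
    exact inv_mem haE
  have hqC : q ∈ Subgroup.centralizer (P : Set G) := Subgroup.mem_centralizer_iff.2 fun x hx => by
    have hc : IsCyclic ↥P := isCyclic_of_prime_card (hp := ⟨Nat.prime_three⟩) (cardP D.hJ)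
    exact congrArg Subtype.val (IsCyclic.commGroup.mul_comm (⟨x, hx⟩ : ↥P) ⟨q, hq⟩)
  rcases mem_zpowers_z D.hJ ((centE D.hJ).le ⟨hqE, hqC⟩) with rfl | rfl
  · rw [heq, mul_one]; exact he
  · rw [heq]; exact mul_mem he hqE

theorem inE_card_le {A : Subgroup G} (hA : A ≤ cE z) {S : AddSubgroup (cV z)}
    (h : ∀ a : ↥(cE z), (a : G) ∈ A → mk a ∈ S) : Nat.card ↥A ≤ 2 * Nat.card ↥S := by
  rw [← card_pre D.hJ S]
  exact Nat.card_le_card_of_injective (fun a : ↥A => (⟨⟨(a : G), hA a.2⟩, h _ a.2⟩ : ↥(pre S)))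
    fun a b he => Subtype.ext (congrArg (fun x : ↥(pre S) => ((x : ↥(cE z)) : G)) he)

theorem inE_card_line {v : cV z} (hv : v ≠ 0) : Nat.card ↥(AddSubgroup.zmultiples v) = 2 := by
  rw [Nat.card_zmultiples]
  exact addOrderOf_eq_prime (hp := ⟨Nat.prime_two⟩) (by rw [two_nsmul, cV_two D.hJ]) hv

theorem inE_mem_line {v x : cV z} : x ∈ AddSubgroup.zmultiples v ↔ x = 0 ∨ x = v := by
  constructor
  · rintro ⟨n, rfl⟩
    show n • v = 0 ∨ n • v = v
    rcases Int.even_or_odd' n with ⟨k, rfl | rfl⟩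
    · left; rw [mul_comm, mul_zsmul, two_zsmul, cV_two D.hJ, smul_zero]
    · right; rw [add_zsmul, one_zsmul, mul_comm, mul_zsmul, two_zsmul, cV_two D.hJ, smul_zero, zero_add]
  · rintro (rfl | rfl)
    exacts [zero_mem _, AddSubgroup.mem_zmultiples _]

theorem inE_mem_vperp {v x : cV z} :
    x ∈ perpOf D.toJMod.β (AddSubgroup.zmultiples v) ↔ D.toJMod.β x v = 0 := by
  refine ⟨fun h => h v (AddSubgroup.mem_zmultiples v), fun h s hs => ?_⟩
  rcases (inE_mem_line D).1 hs with rfl | rfl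
  exacts [map_zero _, h]

theorem inE_exists_noncomm {v : cV z} (hv : v ≠ 0) : ∃ e f : ↥(cE z), D.toJMod.β (mk e) v = 0 ∧
    D.toJMod.β (mk f) v = 0 ∧ ¬ Commute (e : G) (f : G) := by
  have := D.toJMod.finiteV
  by_contra hno
  push Not at hno
  obtain ⟨S, hS⟩ : ∃ S, S = perpOf D.toJMod.β (AddSubgroup.zmultiples v) := ⟨_, rfl⟩
  have hc : Nat.card ↥S = 2 ^ 11 := hS ▸ D.toJMod.card_perp_of (a := 1) rfl (inE_card_line D hv)
  have hle : S ≤ perpOf D.toJMod.β S := by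
    intro x hx y hy
    obtain ⟨e, rfl⟩ := mk_surjective x
    obtain ⟨f, rfl⟩ := mk_surjective y
    rw [hS] at hx hy
    exact (inE_beta D).2 (hno e f ((inE_mem_vperp D).1 hx) ((inE_mem_vperp D).1 hy))
  have := AddSubgroup.card_le_of_le hle
  rw [hc, D.toJMod.card_perp_of (a := 11) (b := 1) rfl hc] at this
  norm_num at this

theorem inE_center {v : cV z} (hv : v ≠ 0) {x : cV z}
    (h : ∀ y, D.toJMod.β y v = 0 → D.toJMod.β x y = 0) : x = 0 ∨ x = v := by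
  have := D.toJMod.finiteV
  obtain ⟨S, hS⟩ : ∃ S, S = perpOf D.toJMod.β (AddSubgroup.zmultiples v) := ⟨_, rfl⟩
  have hc : Nat.card ↥S = 2 ^ 11 := hS ▸ D.toJMod.card_perp_of (a := 1) rfl (inE_card_line D hv)
  have he : AddSubgroup.zmultiples v = perpOf D.toJMod.β S := by
    refine D.toJMod.eq_of_card (fun y hy s hs => ?_) (by rw [D.toJMod.card_perp_of (a := 11) (b := 1) rfl hc, inE_card_line D hv]; rfl)
    rw [D.toJMod.symm]
    rw [hS] at hs
    exact hs y hy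
  refine (inE_mem_line D).1 (he.ge ?_)
  intro s hs
  rw [hS] at hs
  exact h s ((inE_mem_vperp D).1 hs)

theorem inE_exists_move {v : cV z} (hv : v ≠ 0) {A : AddSubgroup (cV z)} (hA : 4 ≤ Nat.card ↥A) :
    ∃ e : ↥(cE z), D.toJMod.β (mk e) v = 0 ∧ ∃ a ∈ A, D.toJMod.β (mk e) a ≠ 0 := by
  have := D.toJMod.finiteV
  by_contra hno
  push Not at hno
  have hle : perpOf D.toJMod.β (AddSubgroup.zmultiples v) ≤ perpOf D.toJMod.β A := by
    intro y hy a ha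
    obtain ⟨e, rfl⟩ := mk_surjective y
    exact hno e ((inE_mem_vperp D).1 hy) a ha
  have h1 := AddSubgroup.card_le_of_le hle
  rw [D.toJMod.card_perp_of (a := 1) (b := 11) rfl (inE_card_line D hv)] at h1
  have h2 := D.toJMod.perp A
  have := Nat.mul_le_mul hA h1
  omega

end Cfsg.Agent.Lib.J4Fusion14
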