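import Cfsg.Agent.Lib.J4Fusion14.InEBase

/-!
# No conjugate of the central involution lies over the fixed space of the first plane
-/

set_option autoImplicit false
set_option linter.unusedSectionVars false

namespace Cfsg.Agent.Lib.J4Fusion14

open Cfsg Cfsg.Agent.Lib.J4Type19

attribute [local instance] m22_finite

variable {G : Type*} [Group G] [Finite G] {z : G} {P : Subgroup G} (D : HData z P)
include D

theorem inE_sig_mem {g x : G} (h : Commute x (g * z * g⁻¹)) : g⁻¹ * x * g ∈ cH z := by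
  have h2 : g⁻¹ * x * (g⁻¹)⁻¹ ∈ cH z := conj_mem_cH.2 (by rwa [inv_inv])
  rwa [inv_inv] at h2

theorem inE_mk_ne {g : G} (hu : g * z * g⁻¹ ∈ cE z) (hne : g * z * g⁻¹ ≠ z) :
    mk (⟨g * z * g⁻¹, hu⟩ : ↥(cE z)) ≠ 0 := by
  intro h
  rcases (mk_eq_zero D.hJ).1 h with h | h
  · exact z_ne D.hJ (conj_eq_one_iff.1 h)
  · exact hne h

theorem inE_inv_mem (hI : ∀ g : G, D.Inner14 (g * z * g⁻¹) → g * z * g⁻¹ ∈ cE z) {g : G}
    (hu : g * z * g⁻¹ ∈ cE z) (hne : g * z * g⁻¹ ≠ z) : g⁻¹ * z * g ∈ cE z ∧ g⁻¹ * z * g ≠ z := by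
  constructor
  · obtain ⟨e, f, he, hf, hef⟩ := inE_exists_noncomm D (inE_mk_ne D hu hne)
    have hee := inE_sig_mem D ((inE_beta D).1 he)
    have hff := inE_sig_mem D ((inE_beta D).1 hf)
    have hz : (e : G) * f * (e : G)⁻¹ * (f : G)⁻¹ = z := by
      rcases comm_or D.hJ e f with h | h
      · exact absurd (mul_inv_eq_iff_eq_mul.1 (mul_inv_eq_one.1 h)) hef
      · exact h
    have hin : D.Inner14 (g⁻¹ * z * g) := by
      have := inner14_commutator D hee hff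
      rwa [show g⁻¹ * (e : G) * g * (g⁻¹ * f * g) * (g⁻¹ * e * g)⁻¹ * (g⁻¹ * f * g)⁻¹
        = g⁻¹ * ((e : G) * f * (e : G)⁻¹ * (f : G)⁻¹) * g by group, hz] at this
    have := hI g⁻¹
    rw [inv_inv] at this
    exact this hin
  · intro h
    apply hne
    calc g * z * g⁻¹ = g * (g⁻¹ * z * g) * g⁻¹ := by rw [h]
      _ = z := by group

theorem inE_plane_core {F : MFacts M22t} (L : Lifts D.toJMod F)
    (hI : ∀ g : G, D.Inner14 (g * z * g⁻¹) → g * z * g⁻¹ ∈ cE z) {g : G} (hu : g * z * g⁻¹ ∈ cE z)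
    (hne : g * z * g⁻¹ ≠ z) (hfix : mk (⟨g * z * g⁻¹, hu⟩ : ↥(cE z)) ∈ D.toJMod.fix F.U0) : False := by
  classical
  have := D.toJMod.finiteV
  obtain ⟨hu', hne'⟩ := inE_inv_mem D hI hu hne
  obtain ⟨Φ, hΦ⟩ : ∃ Φ, Φ = D.toJMod.fix F.U0 := ⟨_, rfl⟩
  rw [← hΦ] at hfix
  have hΦc : Nat.card ↥Φ = 2 ^ 6 := hΦ ▸ (D.toJMod.fix_U0 L).1
  obtain ⟨v, hv⟩ : ∃ v, v = mk (⟨g * z * g⁻¹, hu⟩ : ↥(cE z)) := ⟨_, rfl⟩
  rw [← hv] at hfix
  have hv0 : v ≠ 0 := hv ▸ inE_mk_ne D hu hne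
  obtain ⟨B, hB, hBsq, hBc, hBs⟩ := D.exists_span14 L
  have hXB : ∀ x : ↥(cE z), mk x ∈ Φ → (x : G) ∈ B := fun x hx =>
    hBs _ ⟨x, hΦ ▸ hx, 1, by rw [map_one]; exact one_mem _, one_pow 4, by simp⟩
  have hsB : B.map (MulAut.conj g⁻¹).toMonoidHom ≤ cH z := by
    rintro _ ⟨b, hb, rfl⟩
    have := inE_sig_mem D (show Commute b (g * z * g⁻¹) from
      comm_of_sq_all hBsq hb (hXB ⟨_, hu⟩ (hv ▸ hfix)))
    simpa using this
  have hconj : ∀ x : ↥(cE z), mk x ∈ Φ → (∃ k : G, (x : G) = k * z * k⁻¹) → g⁻¹ * (x : G) * g ∈ cE z := by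
    rintro x hx ⟨k, hk⟩
    have hin : D.Inner14 (g⁻¹ * (x : G) * g) := by
      refine D.elem_inner14 L hsB ?_ ?_ ⟨(x : G), hXB x hx, by simp⟩
      · rintro _ ⟨b, hb, rfl⟩
        rw [← map_mul, hBsq b hb, map_one]
      · rw [← Nat.card_congr (Subgroup.equivMapOfInjective B _ (MulAut.conj g⁻¹).injective).toEquiv, hBc]
    have e : g⁻¹ * (x : G) * g = (g⁻¹ * k) * z * (g⁻¹ * k)⁻¹ := by rw [hk]; group
    rw [e] at hin ⊢
    exact hI _ hin
  let J0 : AddSubgroup (cV z) :=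
    { carrier := {w | ∃ x : ↥(cE z), mk x = w ∧ g⁻¹ * (x : G) * g ∈ cE z}
      zero_mem' := ⟨1, mk_one, by simp⟩
      add_mem' := by
        rintro _ _ ⟨x, rfl, hx⟩ ⟨y, rfl, hy⟩
        refine ⟨x * y, mk_mul x y, ?_⟩
        rw [Subgroup.coe_mul, show g⁻¹ * ((x : G) * y) * g = (g⁻¹ * x * g) * (g⁻¹ * y * g) by group]
        exact mul_mem hx hy
      neg_mem' := by
        rintro _ ⟨x, rfl, hx⟩
        exact ⟨x, (D.toJMod.neg_eq _).symm, hx⟩ }
  obtain ⟨T, hT⟩ : ∃ T, T = AddSubgroup.closure {w : cV z | ∃ x : ↥(cE z), mk x = w ∧ mk x ∈ Φ ∧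
      ∃ k : G, (x : G) = k * z * k⁻¹} := ⟨_, rfl⟩
  have hTΦ : T ≤ Φ := hT ▸ (AddSubgroup.closure_le _).2 (by rintro _ ⟨x, rfl, hx, -⟩; exact hx)
  have hTJ : T ≤ J0 := hT ▸ (AddSubgroup.closure_le _).2 (by
    rintro _ ⟨x, rfl, hx, hk⟩; exact ⟨x, rfl, hconj x hx hk⟩)
  have hinvT : ∀ c : ↥(cC z P), (∀ w ∈ Φ, c • w ∈ Φ) → ∀ w ∈ T, c • w ∈ T := by
    intro c hc w hw
    rw [hT] at hw ⊢
    induction hw using AddSubgroup.closure_induction with
    | mem y hy =>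
      obtain ⟨x, rfl, hx, k, hk⟩ := hy
      refine AddSubgroup.subset_closure ⟨cEAut (c : G) c.2.1 x, (smul_mk c x).symm, ?_, (c : G) * k, ?_⟩
      · rw [← smul_mk]; exact hc _ hx
      · show (c : G) * (x : G) * (c : G)⁻¹ = _
        rw [hk]; group
    | zero => rw [smul_zero]; exact zero_mem _
    | add p q _ _ hp hq => rw [smul_add]; exact add_mem hp hq
    | neg p _ hp => rw [smul_neg]; exact neg_mem hp
  have hTne : T ≠ ⊥ := fun h => hv0 (AddSubgroup.mem_bot.1 (h ▸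
    (hT ▸ AddSubgroup.subset_closure ⟨⟨g * z * g⁻¹, hu⟩, hv.symm, hv ▸ hfix, g, rfl⟩ : v ∈ T)))
  obtain ⟨e, he1, he⟩ := D.toJMod.card_six L
    (hinvT _ fun w hw => hΦ ▸ D.toJMod.ω_mem_fix (hΦ ▸ hw))
    (hinvT _ fun w hw => hΦ ▸ D.toJMod.fix_invariant (fun x hx => by rw [L.πa]; exact F.na x hx) (hΦ ▸ hw))
    (hinvT _ fun w hw => hΦ ▸ D.toJMod.fix_invariant (fun x hx => by
      rw [map_mul, map_mul, map_inv, L.πa, L.πy]; exact F.nb x hx) (hΦ ▸ hw)) hTne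
  have hTeq : T = Φ := D.toJMod.eq_of_card hTΦ (by
    rw [he, hΦc]; exact Nat.pow_le_pow_right (by norm_num) (by omega))
  have hsig : ∀ x : ↥(cE z), mk x ∈ Φ → g⁻¹ * (x : G) * g ∈ cE z := by
    intro x hx
    obtain ⟨x', hx', hx'E⟩ := hTJ (hTeq.ge hx)
    rcases (mk_eq D.hJ).1 hx' with h | h
    · rw [h]; exact hx'E
    · rw [h, show g⁻¹ * ((x' : G) * z) * g = (g⁻¹ * x' * g) * (g⁻¹ * z * g) by group]
      exact mul_mem hx'E hu'
  let A : AddSubgroup (cV z) :=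
    { carrier := {w | ∃ x y : ↥(cE z), mk x ∈ Φ ∧ (y : G) = g⁻¹ * x * g ∧ mk y = w}
      zero_mem' := ⟨1, 1, by rw [mk_one]; exact zero_mem _, by simp, mk_one⟩
      add_mem' := by
        rintro _ _ ⟨x, y, hx, hy, rfl⟩ ⟨x', y', hx', hy', rfl⟩
        refine ⟨x * x', y * y', by rw [mk_mul]; exact add_mem hx hx', ?_, mk_mul y y'⟩
        rw [Subgroup.coe_mul, Subgroup.coe_mul, hy, hy']; group
      neg_mem' := by
        rintro _ ⟨x, y, hx, hy, rfl⟩
        exact ⟨x, y, hx, hy, (D.toJMod.neg_eq _).symm⟩ }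
  have hA : 4 ≤ Nat.card ↥A := by
    have hle : ((pre Φ).map (cE z).subtype).map (MulAut.conj g⁻¹).toMonoidHom ≤ cE z := by
      rintro _ ⟨_, ⟨x, hx, rfl⟩, rfl⟩
      simpa using hsig x hx
    have h1 := inE_card_le D hle (S := A) fun a ha => by
      obtain ⟨_, ⟨x, hx, rfl⟩, hxa⟩ := ha
      exact ⟨x, a, hx, by rw [← hxa]; simp, rfl⟩
    rw [← Nat.card_congr (Subgroup.equivMapOfInjective _ _ (MulAut.conj g⁻¹).injective).toEquiv,
      ← Nat.card_congr (Subgroup.equivMapOfInjective _ _ (cE z).subtype_injective).toEquiv, card_pre D.hJ,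
      hΦc] at h1
    omega
  have hl0 : mk (⟨g⁻¹ * z * g, hu'⟩ : ↥(cE z)) ≠ 0 := by
    intro h
    rcases (mk_eq_zero D.hJ).1 h with h | h
    · apply z_ne D.hJ
      calc z = g * (g⁻¹ * z * g) * g⁻¹ := by group
        _ = 1 := by rw [show g⁻¹ * z * g = 1 from h]; group
    · exact hne' h
  obtain ⟨e', he', a, ⟨x₁, y₁, hx₁, hy₁, rfl⟩, ha⟩ := inE_exists_move D hl0 hA
  have he'c : Commute (e' : G) (g⁻¹ * z * g) := (inE_beta D).1 he'
  obtain ⟨d, hd⟩ : ∃ d : ↥(cH z), (d : G) = g * e' * g⁻¹ := ⟨⟨_, conj_mem_cH.2 he'c⟩, rfl⟩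
  have hmove : ∀ w ∈ Φ, act d w = w ∨ act d w = w + v := by
    intro w hw
    obtain ⟨x, rfl⟩ := mk_surjective w
    have hy := hsig x hw
    rw [act_mk]
    rcases comm_or D.hJ e' ⟨_, hy⟩ with h | h
    · left; congr 1; apply Subtype.ext
      show (d : G) * x * (d : G)⁻¹ = x
      rw [hd, show g * (e' : G) * g⁻¹ * x * (g * e' * g⁻¹)⁻¹ = g * ((e' : G) * (g⁻¹ * x * g) * (e' : G)⁻¹ *
        (g⁻¹ * x * g)⁻¹) * g⁻¹ * x by group, h]
      group
    · right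
      rw [hv, add_comm, ← mk_mul]; congr 1; apply Subtype.ext
      show (d : G) * x * (d : G)⁻¹ = g * z * g⁻¹ * x
      rw [hd, show g * (e' : G) * g⁻¹ * x * (g * e' * g⁻¹)⁻¹ = g * ((e' : G) * (g⁻¹ * x * g) * (e' : G)⁻¹ *
        (g⁻¹ * x * g)⁻¹) * g⁻¹ * x by group, h]
  have hone : act d (mk x₁) ≠ mk x₁ := by
    intro h
    rw [act_mk, mk_eq D.hJ] at h
    apply ha
    rw [inE_beta D]
    have h' : (x₁ : G) = (d : G) * x₁ * (d : G)⁻¹ ∨ (x₁ : G) = (d : G) * x₁ * (d : G)⁻¹ * z := h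
    rcases h' with h' | h'
    · show (e' : G) * y₁ = y₁ * e'
      rw [hy₁]
      have hc : Commute (d : G) (x₁ : G) := (mul_inv_eq_iff_eq_mul.1 h'.symm)
      have h3 := (hc.map (MulAut.conj g⁻¹).toMonoidHom).eq
      simpa [hd, mul_assoc] using h3
    · exfalso
      have hy := hsig x₁ hx₁
      rcases comm_or D.hJ e' ⟨_, hy⟩ with h | h
      · apply z_ne D.hJ
        rw [hd, show g * (e' : G) * g⁻¹ * x₁ * (g * e' * g⁻¹)⁻¹ = g * ((e' : G) * (g⁻¹ * x₁ * g) * (e' : G)⁻¹ *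
          (g⁻¹ * x₁ * g)⁻¹) * g⁻¹ * x₁ by group, h] at h'
        rw [mul_one, mul_inv_cancel, one_mul] at h'
        exact mul_eq_left.1 h'.symm
      · apply hne
        rw [hd, show g * (e' : G) * g⁻¹ * x₁ * (g * e' * g⁻¹)⁻¹ = g * ((e' : G) * (g⁻¹ * x₁ * g) * (e' : G)⁻¹ *
          (g⁻¹ * x₁ * g)⁻¹) * g⁻¹ * x₁ by group, h] at h'
        have hzx : (x₁ : G) * z = z * x₁ := (comm_z_of_cE x₁.2).eq
        rw [mul_assoc (g * z * g⁻¹), hzx, ← mul_assoc, right_eq_mul] at h'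
        rw [mul_eq_one_iff_eq_inv.1 h', inv_eq_of_mul_eq_one_right (z_sq D.hJ)]
  have hωv : D.toJMod.ω • v ≠ 0 := fun h => hv0 (by
    have := congrArg (fun w => D.toJMod.ω • D.toJMod.ω • w) h
    simpa [D.toJMod.ω3_smul] using this)
  have hωΦ : ∀ w ∈ Φ, D.toJMod.ω • w ∈ Φ := fun w hw => hΦ ▸ D.toJMod.ω_mem_fix (hΦ ▸ hw)
  by_cases hin : D.Inner14 (d : G)
  · have h1 := (hmove _ hx₁).resolve_left hone
    have h2 := inE_act_ω_inner D hin (mk x₁)
    rw [h1, smul_add] at h2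
    rcases hmove _ (hωΦ _ hx₁) with h | h
    · rw [h, left_eq_add] at h2; exact hωv h2
    · rw [h, add_right_inj] at h2; exact hv0 (D.toJMod.ωfix v h2.symm)
  · have hω2 : ∀ w : cV z, D.toJMod.ω • D.toJMod.ω • w = w + D.toJMod.ω • w := by
      intro w
      have h3 := D.toJMod.ω_sum w
      rw [add_comm, add_eq_zero_iff_eq_neg, D.toJMod.neg_eq] at h3
      exact h3
    have hsub : ∀ w ∈ Φ, w ∈ ({0, v, D.toJMod.ω • v, D.toJMod.ω • D.toJMod.ω • v} : Finset (cV z)) := by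
      intro w hw
      simp only [Finset.mem_insert, Finset.mem_singleton]
      have h2 := inE_act_ω_outer D hin w
      rcases hmove w hw with h | h <;> rcases hmove _ (hωΦ w hw) with h' | h' <;> rw [h, h'] at h2
      · left
        rw [hω2, right_eq_add] at h2; exact h2
      · right; left
        rw [hω2, add_comm w, add_right_inj] at h2; exact h2.symm
      · right; right; right
        rw [smul_add, smul_add, hω2 w, add_comm w, add_assoc, left_eq_add, add_eq_zero_iff_eq_neg,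
          D.toJMod.neg_eq] at h2
        exact h2
      · right; right; left
        rw [smul_add, smul_add, hω2 w, add_comm w, add_assoc, add_right_inj] at h2
        have h3 : w = v + D.toJMod.ω • D.toJMod.ω • v := by
          calc w = (w + D.toJMod.ω • D.toJMod.ω • v) + D.toJMod.ω • D.toJMod.ω • v := by
                rw [add_assoc, D.toJMod.two, add_zero]
            _ = v + D.toJMod.ω • D.toJMod.ω • v := by rw [← h2]
        rw [h3, hω2, ← add_assoc, D.toJMod.two, zero_add]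
    have hc : Nat.card ↥Φ ≤ 4 := by
      refine le_trans ?_ (Finset.card_le_four (a := 0) (b := v) (c := D.toJMod.ω • v)
        (d := D.toJMod.ω • D.toJMod.ω • v))
      rw [← Nat.card_eq_finsetCard]
      exact Nat.card_le_card_of_injective (fun w : ↥Φ => ⟨(w : cV z), hsub _ w.2⟩)
        fun a b h => Subtype.ext (congrArg Subtype.val h :)
    omega

/-- No vector of a conjugate of `z` is mapped into the fixed space of `U0`. -/
theorem inE_plane {F : MFacts M22t} (L : Lifts D.toJMod F)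
    (hI : ∀ g : G, D.Inner14 (g * z * g⁻¹) → g * z * g⁻¹ ∈ cE z) {g : G} (hu : g * z * g⁻¹ ∈ cE z)
    (hne : g * z * g⁻¹ ≠ z) (h : ↥(cH z)) :
    act h (mk (⟨g * z * g⁻¹, hu⟩ : ↥(cE z))) ∉ D.toJMod.fix F.U0 := by
  intro hfix
  have e : (h : G) * g * z * ((h : G) * g)⁻¹ = (h : G) * (g * z * g⁻¹) * (h : G)⁻¹ := by group
  have hu2 : (h : G) * g * z * ((h : G) * g)⁻¹ ∈ cE z := e ▸ cE_conj h.2 hu
  refine inE_plane_core D L hI hu2 (fun h2 => hne ?_) ?_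
  · rw [e] at h2
    calc g * z * g⁻¹ = (h : G)⁻¹ * ((h : G) * (g * z * g⁻¹) * (h : G)⁻¹) * h := by group
      _ = z := by rw [h2, mul_assoc, ← (comm_z_of_cH h.2).eq, inv_mul_cancel_left]
  · rw [act_mk] at hfix
    convert hfix using 2
    exact Subtype.ext e

end Cfsg.Agent.Lib.J4Fusion14
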