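import Cfsg.Agent.Lib.J4Fusion14.Defs

/-!
# Basic facts on pairs `z, g z g⁻¹` and on elements of `E * P`
-/

set_option autoImplicit false
set_option linter.unusedSectionVars false

namespace Cfsg.Agent.Lib.J4Fusion14

open Cfsg Cfsg.Agent.Lib.J4Type19

variable {G : Type*} [Group G] [Finite G] {z : G} {P : Subgroup G}

/-- Conjugation moves the pair `(g⁻¹ z g, z)` to the pair `(z, g z g⁻¹)`. -/
theorem conj_mem_cH {g d : G} : g * d * g⁻¹ ∈ cH z ↔ Commute d (g⁻¹ * z * g) := by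
  constructor
  · intro h
    have h' : Commute (g * d * g⁻¹) z := Subgroup.mem_centralizer_singleton_iff.1 h
    have := h'.map (MulAut.conj g⁻¹).toMonoidHom
    simpa [mul_assoc] using this
  · intro h
    refine Subgroup.mem_centralizer_singleton_iff.2 ?_
    have := h.map (MulAut.conj g).toMonoidHom
    simp [mul_assoc] at this
    simpa [mul_assoc] using this.eq

theorem inv_conj_mem_cH {g : G} (h : g * z * g⁻¹ ∈ cH z) : g⁻¹ * z * g ∈ cH z :=
  Subgroup.mem_centralizer_singleton_iff.2 (conj_mem_cH.1 h).eq.symm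

theorem comm_z_of_cH {h : G} (hh : h ∈ cH z) : Commute h z := Subgroup.mem_centralizer_singleton_iff.1 hh

theorem comm_z_of_cE {h : G} (hh : h ∈ cE z) : Commute h z := comm_z_of_cH (cE_le z hh)

theorem inner14_or (D : HData z P) {h : G} (hh : h ∈ cH z) :
    D.Inner14 h ∨ ∃ e ∈ cE z, ∃ c ∈ cC z P, h = e * ((D.t : G) * c) := by
  obtain ⟨e, he, c, hc, h1 | h1⟩ := D.decomp ⟨h, hh⟩
  · exact Or.inl ⟨e, he, c, hc, h1⟩
  · exact Or.inr ⟨e, he, c, hc, h1⟩

theorem inner14_mul_not (D : HData z P) {g h : G} (hg : g ∈ cH z) (hh : h ∈ cH z) (hgn : ¬ D.Inner14 g)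
    (hhn : ¬ D.Inner14 h) : D.Inner14 (g * h) := by
  obtain ⟨e, he, c, hc, rfl⟩ := (inner14_or D hg).resolve_left hgn
  obtain ⟨e', he', c', hc', rfl⟩ := (inner14_or D hh).resolve_left hhn
  have htc : (D.t : G) * c ∈ cH z := mul_mem D.t.2 hc.1
  have hk : (D.t : G) * c * D.t ∈ cC z P := by
    refine ⟨mul_mem htc D.t.2, Subgroup.mem_centralizer_iff.2 fun x hx => ?_⟩
    have hp : D.p * ((D.t : G) * c * D.t) = (D.t : G) * c * D.t * D.p := by
      have e1 : (D.t : G) * D.p = D.p⁻¹ * D.t := by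
        have := D.tp
        rw [mul_inv_eq_iff_eq_mul] at this
        exact this
      have e2 : D.p * (D.t : G) = D.t * D.p⁻¹ := by
        calc D.p * (D.t : G) = D.p * ((D.t : G) * D.p) * D.p⁻¹ := by group
          _ = D.t * D.p⁻¹ := by rw [e1]; group
      have e3 : D.p⁻¹ * c = c * D.p⁻¹ := (show Commute D.p c from D.comm_p ⟨c, hc⟩).inv_left.eq
      calc D.p * ((D.t : G) * c * D.t) = D.p * (D.t : G) * c * D.t := by group
        _ = (D.t : G) * (D.p⁻¹ * c) * D.t := by rw [e2]; group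
        _ = (D.t : G) * c * (D.p⁻¹ * D.t) := by rw [e3]; group
        _ = (D.t : G) * c * D.t * D.p := by rw [← e1]; group
    rcases (D.mem_P x).1 hx with rfl | rfl | rfl
    · simp
    · exact hp
    · rw [mul_assoc, hp, ← mul_assoc, hp, mul_assoc]
  have h2 := D.inner14_mul (D.inner14_cC hk) (D.inner14_cC hc')
  have h1 := D.inner14_mul (D.inner14_cE he) (D.inner14_cE (cE_conj htc he'))
  have := D.inner14_mul h1 h2
  rwa [show e * ((D.t : G) * c) * (e' * ((D.t : G) * c')) =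
    e * ((D.t : G) * c * e' * ((D.t : G) * c)⁻¹) * ((D.t : G) * c * D.t * c') by group]

theorem inner14_commutator (D : HData z P) {a b : G} (ha : a ∈ cH z) (hb : b ∈ cH z) :
    D.Inner14 (a * b * a⁻¹ * b⁻¹) := by
  by_cases h1 : D.Inner14 a <;> by_cases h2 : D.Inner14 b
  · exact D.inner14_mul (D.inner14_mul (D.inner14_mul h1 h2) (D.inner14_inv h1)) (D.inner14_inv h2)
  · have hb' : ¬ D.Inner14 b⁻¹ := fun h => h2 (inv_inv b ▸ D.inner14_inv h)
    have hab : ¬ D.Inner14 (a * b) := fun h => h2 (by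
      have := D.inner14_mul (D.inner14_inv h1) h
      rwa [inv_mul_cancel_left] at this)
    have habc : ¬ D.Inner14 (a * b * a⁻¹) := fun h => hab (by
      have := D.inner14_mul h h1
      rwa [inv_mul_cancel_right] at this)
    exact inner14_mul_not D (mul_mem (mul_mem ha hb) (inv_mem ha)) (inv_mem hb) habc hb'
  · have ha' : ¬ D.Inner14 a⁻¹ := fun h => h1 (inv_inv a ▸ D.inner14_inv h)
    have hab : ¬ D.Inner14 (a * b) := fun h => h1 (by
      have := D.inner14_mul h (D.inner14_inv h2)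
      rwa [mul_inv_cancel_right] at this)
    exact D.inner14_mul (inner14_mul_not D (mul_mem ha hb) (inv_mem ha) hab ha') (D.inner14_inv h2)
  · have ha' : ¬ D.Inner14 a⁻¹ := fun h => h1 (inv_inv a ▸ D.inner14_inv h)
    have hb' : ¬ D.Inner14 b⁻¹ := fun h => h2 (inv_inv b ▸ D.inner14_inv h)
    have := D.inner14_mul (inner14_mul_not D ha hb h1 h2) (inner14_mul_not D (inv_mem ha) (inv_mem hb) ha' hb')
    rwa [← mul_assoc] at this

/-- An element of order three of `E * P` is conjugate into `P`. -/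
theorem conj_core (D : HData z P) {e q : G} (he : e ∈ cE z) (hq : q ∈ P) (h3 : (e * q) ^ 3 = 1)
    (h1 : e * q ≠ 1) : ∃ k ∈ cE z, k * (e * q) * k⁻¹ = q := by
  classical
  have hq1 : q ≠ 1 := by
    rintro rfl
    rw [mul_one] at h1 h3
    have a1 : orderOf e ∣ 2 ^ 13 := cardE D.hJ ▸ Subgroup.orderOf_dvd_natCard _ he
    have a2 : orderOf e ∣ 3 := orderOf_dvd_of_pow_eq_one h3
    have := Nat.dvd_gcd a1 a2
    rw [show Nat.gcd (2 ^ 13) 3 = 1 by norm_num, Nat.dvd_one, orderOf_eq_one_iff] at this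
    exact h1 this
  obtain ⟨j, rfl, hj⟩ : ∃ j : ℕ, q = D.p ^ j ∧ j % 3 ≠ 0 := by
    rcases (D.mem_P q).1 hq with rfl | rfl | rfl
    · exact absurd rfl hq1
    · exact ⟨1, (pow_one _).symm, by norm_num⟩
    · exact ⟨2, (pow_two _).symm, by norm_num⟩
  have hqH : D.p ^ j ∈ cH z := pow_mem D.pH j
  have hfin : Finite (cV z) := D.toJMod.finiteV
  let τ : cV z →+ cV z := DistribSMul.toAddMonoidHom _ ((D.pC ^ j : ↥(cC z P))) + AddMonoidHom.id _
  have hτ : Function.Injective τ := by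
    rw [injective_iff_map_eq_zero]
    intro v hv
    have hv' : (D.pC ^ j : ↥(cC z P)) • v = v := by
      have : (D.pC ^ j : ↥(cC z P)) • v + v = 0 := hv
      rwa [add_eq_zero_iff_eq_neg, D.toJMod.neg_eq] at this
    refine D.toJMod.ωfix v ?_
    show D.toJMod.ω • v = v
    rcases (by omega : j % 3 = 1 ∨ j % 3 = 2) with e | e
    · rw [show (D.pC ^ j : ↥(cC z P)) = D.toJMod.ω ^ j from rfl, D.toJMod.ωpow_congr (m := 1) e, pow_one] at hv'
      exact hv'
    · rw [show (D.pC ^ j : ↥(cC z P)) = D.toJMod.ω ^ j from rfl, D.toJMod.ωpow_congr (m := 2) e] at hv'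
      conv_lhs => rw [← hv']
      rw [pow_two, mul_smul]
      exact D.toJMod.ω3_smul v
  obtain ⟨w, hw⟩ := (Finite.injective_iff_surjective.1 hτ) (mk ⟨e, he⟩)
  obtain ⟨k, rfl⟩ := mk_surjective w
  obtain ⟨d, hd⟩ : ∃ d, d = (k : G) * D.p ^ j * (k : G)⁻¹ * (D.p ^ j)⁻¹ := ⟨_, rfl⟩
  have hdE : d ∈ cE z := by
    rw [hd, show (k : G) * D.p ^ j * (k : G)⁻¹ * (D.p ^ j)⁻¹ = (k : G) * (D.p ^ j * (k : G)⁻¹ * (D.p ^ j)⁻¹) by
      group]
    exact mul_mem k.2 (cE_conj hqH (inv_mem k.2))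
  have hmk : mk ⟨d, hdE⟩ = mk ⟨e, he⟩ := by
    rw [← hw]
    show _ = (D.pC ^ j : ↥(cC z P)) • mk k + mk k
    rw [smul_mk, ← mk_mul]
    have h2 : ∀ f : ↥(cE z), mk f⁻¹ = mk f := fun f => by
      have : mk f⁻¹ + mk f = 0 := by rw [← mk_mul, inv_mul_cancel, mk_one]
      rw [eq_neg_of_add_eq_zero_left this, D.toJMod.neg_eq]
    have hsplit : (⟨d, hdE⟩ : ↥(cE z)) = k * cEAut (D.p ^ j) hqH k⁻¹ := Subtype.ext (by
      show d = (k : G) * (D.p ^ j * (k : G)⁻¹ * (D.p ^ j)⁻¹)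
      rw [hd]; group)
    rw [hsplit, mk_mul, mk_mul, add_comm]
    congr 1
    exact D.mk_map hqH (h2 k)
  have hk3 : (d * D.p ^ j) ^ 3 = 1 := by
    rw [hd, inv_mul_cancel_right, conj_pow, ← pow_mul, mul_comm, pow_mul, D.p3, one_pow, mul_one,
      mul_inv_cancel]
  rcases (mk_eq D.hJ).1 hmk with h | h
  · refine ⟨(k : G)⁻¹, inv_mem k.2, ?_⟩
    rw [show e = d from h, hd]; group
  · exfalso
    have hez : e = d * z := h
    have hc : Commute z (d * D.p ^ j) := ((comm_z_of_cE hdE).symm).mul_right (comm_z_of_cH hqH).symm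
    have e3 : (z * (d * D.p ^ j)) ^ 3 = z := by
      rw [hc.mul_pow, hk3, mul_one, pow_succ, pow_two, z_sq D.hJ, one_mul]
    have e4 : e * D.p ^ j = z * (d * D.p ^ j) := by
      rw [hez, (comm_z_of_cE hdE).eq, mul_assoc]
    rw [e4, e3] at h3
    exact z_ne D.hJ h3

end Cfsg.Agent.Lib.J4Fusion14
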