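import Cfsg.Agent.Lib.J4Fusion14.Frame
import Cfsg.Agent.Lib.J4Fusion14.Pair
import Cfsg.Agent.Lib.J4Fusion14.Span

/-!
# Conjugates of `z` in `E * C`

If no conjugate of `z` other than `z` lies in `C = C_H(P)`, then those in `E * C` lie in `E`.
-/

set_option autoImplicit false
set_option linter.unusedSectionVars false
set_option maxHeartbeats 1000000

namespace Cfsg.Agent.Lib.J4Fusion14

open Cfsg Cfsg.Agent.Lib.J4Type19

attribute [local instance] m22_finite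

variable {G : Type*} [Group G] [Finite G] {z : G} {P : Subgroup G} {D : HData z P}

/-- An element of `C` fixing a vector centralizes its preimages. -/
theorem comm_of_smul_eq (D : HData z P) (c : ↥(cC z P)) (e : ↥(cE z)) (h : c • mk e = mk e) :
    Commute (c : G) (e : G) := by
  rcases (mk_eq D.hJ).1 h.symm with h1 | h1
  · exact mul_inv_eq_iff_eq_mul.1 (h1 : (c : G) * e * (c : G)⁻¹ = e)
  · exfalso
    have hc : MulAut.conj (c : G) (e : G) = e * z := h1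
    have hcp : Commute (c : G) D.p := (show Commute D.p (c : G) from D.comm_p c).symm
    have hcz : MulAut.conj (c : G) z = z := by
      rw [MulAut.conj_apply, ← D.comm_z c, mul_inv_cancel_right]
    have hpz : MulAut.conj D.p z = z := by
      rw [MulAut.conj_apply, ← (show Commute z D.p from D.comm_z D.pC).eq, mul_inv_cancel_right]
    have hsw : ∀ y, MulAut.conj (c : G) (MulAut.conj D.p y) = MulAut.conj D.p (MulAut.conj (c : G) y) := fun y => by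
      rw [← MulAut.mul_apply, ← map_mul, hcp.eq, map_mul, MulAut.mul_apply]
    obtain ⟨a, ha⟩ : ∃ a, a = cEAut D.p D.pH e := ⟨_, rfl⟩
    obtain ⟨b, hb⟩ : ∃ b, b = cEAut D.p D.pH a := ⟨_, rfl⟩
    have hca : MulAut.conj (c : G) (a : G) = a * z := by
      show MulAut.conj (c : G) ((a : ↥(cE z)) : G) = _
      rw [show ((a : ↥(cE z)) : G) = MulAut.conj D.p (e : G) by rw [ha]; rfl, hsw, hc, map_mul, hpz]
    have hcb : MulAut.conj (c : G) (b : G) = b * z := by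
      rw [show ((b : ↥(cE z)) : G) = MulAut.conj D.p (a : G) by rw [hb]; rfl, hsw, hca, map_mul, hpz]
    have hsum : mk (e * a * b) = 0 := by
      rw [mk_mul, mk_mul, hb, ha, ← D.smul_p_mk, ← D.smul_p_mk]
      exact D.toJMod.ω_sum _
    have hfix : MulAut.conj (c : G) ((e * a * b : ↥(cE z)) : G) = ((e * a * b : ↥(cE z)) : G) := by
      rcases (mk_eq_zero D.hJ).1 hsum with h2 | h2 <;> rw [h2]
      · exact map_one _
      · exact hcz
    have hez : ∀ u : ↥(cE z), z * (u : G) = u * z := fun u => (comm_z_of_cE u.2).eq.symm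
    apply z_ne D.hJ
    have e1 : MulAut.conj (c : G) ((e * a * b : ↥(cE z)) : G) = (e : G) * a * b * z := by
      rw [Subgroup.coe_mul, Subgroup.coe_mul, map_mul, map_mul, hc, hca, hcb]
      calc (e : G) * z * (a * z) * (b * z) = e * (z * a) * (z * b) * z := by group
        _ = e * (a * z) * (b * z) * z := by rw [hez, hez]
        _ = e * a * (z * b) * z * z := by group
        _ = e * a * (b * z) * z * z := by rw [hez]
        _ = e * a * b * z * (z * z) := by group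
        _ = e * a * b * z := by rw [z_sq D.hJ, mul_one]
    rw [hfix, Subgroup.coe_mul, Subgroup.coe_mul, left_eq_mul] at e1
    exact e1

theorem comm_of_conj_inv (D : HData z P) (c : ↥(cC z P)) (hc : c * c = 1) {e : G} (he : e ∈ cE z)
    (h : (e * (c : G)) * (e * (c : G)) = 1) : Commute (c : G) e ∧ e * e = 1 := by
  have hc' : (c : G) * c = 1 := congrArg Subtype.val hc
  have hci : (c : G)⁻¹ = c := inv_eq_of_mul_eq_one_right hc'
  have h1 : (c : G) * e * (c : G)⁻¹ = e⁻¹ := by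
    rw [hci]
    refine eq_inv_of_mul_eq_one_right ?_
    rw [← h]; group
  have hm : c • mk ⟨e, he⟩ = mk ⟨e, he⟩ := by
    rw [smul_mk, mk_eq D.hJ]
    show e = (c : G) * e * (c : G)⁻¹ ∨ e = (c : G) * e * (c : G)⁻¹ * z
    rw [h1]
    rcases sq_or D.hJ ⟨e, he⟩ with h2 | h2
    · exact Or.inl (inv_eq_of_mul_eq_one_right h2).symm
    · refine Or.inr ?_
      rw [eq_inv_mul_iff_mul_eq]; exact h2
  have hcomm := comm_of_smul_eq D c ⟨e, he⟩ hm
  refine ⟨hcomm, ?_⟩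
  rw [hcomm.eq, mul_inv_cancel_right, eq_inv_iff_mul_eq_one] at h1
  exact h1

variable (fr : Frame D)

/-- The centralizer of `x` in `E`. -/
abbrev Frame.Fx : Subgroup G := cE z ⊓ Subgroup.centralizer ({(fr.x : G)} : Set G)

theorem Frame.mem_Fx {e : G} : e ∈ fr.Fx ↔ e ∈ cE z ∧ Commute e (fr.x : G) :=
  and_congr Iff.rfl Subgroup.mem_centralizer_singleton_iff

theorem z_comm_x : Commute z (fr.x : G) := (show Commute z (fr.x : G) from D.comm_z fr.x)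

theorem mem_centPair {e a b : G} : e ∈ Subgroup.centralizer ({a, b} : Set G) ↔ Commute e a ∧ Commute e b := by
  rw [Subgroup.mem_centralizer_iff]
  exact ⟨fun h => ⟨(h a (by simp)).symm, (h b (by simp)).symm⟩,
    fun h y hy => by rcases hy with rfl | rfl; exacts [h.1.eq.symm, h.2.eq.symm]⟩

theorem card_cent_noncomm {e : G} (he : e ∈ cE z) (hx : Commute e (fr.x : G)) (h1 : e ≠ 1) (hz' : e ≠ z) :
    Nat.card ↥(cE z ⊓ Subgroup.centralizer ({(fr.x : G), e} : Set G)) = 16 ∧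
    ∃ a ∈ cE z, ∃ b ∈ cE z, Commute a (fr.x : G) ∧ Commute b (fr.x : G) ∧ Commute a e ∧ Commute b e ∧
      ¬ Commute a b := by
  classical
  obtain ⟨D', hD'⟩ : ∃ D', D' = cE z ⊓ Subgroup.centralizer ({(fr.x : G), e} : Set G) := ⟨_, rfl⟩
  have hmem : ∀ {a : G}, a ∈ D' ↔ a ∈ cE z ∧ Commute a (fr.x : G) ∧ Commute a e := fun {a} => by
    rw [hD', Subgroup.mem_inf, mem_centPair]
  obtain ⟨f0, hf0, hf0x, hf0e⟩ : ∃ f ∈ cE z, Commute f (fr.x : G) ∧ ¬ Commute f e := by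
    by_contra hno
    push Not at hno
    rcases fr.nondeg e he hx (fun f hf hfx => (hno f hf hfx).symm) with h | h
    exacts [h1 h, hz' h]
  have hp : ∀ {a b c : G} (ha : a ∈ cE z) (hb : b ∈ cE z) (hc : c ∈ cE z),
      (Commute (a * b) c ↔ (Commute a c ↔ Commute b c)) := by
    intro a b c ha hb hc
    have key := pair_mul D.hJ (⟨a, ha⟩ : ↥(cE z)) ⟨b, hb⟩ ⟨c, hc⟩
    have conv : ∀ {u v : G} (hu : u ∈ cE z) (hv : v ∈ cE z),
        pair (⟨u, hu⟩ : ↥(cE z)) ⟨v, hv⟩ = 0 ↔ Commute u v := fun {u v} hu hv => by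
      rw [pair_eq_zero]
      exact ⟨fun h => h.map (cE z).subtype, fun h => Subtype.ext h⟩
    have dec : ∀ p q : ZMod 2, (p + q = 0 ↔ (p = 0 ↔ q = 0)) := by decide
    rw [← conv (mul_mem ha hb) hc, ← conv ha hc, ← conv hb hc, ← dec, ← key]
    rfl
  have hle : D' ≤ fr.Fx := fun a ha => fr.mem_Fx.2 ⟨(hmem.1 ha).1, (hmem.1 ha).2.1⟩
  have hidx : (D'.subgroupOf fr.Fx).index = 2 := by
    rw [Subgroup.index_eq_two_iff']
    refine ⟨⟨f0, fr.mem_Fx.2 ⟨hf0, hf0x⟩⟩, fun b => ?_⟩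
    obtain ⟨hb, hbx⟩ := fr.mem_Fx.1 b.2
    have hbe := hp hf0 hb he
    rw [Subgroup.mem_subgroupOf, Subgroup.mem_subgroupOf, Subgroup.coe_mul]
    by_cases hbe' : Commute (b : G) e
    · exact Or.inr ⟨hmem.2 ⟨hb, hbx, hbe'⟩, fun h => hf0e ((hbe.1 (hmem.1 h).2.2).2 hbe')⟩
    · exact Or.inl ⟨hmem.2 ⟨mul_mem hf0 hb, hf0x.mul_left hbx, hbe.2 (iff_of_false hf0e hbe')⟩,
        fun h => hbe' (hmem.1 h).2.2⟩
  have hc16 : Nat.card ↥D' = 16 := by
    have := (D'.subgroupOf fr.Fx).card_mul_index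
    rw [hidx, fr.card_x, Nat.card_congr (Subgroup.subgroupOfEquivOfLe hle).toEquiv] at this
    omega
  refine ⟨hD' ▸ hc16, ?_⟩
  by_contra hno
  push Not at hno
  have hab : ∀ a ∈ D', ∀ b ∈ D', Commute a b := fun a ha b hb =>
    hno a (hmem.1 ha).1 b (hmem.1 hb).1 (hmem.1 ha).2.1 (hmem.1 hb).2.1 (hmem.1 ha).2.2 (hmem.1 hb).2.2
  have heD : e ∈ D' := hmem.2 ⟨he, hx, Commute.refl e⟩
  have key : ∀ d ∈ D', Commute d f0 → d = 1 ∨ d = z := by
    intro d hd hdf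
    refine fr.nondeg d (hmem.1 hd).1 (hmem.1 hd).2.1 fun f hf hfx => ?_
    by_cases hfe : Commute f e
    · exact hab d hd f (hmem.2 ⟨hf, hfx, hfe⟩)
    · have hff : f * f0 ∈ D' := hmem.2 ⟨mul_mem hf hf0, hfx.mul_left hf0x, (hp hf hf0 he).2 (iff_of_false hfe hf0e)⟩
      exact (((hp hf hf0 (hmem.1 hd).1).1 (hab d hd _ hff).symm).2 hdf.symm).symm
  have hsub : (D' : Set G) ⊆ {1, z, e⁻¹, z * e⁻¹} := by
    intro d hd
    by_cases hdf : Commute d f0
    · rcases key d hd hdf with h | h <;> simp [h]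
    · have hef : ¬ Commute e f0 := fun h => hf0e h.symm
      rcases key (d * e) (mul_mem hd heD) ((hp (hmem.1 hd).1 he hf0).2 (iff_of_false hdf hef)) with h | h
      · simp [eq_inv_of_mul_eq_one_left h]
      · simp [eq_mul_inv_iff_mul_eq.2 h]
  have h4 : Set.ncard (D' : Set G) ≤ 4 := by
    refine (Set.ncard_le_ncard hsub (Set.toFinite _)).trans ?_
    refine (Set.ncard_insert_le _ _).trans (Nat.succ_le_succ ?_)
    refine (Set.ncard_insert_le _ _).trans (Nat.succ_le_succ ?_)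
    refine (Set.ncard_insert_le _ _).trans (Nat.succ_le_succ ?_)
    rw [Set.ncard_singleton]
  rw [← Nat.card_coe_set_eq] at h4
  have : Nat.card ↥(D' : Set G) = 16 := hc16
  omega

/-- An involution `e * c` centralizing `x`, with `c` fixing only one point there, is conjugate into `C`. -/
theorem conj_into_C {c : ↥(cC z P)} (hcc : c * c = 1) (hcx : Commute (c : G) (fr.x : G))
    (hcard : Nat.card ↥(cE z ⊓ Subgroup.centralizer ({(fr.x : G), (c : G)} : Set G)) = 8)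
    {e : G} (he : e ∈ cE z) (hx : Commute e (fr.x : G)) (hsq : (e * c) * (e * c) = 1) :
    ∃ k ∈ cE z, k * (e * c) * k⁻¹ ∈ cC z P := by
  classical
  obtain ⟨T, hT⟩ : ∃ T, T = cE z ⊓ Subgroup.centralizer ({(fr.x : G), (c : G)} : Set G) := ⟨_, rfl⟩
  rw [← hT] at hcard
  have hmem : ∀ {a : G}, a ∈ T ↔ a ∈ cE z ∧ Commute a (fr.x : G) ∧ Commute a (c : G) := fun {a} => by
    rw [hT, Subgroup.mem_inf, mem_centPair]
  have hc' : (c : G) * c = 1 := congrArg Subtype.val hcc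
  have hci : (c : G)⁻¹ = c := inv_eq_of_mul_eq_one_right hc'
  have heT : e ∈ T := hmem.2 ⟨he, hx, (comm_of_conj_inv D c hcc he hsq).1.symm⟩
  have hle : T ≤ fr.Fx := fun a ha => fr.mem_Fx.2 ⟨(hmem.1 ha).1, (hmem.1 ha).2.1⟩
  let a : ↥fr.Fx → G := fun k => (k : G) * c * (k : G)⁻¹ * c
  have ha : ∀ k, a k ∈ T := fun k => by
    obtain ⟨hk, hkx⟩ := fr.mem_Fx.1 k.2
    have hkE : a k ∈ cE z := by
      show (k : G) * c * (k : G)⁻¹ * c ∈ cE z
      rw [show (k : G) * c * (k : G)⁻¹ * c = (k : G) * ((c : G) * (k : G)⁻¹ * (c : G)⁻¹) by rw [hci]; group]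
      exact mul_mem hk (cE_conj c.2.1 (inv_mem hk))
    refine hmem.2 ⟨hkE, ((hkx.mul_left hcx).mul_left hkx.inv_left).mul_left hcx, ?_⟩
    have : (a k * c) * (a k * c) = 1 := by
      show (k : G) * c * (k : G)⁻¹ * c * c * ((k : G) * c * (k : G)⁻¹ * c * c) = 1
      have hcy : ∀ y : G, (c : G) * ((c : G) * y) = y := fun y => by rw [← mul_assoc, hc', one_mul]
      simp [mul_assoc, hc', hcy]
    exact (comm_of_conj_inv D c hcc hkE this).1.symm
  obtain ⟨T', hT'⟩ : ∃ T', T' = T.subgroupOf fr.Fx := ⟨_, rfl⟩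
  have hsame : ∀ k k' : ↥fr.Fx, a k = a k' → (k : G)⁻¹ * k' ∈ T := by
    intro k k' h
    obtain ⟨hk, hkx⟩ := fr.mem_Fx.1 k.2
    obtain ⟨hk', hkx'⟩ := fr.mem_Fx.1 k'.2
    refine hmem.2 ⟨mul_mem (inv_mem hk) hk', hkx.inv_left.mul_left hkx', ?_⟩
    have h' : (k : G) * c * (k : G)⁻¹ = (k' : G) * c * (k' : G)⁻¹ := mul_right_cancel h
    show (k : G)⁻¹ * k' * c = c * ((k : G)⁻¹ * k')
    calc (k : G)⁻¹ * k' * c = (k : G)⁻¹ * ((k' : G) * c * (k' : G)⁻¹) * k' := by group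
      _ = c * ((k : G)⁻¹ * k') := by rw [← h']; group
  have hne : ∀ k k' : ↥fr.Fx, a k ≠ a k' * z := by
    intro k k' h
    obtain ⟨hk, -⟩ := fr.mem_Fx.1 k.2
    obtain ⟨hk', -⟩ := fr.mem_Fx.1 k'.2
    obtain ⟨d, hd⟩ : ∃ d, d = (k' : G)⁻¹ * k := ⟨_, rfl⟩
    have hdE : d ∈ cE z := hd ▸ mul_mem (inv_mem hk') hk
    have hzc : z * (c : G) = c * z := D.comm_z c
    have h2 : (k : G) * c * (k : G)⁻¹ = (k' : G) * c * (k' : G)⁻¹ * z := by
      apply mul_right_cancel (b := (c : G))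
      calc (k : G) * c * (k : G)⁻¹ * c = (k' : G) * c * (k' : G)⁻¹ * (c * z) := by
            rw [show (k : G) * c * (k : G)⁻¹ * c = (k' : G) * c * (k' : G)⁻¹ * c * z from h]; group
        _ = _ := by rw [← hzc]; group
    have h3 : d * c * d⁻¹ = (c : G) * z := by
      rw [hd]
      calc (k' : G)⁻¹ * k * c * ((k' : G)⁻¹ * k)⁻¹ = (k' : G)⁻¹ * ((k : G) * c * (k : G)⁻¹) * k' := by group
        _ = (c : G) * ((k' : G)⁻¹ * z * k') := by rw [h2]; group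
        _ = _ := by rw [(comm_z_of_cE hk').inv_left.eq, inv_mul_cancel_right]
    have h5 : (c : G) * d * (c : G)⁻¹ = d * z := by
      have e4 : d * c = (c : G) * (z * d) := by
        rw [mul_inv_eq_iff_eq_mul] at h3; rw [h3]; group
      calc (c : G) * d * (c : G)⁻¹ = (c : G) * (d * c) := by rw [hci]; group
        _ = z * d := by rw [e4, ← mul_assoc, hc', one_mul]
        _ = d * z := (comm_z_of_cE hdE).eq.symm
    have hm : c • mk ⟨d, hdE⟩ = mk ⟨d, hdE⟩ := by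
      rw [smul_mk, mk_eq D.hJ]
      refine Or.inr ?_
      show d = (c : G) * d * (c : G)⁻¹ * z
      rw [h5, mul_assoc, z_sq D.hJ, mul_one]
    have := comm_of_smul_eq D c ⟨d, hdE⟩ hm
    rw [show (c : G) * d = d * c from this, mul_inv_cancel_right, left_eq_mul] at h5
    exact z_ne D.hJ h5
  let Φ : (↥fr.Fx ⧸ T') × Fin 2 → ↥T := fun q => ⟨a q.1.out * z ^ (q.2 : ℕ),
    mul_mem (ha _) (pow_mem (hmem.2 ⟨z_mem D.hJ, z_comm_x fr, D.comm_z c⟩) _)⟩
  have hinj : Function.Injective Φ := by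
    rintro ⟨q, i⟩ ⟨q', i'⟩ h
    have h' : a q.out * z ^ (i : ℕ) = a q'.out * z ^ (i' : ℕ) := congrArg Subtype.val h
    fin_cases i <;> fin_cases i' <;> simp at h'
    · have := hsame _ _ h'
      refine Prod.ext ?_ rfl
      rw [← q.out_eq', ← q'.out_eq', QuotientGroup.eq]
      refine hT'.ge (Subgroup.mem_subgroupOf.2 ?_)
      exact this
    · exact absurd h' (hne _ _)
    · exact absurd h'.symm (hne _ _)
    · have := hsame _ _ h'
      refine Prod.ext ?_ rfl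
      rw [← q.out_eq', ← q'.out_eq', QuotientGroup.eq]
      refine hT'.ge (Subgroup.mem_subgroupOf.2 ?_)
      exact this
  have hbij : Function.Bijective Φ := (Nat.bijective_iff_injective_and_card Φ).2 ⟨hinj, by
    have := T'.card_mul_index
    rw [hT', Nat.card_congr (Subgroup.subgroupOfEquivOfLe hle).toEquiv, hcard, fr.card_x, ← hT'] at this
    rw [Nat.card_prod, Nat.card_fin, hcard, ← Subgroup.index_eq_card]
    omega⟩
  obtain ⟨⟨q, i⟩, hqi⟩ := hbij.2 ⟨e, heT⟩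
  have he' : a q.out * z ^ (i : ℕ) = e := congrArg Subtype.val hqi
  refine ⟨(q.out : G)⁻¹, inv_mem (fr.mem_Fx.1 q.out.2).1, ?_⟩
  rw [← he']
  obtain ⟨k, hk⟩ : ∃ k, k = ((q.out : ↥fr.Fx) : G) := ⟨_, rfl⟩
  have hkz : Commute k z := hk ▸ comm_z_of_cE (fr.mem_Fx.1 q.out.2).1
  show ((q.out : ↥fr.Fx) : G)⁻¹ * ((q.out : G) * c * (q.out : G)⁻¹ * c * z ^ (i : ℕ) * c) * ((q.out : G)⁻¹)⁻¹ ∈ _
  rw [← hk, show k * c * k⁻¹ * c * z ^ (i : ℕ) * c = k * c * k⁻¹ * (c * (z ^ (i : ℕ) * c)) by group,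
    ((show Commute z (c : G) from D.comm_z c).pow_left _).eq, ← mul_assoc (c : G), hc', one_mul,
    show k⁻¹ * (k * c * k⁻¹ * z ^ (i : ℕ)) * k⁻¹⁻¹ = (c : G) * (k⁻¹ * z ^ (i : ℕ) * k) by group,
    (hkz.inv_left.pow_right _).eq, inv_mul_cancel_right]
  exact mul_mem c.2 (pow_mem D.z_mem_C _)

/-- The centralizer of an element of order three has no element of order four. -/
theorem no_four {M : Type*} [Group M] [Finite M] (Th : Three M) {A : Subgroup M}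
    (hA : A ≤ Subgroup.centralizer ({Th.a} : Set M)) (hc : Nat.card ↥A = 4) {s : M} (hs : s ∈ A)
    (h2 : s * s ≠ 1) : False := by
  classical
  obtain ⟨N, hN⟩ : ∃ N, N = Subgroup.centralizer ({Th.a} : Set M) := ⟨_, rfl⟩
  have hcN : Nat.card ↥N = 36 := hN ▸ Th.card_cent
  have ht : Th.t * Th.t₁ = Th.t₁ * Th.t := Th.comm.eq
  have hst : ∀ {x y : M}, x ∈ ({1, Th.t, Th.t₁, Th.t * Th.t₁} : Set M) →
      y ∈ ({1, Th.t, Th.t₁, Th.t * Th.t₁} : Set M) →
      x * y ∈ ({1, Th.t, Th.t₁, Th.t * Th.t₁} : Set M) := by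
    intro x y hx hy
    have e1 : ∀ w, Th.t * (Th.t * w) = w := fun w => by rw [← mul_assoc, Th.tt, one_mul]
    have e2 : ∀ w, Th.t₁ * (Th.t₁ * w) = w := fun w => by rw [← mul_assoc, Th.t₁₁, one_mul]
    rcases hx with rfl | rfl | rfl | rfl <;> rcases hy with rfl | rfl | rfl | rfl <;>
      simp [mul_assoc, Th.tt, Th.t₁₁, e1, e2, ← ht]
    all_goals simp [ht, e1, e2, mul_assoc, Th.tt, Th.t₁₁]
  let V : Subgroup M :=
    { carrier := {1, Th.t, Th.t₁, Th.t * Th.t₁}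
      one_mem' := Or.inl rfl
      mul_mem' := fun hx hy => hst hx hy
      inv_mem' := fun {x} hx => by
        have hxx : x * x = 1 := by
          rcases hx with rfl | rfl | rfl | rfl
          · exact one_mul 1
          · exact Th.tt
          · exact Th.t₁₁
          · rw [show Th.t * Th.t₁ * (Th.t * Th.t₁) = Th.t * (Th.t₁ * Th.t) * Th.t₁ by group, ← ht,
              show Th.t * (Th.t * Th.t₁) * Th.t₁ = Th.t * Th.t * (Th.t₁ * Th.t₁) by group, Th.tt, Th.t₁₁, mul_one]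
        rw [inv_eq_of_mul_eq_one_right hxx]; exact hx }
  have hVN : V ≤ N := by
    rintro x (rfl | rfl | rfl | rfl) <;> rw [hN, Subgroup.mem_centralizer_singleton_iff]
    · simp
    · exact Th.ta.eq
    · exact Th.t₁a.eq
    · exact (Th.ta.mul_left Th.t₁a).eq
  have hVc : Nat.card ↥V = 4 := by
    show Nat.card ↥({1, Th.t, Th.t₁, Th.t * Th.t₁} : Set M) = 4
    rw [Nat.card_coe_set_eq, Set.ncard_insert_of_notMem, Set.ncard_insert_of_notMem, Set.ncard_pair]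
    · exact fun h => Th.t1 (mul_eq_right.1 h.symm)
    · simp [Th.t₁t.symm, Th.t₁_ne]
    · simp [Th.t1.symm, Th.t₁_ne.symm]
      exact fun h => Th.t₁t (inv_eq_of_mul_eq_one_right h.symm ▸ (inv_eq_of_mul_eq_one_right Th.tt).symm ▸ rfl)
  have : Fact (Nat.Prime 2) := ⟨Nat.prime_two⟩
  have hf : (Nat.card ↥N).factorization 2 = 2 := by
    rw [hcN, show (36 : ℕ) = 2 ^ 2 * 9 by norm_num, Nat.factorization_mul (by norm_num) (by norm_num),
      Nat.Prime.factorization_pow Nat.prime_two]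
    simp [Nat.factorization_eq_zero_of_not_dvd (show ¬ 2 ∣ 9 by norm_num)]
  obtain ⟨⟨n, hn⟩, hconj⟩ := MulAction.exists_smul_eq ↥N
    (Sylow.ofCard (V.subgroupOf N) (by rw [Nat.card_congr (Subgroup.subgroupOfEquivOfLe hVN).toEquiv, hVc, hf]; norm_num))
    (Sylow.ofCard (A.subgroupOf N) (by
      rw [Nat.card_congr (Subgroup.subgroupOfEquivOfLe (hN ▸ hA)).toEquiv, hc, hf]; norm_num))
  have hmem : (⟨s, hN ▸ hA hs⟩ : ↥N) ∈ A.subgroupOf N := hs
  have h := congrArg (fun S : Sylow 2 ↥N => (S : Subgroup ↥N)) hconj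
  simp only [Sylow.coe_subgroup_smul] at h
  obtain ⟨⟨v, hvN⟩, hv, hvs⟩ := h.ge hmem
  have hvs' : n * v * n⁻¹ = s := congrArg Subtype.val hvs
  have hvv : v * v = 1 := by
    have hv2 := V.inv_mem hv
    rcases (hv : v ∈ ({1, Th.t, Th.t₁, Th.t * Th.t₁} : Set M)) with rfl | rfl | rfl | rfl
    · exact one_mul 1
    · exact Th.tt
    · exact Th.t₁₁
    · rw [show Th.t * Th.t₁ * (Th.t * Th.t₁) = Th.t * (Th.t₁ * Th.t) * Th.t₁ by group, ← ht,
        show Th.t * (Th.t * Th.t₁) * Th.t₁ = Th.t * Th.t * (Th.t₁ * Th.t₁) by group, Th.tt, Th.t₁₁, mul_one]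
  exact h2 (by rw [← hvs', show n * v * n⁻¹ * (n * v * n⁻¹) = n * (v * v) * n⁻¹ by group, hvv]; group)

/-- In the absence of other conjugates of `z` in `C`, the inner conjugates of `z` centralizing `x` have one shape. -/
theorem conj_shape
    (hcx : ∀ {u : G}, D.Inner14 u → u * u = 1 → Commute u (fr.x : G) → ∃ e ∈ cE z, Commute e (fr.x : G) ∧
      (u = e ∨ u = e * (fr.w : G) ∨ u = e * (fr.w₁ : G) ∨ u = e * ((fr.w : G) * fr.w₁)))
    (hA : ∀ g : G, g * z * g⁻¹ ∈ cC z P → g * z * g⁻¹ = z) {g : G} (hi : D.Inner14 (g * z * g⁻¹))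
    (hx : Commute (g * z * g⁻¹) (fr.x : G)) :
    ∃ e ∈ cE z, Commute e (fr.x : G) ∧ (g * z * g⁻¹ = e ∨ g * z * g⁻¹ = e * (fr.w : G)) := by
  obtain ⟨u, hu⟩ : ∃ u, u = g * z * g⁻¹ := ⟨_, rfl⟩
  rw [← hu] at hi hx ⊢
  have husq : u * u = 1 := by
    rw [hu, show g * z * g⁻¹ * (g * z * g⁻¹) = g * (z * z) * g⁻¹ by group, z_sq D.hJ, mul_one, mul_inv_cancel]
  have huE : ∀ k ∈ cE z, k * u * k⁻¹ ∈ cC z P → u = z := by
    intro k hk hkC
    have h := hA (k * g) (by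
      rw [show k * g * z * (k * g)⁻¹ = k * (g * z * g⁻¹) * k⁻¹ by group, ← hu]; exact hkC)
    rw [show k * g * z * (k * g)⁻¹ = k * (g * z * g⁻¹) * k⁻¹ by group, ← hu,
      mul_inv_eq_iff_eq_mul, ← (comm_z_of_cE hk).eq] at h
    exact mul_left_cancel h
  obtain ⟨e, he, hex, h | h | rfl | rfl⟩ := hcx hi husq hx
  · exact ⟨e, he, hex, Or.inl h⟩
  · exact ⟨e, he, hex, Or.inr h⟩
  · have hcard := fr.card_w₁
    obtain ⟨k, hk, hkC⟩ := conj_into_C fr fr.ww₁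
      (show Commute (fr.w₁ : G) (fr.x : G) from congrArg Subtype.val fr.xw₁.symm.eq) hcard he hex husq
    exact ⟨z, z_mem D.hJ, z_comm_x fr, Or.inl (huE k hk hkC)⟩
  · have hwx : Commute (fr.w : G) (fr.x : G) := congrArg Subtype.val fr.xw.symm.eq
    have hw₁x : Commute (fr.w₁ : G) (fr.x : G) := congrArg Subtype.val fr.xw₁.symm.eq
    have hw2 : (fr.w : G) * fr.w = 1 := congrArg Subtype.val fr.ww
    have hsqc : (fr.w * fr.w₁) * (fr.w * fr.w₁) = 1 := by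
      have h4 : ∀ {c : ↥(cC z P)}, c * c = 1 → c ^ 4 = 1 := fun {c} h => by
        rw [show (4 : ℕ) = 2 * 2 from rfl, pow_mul, pow_two c, h, one_pow]
      exact D.lift_sq_good fr.L fr.good (by rw [map_mul, fr.πw, fr.πw₁]; exact mul_mem fr.tU fr.t₁U)
        (D.pow_four_mul fr.good.2.1 (by rw [fr.πw]; exact fr.tU) (by rw [fr.πw₁]; exact fr.t₁U) (h4 fr.ww) (h4 fr.ww₁))
    have hcard : Nat.card ↥(cE z ⊓ Subgroup.centralizer ({(fr.x : G), ((fr.w * fr.w₁ : ↥(cC z P)) : G)} : Set G)) = 8 := by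
      rw [← fr.card_w₁]
      refine Nat.card_congr (Equiv.subtypeEquivRight fun a => ?_)
      rw [Subgroup.mem_inf, Subgroup.mem_inf, mem_centPair, mem_centPair, Subgroup.coe_mul]
      refine and_congr_right fun ha => and_congr_right fun hax => ?_
      have haw := fr.w_fix a ha hax
      constructor
      · intro h
        have := haw.mul_right h
        rwa [← mul_assoc, hw2, one_mul] at this
      · exact fun h => haw.mul_right h
    obtain ⟨k, hk, hkC⟩ := conj_into_C fr hsqc (hwx.mul_left hw₁x) hcard he hex husq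
    exact ⟨z, z_mem D.hJ, z_comm_x fr, Or.inl (huE k hk hkC)⟩

/-- A 2-element of `E * P` lies in `E`. -/
theorem mem_cE_of_pow (D : HData z P) {y e q : G} (he : e ∈ cE z) (hq : q ∈ P) (hy : y = e * q) {k : ℕ}
    (hk : y ^ (2 ^ k) = 1) : y ∈ cE z := by
  by_cases hq1 : q = 1
  · rw [hy, hq1, mul_one]; exact he
  exfalso
  obtain ⟨d, hd, hyd⟩ : ∃ d ∈ cE z, y ^ 3 = d := by
    have hqH : q ∈ cH z := by
      rcases (D.mem_P q).1 hq with rfl | rfl | rfl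
      exacts [one_mem _, D.pH, mul_mem D.pH D.pH]
    have hq3 : q ^ 3 = 1 := by
      rcases (D.mem_P q).1 hq with rfl | rfl | rfl
      · exact one_pow 3
      · exact D.p3
      · rw [← pow_two, ← pow_mul, mul_comm, pow_mul, D.p3, one_pow]
    refine ⟨_, ?_, rfl⟩
    rw [hy, show (e * q) ^ 3 = e * (q * e * q⁻¹) * (q ^ 2 * e * (q ^ 2)⁻¹) * q ^ 3 by
      simp [pow_succ, mul_assoc], hq3, mul_one]
    exact mul_mem (mul_mem he (cE_conj hqH he)) (cE_conj (pow_mem hqH 2) he)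
  -- `y` generates the same group as `y ^ 3`
  have hcop : Nat.Coprime 3 (orderOf y) := by
    obtain ⟨m, -, hm⟩ := (Nat.dvd_prime_pow Nat.prime_two).1 (orderOf_dvd_of_pow_eq_one hk)
    rw [hm]
    exact Nat.Coprime.pow_right _ (by norm_num)
  obtain ⟨m, hm⟩ := exists_pow_eq_self_of_coprime hcop
  have hyE : y ∈ cE z := by rw [← hm, hyd]; exact pow_mem hd m
  have hqE : q ∈ cE z := by
    have := mul_mem (inv_mem he) hyE
    rwa [hy, inv_mul_cancel_left] at this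
  have hqo : orderOf q ∣ 3 := cardP D.hJ ▸ Subgroup.orderOf_dvd_natCard _ hq
  have hq2 : orderOf q ∣ 2 ^ 13 := cardE D.hJ ▸ Subgroup.orderOf_dvd_natCard _ hqE
  have := Nat.dvd_gcd hq2 hqo
  rw [show Nat.gcd (2 ^ 13) 3 = 1 by norm_num, Nat.dvd_one, orderOf_eq_one_iff] at this
  exact hq1 this

set_option maxHeartbeats 2000000 in
/-- In the absence of other conjugates of `z` in `C`, the conjugates of `z` in `E * C` lie in `E`. -/
theorem inner_mem_cE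
    (hcI : ∀ {u : G}, D.Inner14 u → u * u = 1 → u ∉ cE z →
      ∃ h ∈ cH z, ∃ e ∈ cE z, Commute e (fr.x : G) ∧ h * u * h⁻¹ = e * (fr.w : G))
    (hcx : ∀ {u : G}, D.Inner14 u → u * u = 1 → Commute u (fr.x : G) → ∃ e ∈ cE z, Commute e (fr.x : G) ∧
      (u = e ∨ u = e * (fr.w : G) ∨ u = e * (fr.w₁ : G) ∨ u = e * ((fr.w : G) * fr.w₁)))
    (hconj : ∀ {y : G}, y ∈ cH z → y ^ 3 = 1 → (¬ ∃ e ∈ cE z, ∃ q ∈ P, y = e * q) →
      ∃ h ∈ cH z, h * y * h⁻¹ = (fr.x : G))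
    (hA : ∀ g : G, g * z * g⁻¹ ∈ cC z P → g * z * g⁻¹ = z) :
    ∀ g : G, D.Inner14 (g * z * g⁻¹) → g * z * g⁻¹ ∈ cE z := by
  classical
  intro g₀ hi₀
  by_contra hE₀
  have hsq₀ : g₀ * z * g₀⁻¹ * (g₀ * z * g₀⁻¹) = 1 := by
    rw [show g₀ * z * g₀⁻¹ * (g₀ * z * g₀⁻¹) = g₀ * (z * z) * g₀⁻¹ by group, z_sq D.hJ, mul_one, mul_inv_cancel]
  obtain ⟨h₀, hh₀, e, he, hex, hconj₀⟩ := hcI hi₀ hsq₀ hE₀
  have hu₀ : (h₀ * g₀) * z * (h₀ * g₀)⁻¹ = e * (fr.w : G) := by rw [← hconj₀]; group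
  have hew : Commute (fr.w : G) e := (fr.w_fix e he hex).symm
  have hwC : (fr.w : G) ∈ cC z P := fr.w.2
  have hwz : (fr.w : G) ≠ z ∧ z * (fr.w : G) ≠ z := by
    constructor
    · intro h
      have : D.π fr.w = 1 := (D.ker_iff _).2 ⟨0, Or.inr (by rw [h]; simp)⟩
      exact fr.Th.t1 (fr.πw ▸ this)
    · intro h
      have : D.π fr.w = 1 := (D.ker_iff _).2 ⟨0, Or.inl (by simpa using mul_eq_left.1 h)⟩
      exact fr.Th.t1 (fr.πw ▸ this)
  have he1 : e ≠ 1 ∧ e ≠ z := by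
    constructor <;> intro h <;> rw [h] at hu₀
    · rw [one_mul] at hu₀
      exact hwz.1 (by rw [← hu₀]; exact hA _ (hu₀ ▸ hwC))
    · exact hwz.2 (by rw [← hu₀]; exact hA _ (hu₀ ▸ mul_mem D.z_mem_C hwC))
  obtain ⟨g₁, hg₁, hu₁⟩ : ∃ g₁, g₁ = h₀ * g₀ ∧ g₁ * z * g₁⁻¹ = e * (fr.w : G) := ⟨_, rfl, hu₀⟩
  clear hu₀ hg₁ hsq₀ hE₀ hi₀ hconj₀ hh₀
  have hwx : Commute (fr.w : G) (fr.x : G) := congrArg Subtype.val fr.xw.symm.eq
  have hux : Commute (g₁ * z * g₁⁻¹) (fr.x : G) := hu₁ ▸ hex.mul_left hwx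
  have huH : g₁ * z * g₁⁻¹ ∈ cH z := hu₁ ▸ mul_mem (cE_le z he) hwC.1
  have huz : g₁ * z * g₁⁻¹ ≠ z := fun h => by
    rw [hu₁] at h
    have hw' : (fr.w : G) ∈ cE z := by
      rw [show (fr.w : G) = e⁻¹ * z from eq_inv_mul_of_mul_eq h]
      exact mul_mem (inv_mem he) (z_mem D.hJ)
    have h1 := D.φ_cE hw'
    rw [show (⟨(fr.w : G), cE_le z hw'⟩ : ↥(cH z)) = ⟨(fr.w : G), fr.w.2.1⟩ from rfl, ← D.π_eq, fr.πw] at h1
    exact fr.Th.t1 (m22_conj_injective (h1.trans (map_one _).symm))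
  -- arrange that the conjugating element centralizes `x`
  obtain ⟨y, hy⟩ : ∃ y, y = g₁⁻¹ * (fr.x : G) * g₁ := ⟨_, rfl⟩
  have hgy : g₁ * y * g₁⁻¹ = (fr.x : G) := by rw [hy]; group
  have hyH : y ∈ cH z := by
    refine Subgroup.mem_centralizer_singleton_iff.2 ?_
    have := hux.symm.map (MulAut.conj g₁⁻¹).toMonoidHom
    simp [mul_assoc] at this
    rw [hy]
    simpa [mul_assoc] using this.eq
  have hx3 : (fr.x : G) ^ 3 = 1 := congrArg Subtype.val fr.x3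
  have hy3 : y ^ 3 = 1 := by
    rw [hy, show g₁⁻¹ * (fr.x : G) * g₁ = g₁⁻¹ * (fr.x : G) * g₁⁻¹⁻¹ by rw [inv_inv], conj_pow, hx3]
    group
  have hyne : ¬ ∃ e' ∈ cE z, ∃ q ∈ P, y = e' * q := by
    rintro ⟨e', he', q, hq, hyq⟩
    have hy1 : e' * q ≠ 1 := fun h => by
      rw [h] at hyq
      rw [hyq, mul_one, mul_inv_cancel] at hgy
      exact fr.Th.a1 (by rw [← fr.πx, show fr.x = 1 from Subtype.ext hgy.symm, map_one])
    obtain ⟨k, hk, hkq⟩ := conj_core D he' hq (hyq ▸ hy3) hy1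
    rw [← hyq] at hkq
    have hq1 : q ≠ 1 := fun h => by
      rw [h, conj_eq_one_iff] at hkq
      exact hy1 (hyq ▸ hkq)
    obtain ⟨w', hw'⟩ : ∃ w', w' = k * (g₁⁻¹ * z * g₁) * k⁻¹ := ⟨_, rfl⟩
    have hcomm : Commute w' q := by
      have h0 : Commute (g₁⁻¹ * z * g₁) y := (conj_mem_cH.1 (hgy ▸ fr.x.2.1)).symm
      have := h0.map (MulAut.conj k).toMonoidHom
      rw [show (MulAut.conj k).toMonoidHom y = k * y * k⁻¹ from rfl, hkq,
        show (MulAut.conj k).toMonoidHom (g₁⁻¹ * z * g₁) = k * (g₁⁻¹ * z * g₁) * k⁻¹ from rfl, ← hw'] at this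
      exact this
    have hwC : w' ∈ cC z P := by
      refine ⟨show w' ∈ cH z by rw [hw']; exact mul_mem (mul_mem (cE_le z hk) (inv_conj_mem_cH huH)) (inv_mem (cE_le z hk)), ?_⟩
      refine Subgroup.mem_centralizer_iff.2 ?_
      intro x hx
      have hp : Commute D.p w' := by
        rcases (D.mem_P q).1 hq with rfl | rfl | rfl
        · exact absurd rfl hq1
        · exact hcomm.symm
        · have h := (hcomm.symm.mul_left hcomm.symm)
          rwa [show D.p * D.p * (D.p * D.p) = D.p ^ 3 * D.p by simp [pow_succ, mul_assoc], D.p3, one_mul] at h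
      rcases (D.mem_P x).1 hx with rfl | rfl | rfl
      · simp
      · exact hp.eq
      · exact (hp.mul_left hp).eq
    have heq : w' = (k * g₁⁻¹) * z * (k * g₁⁻¹)⁻¹ := by rw [hw']; group
    have h1 := hA _ (heq ▸ hwC)
    rw [← heq, hw', mul_inv_eq_iff_eq_mul, ← (comm_z_of_cE hk).eq] at h1
    have h2 : g₁⁻¹ * z * g₁ = z := mul_left_cancel h1
    exact huz (by conv_lhs => rw [← h2]; simp [mul_assoc])
  obtain ⟨h₁, hh₁, hh₁x⟩ := hconj hyH hy3 hyne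
  obtain ⟨g, hg⟩ : ∃ g, g = g₁ * h₁⁻¹ := ⟨_, rfl⟩
  have hgu : g * z * g⁻¹ = e * (fr.w : G) := by
    rw [hg, show g₁ * h₁⁻¹ * z * (g₁ * h₁⁻¹)⁻¹ = g₁ * (h₁⁻¹ * z * h₁) * g₁⁻¹ by group,
      ((comm_z_of_cH hh₁).inv_left).eq, inv_mul_cancel_right, hu₁]
  have hgx : Commute g (fr.x : G) := by
    show g * _ = _ * g
    rw [hg, ← hh₁x]
    conv_rhs => rw [hh₁x, ← hgy]
    group
  have hwe2 : e * e = 1 := by
    have h1 : (e * (fr.w : G)) * (e * fr.w) = 1 := by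
      rw [← hgu, show g * z * g⁻¹ * (g * z * g⁻¹) = g * (z * z) * g⁻¹ by group, z_sq D.hJ, mul_one, mul_inv_cancel]
    exact (comm_of_conj_inv D fr.w fr.ww he h1).2
  -- the other element
  obtain ⟨u', hu'⟩ : ∃ u', u' = g⁻¹ * z * g := ⟨_, rfl⟩
  have hguH : g * z * g⁻¹ ∈ cH z := by rw [hgu, ← hu₁]; exact huH
  have hu'H : u' ∈ cH z := hu' ▸ inv_conj_mem_cH hguH
  have hgu' : g * u' * g⁻¹ = z := by rw [hu']; group
  have hzx : Commute z (fr.x : G) := z_comm_x fr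
  have hu'x : Commute u' (fr.x : G) := hu' ▸ (hgx.inv_left.mul_left hzx).mul_left hgx
  obtain ⟨hc16, a, ha, b, hb, hax, hbx, hae, hbe, hab⟩ := card_cent_noncomm fr he hex he1.1 he1.2
  have pull : ∀ {c : G}, Commute c (g * z * g⁻¹) → g⁻¹ * c * g ∈ cH z := by
    intro c hc
    refine Subgroup.mem_centralizer_singleton_iff.2 ?_
    have := hc.map (MulAut.conj g⁻¹).toMonoidHom
    simp [mul_assoc] at this
    simpa [mul_assoc] using this.eq
  have hi' : D.Inner14 u' := by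
    have hca : Commute a (g * z * g⁻¹) := hgu ▸ hae.mul_right (fr.w_fix a ha hax)
    have hcb : Commute b (g * z * g⁻¹) := hgu ▸ hbe.mul_right (fr.w_fix b hb hbx)
    have hzab : a * b * a⁻¹ * b⁻¹ = z :=
      (comm_or D.hJ ⟨a, ha⟩ ⟨b, hb⟩).resolve_left fun h =>
        hab (mul_inv_eq_iff_eq_mul.1 (mul_inv_eq_one.1 h))
    have := inner14_commutator D (pull hca) (pull hcb)
    rwa [show g⁻¹ * a * g * (g⁻¹ * b * g) * (g⁻¹ * a * g)⁻¹ * (g⁻¹ * b * g)⁻¹ = g⁻¹ * (a * b * a⁻¹ * b⁻¹) * g by group,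
      hzab, ← hu'] at this
  have hu'z : u' ≠ z := fun h => huz (by
    rw [hu₁, ← hgu]
    conv_lhs => rw [← h, hgu'])
  have hshape : ∀ {v : G}, (∃ k, v = k * z * k⁻¹) → D.Inner14 v → Commute v (fr.x : G) →
      v ∈ cE z ∨ ∃ e' ∈ cE z, Commute e' (fr.x : G) ∧ v = e' * (fr.w : G) := by
    rintro v ⟨k, rfl⟩ hv hvx
    obtain ⟨e', he', he'x, h | h⟩ := conj_shape fr hcx hA hv hvx
    · exact Or.inl (h ▸ he')
    · exact Or.inr ⟨e', he', he'x, h⟩
  -- the part of `E` centralizing `x` and `u'`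
  obtain ⟨e₁, he₁, he₁x, he₁1, he₁z, hu'e⟩ : ∃ e₁ ∈ cE z, Commute e₁ (fr.x : G) ∧ e₁ ≠ 1 ∧ e₁ ≠ z ∧
      ∀ d ∈ cE z, Commute d (fr.x : G) → (Commute d e₁ ↔ Commute d u') := by
    rcases hshape ⟨g⁻¹, by rw [hu', inv_inv]⟩ hi' hu'x with h | ⟨e', he', he'x, h⟩
    · refine ⟨u', h, hu'x, fun h1 => ?_, hu'z, fun d _ _ => Iff.rfl⟩
      rw [h1, mul_one, mul_inv_cancel] at hgu'
      exact z_ne D.hJ hgu'.symm
    · refine ⟨e', he', he'x, fun h1 => ?_, fun h1 => ?_, fun d hd hdx => ?_⟩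
      · rw [h1, one_mul] at h
        have h2 := hA g⁻¹ (by rw [inv_inv, ← hu', h]; exact hwC)
        rw [inv_inv, ← hu'] at h2
        exact hu'z h2
      · rw [h1] at h
        have h2 := hA g⁻¹ (by rw [inv_inv, ← hu', h]; exact mul_mem D.z_mem_C hwC)
        rw [inv_inv, ← hu'] at h2
        exact hu'z h2
      · have hdw := fr.w_fix d hd hdx
        rw [h]
        constructor
        · exact fun h1 => h1.mul_right hdw
        · intro h1
          have h2 := h1.mul_right hdw.inv_right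
          rwa [mul_inv_cancel_right] at h2
  obtain ⟨hd16, a', ha', b', hb', ha'x, hb'x, ha'e, hb'e, hab'⟩ := card_cent_noncomm fr he₁ he₁x he₁1 he₁z
  obtain ⟨Dd, hDd⟩ : ∃ Dd, Dd = cE z ⊓ Subgroup.centralizer ({(fr.x : G), e₁} : Set G) := ⟨_, rfl⟩
  rw [← hDd] at hd16
  have hmemD : ∀ {d : G}, d ∈ Dd ↔ d ∈ cE z ∧ Commute d (fr.x : G) ∧ Commute d e₁ := fun {d} => by
    rw [hDd, Subgroup.mem_inf, mem_centPair]
  have hpush : ∀ d ∈ Dd, g * d * g⁻¹ ∈ cH z := fun d hd =>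
    conj_mem_cH.2 (hu' ▸ (hu'e d (hmemD.1 hd).1 (hmemD.1 hd).2.1).1 (hmemD.1 hd).2.2)
  obtain ⟨ψ, hψ⟩ : ∃ ψ : ↥Dd →* MulAut M22t, ∀ d : ↥Dd, ψ d = D.φ ⟨g * d * g⁻¹, hpush d d.2⟩ :=
    ⟨MonoidHom.mk' (fun d : ↥Dd => D.φ ⟨g * d * g⁻¹, hpush d d.2⟩) fun d d' => by
      rw [← map_mul]; congr 1; apply Subtype.ext
      show g * ((d : G) * d') * g⁻¹ = g * (d : G) * g⁻¹ * (g * (d' : G) * g⁻¹)
      group, fun d => rfl⟩
  -- every image commutes with the image of `x`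
  have hψx : ∀ d : ↥Dd, Commute (ψ d) (MulAut.conj fr.Th.a) := fun d => by
    have hdx : Commute (g * (d : G) * g⁻¹) (fr.x : G) :=
      (hgx.mul_left (hmemD.1 d.2).2.1).mul_left hgx.inv_left
    rw [hψ, ← fr.πx, D.π_eq]
    exact (Commute.map (Subtype.ext hdx.eq : Commute (⟨_, hpush d d.2⟩ : ↥(cH z)) ⟨(fr.x : G), fr.x.2.1⟩) D.φ)
  obtain ⟨Q, hQ⟩ : ∃ Q, Q = ψ.range := ⟨_, rfl⟩
  obtain ⟨A, hAdef⟩ : ∃ A, A = Q.comap (MulAut.conj : M22t →* MulAut M22t) := ⟨_, rfl⟩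
  have hQ2 : IsPGroup 2 ↥Q := by
    have hE2 : IsPGroup 2 ↥Dd := IsPGroup.of_card (n := 4) (by rw [hd16]; norm_num)
    rw [hQ]
    exact hE2.of_surjective ψ.rangeRestrict ψ.rangeRestrict_surjective
  have hA2 : IsPGroup 2 ↥A := hAdef ▸ hQ2.comap_of_injective _ m22_conj_injective
  have hAcent : A ≤ Subgroup.centralizer ({fr.Th.a} : Set M22t) := fun s hs => by
    rw [hAdef] at hs
    obtain ⟨d, hd⟩ := (hQ ▸ hs : MulAut.conj s ∈ ψ.range)
    refine Subgroup.mem_centralizer_singleton_iff.2 (m22_conj_injective ?_)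
    rw [map_mul, map_mul, ← hd]
    exact (hψx d).eq
  have hA4 : Nat.card ↥A ∣ 4 := by
    obtain ⟨n, hn⟩ := IsPGroup.iff_card.1 hA2
    have h36 : Nat.card ↥A ∣ 36 := fr.Th.card_cent ▸ Subgroup.card_dvd_of_le hAcent
    have : Nat.card ↥A ∣ Nat.gcd (2 ^ n) 36 := Nat.dvd_gcd (hn ▸ dvd_rfl) h36
    refine this.trans ?_
    rcases lt_or_ge n 2 with h | h
    · interval_cases n <;> norm_num
    · have : Nat.gcd (2 ^ n) 36 = 4 := by
        apply Nat.dvd_antisymm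
        · have h1 := Nat.gcd_dvd_right (2 ^ n) 36
          obtain ⟨m, -, hm⟩ := (Nat.dvd_prime_pow Nat.prime_two).1 (Nat.gcd_dvd_left (2 ^ n) 36)
          rw [hm] at h1 ⊢
          rcases lt_or_ge m 3 with h' | h'
          · exact Nat.pow_dvd_pow 2 (show m ≤ 2 by omega)
          · exact absurd ((Nat.pow_dvd_pow 2 h').trans h1) (by norm_num)
        · exact Nat.dvd_gcd ((Nat.pow_dvd_pow 2 h)) (by norm_num)
      rw [this]
  have hmapA : A.map (MulAut.conj : M22t →* MulAut M22t) = Inn M22t ⊓ Q := by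
    rw [hAdef, Subgroup.map_comap_eq]
  have hcardA : Nat.card ↥(Inn M22t ⊓ Q) = Nat.card ↥A := by
    rw [← hmapA, ← Nat.card_congr (Subgroup.equivMapOfInjective A _ m22_conj_injective).toEquiv]
  have hidxQ : (Inn M22t).relIndex Q ∣ 2 := by
    rw [← (show ((Inn M22t).subgroupOf Q).index = (Inn M22t).relIndex Q from rfl)]
    by_cases hall : Q ≤ Inn M22t
    · rw [Subgroup.subgroupOf_eq_top.2 hall, Subgroup.index_top]; exact one_dvd 2
    · have : ((Inn M22t).subgroupOf Q).index = 2 := by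
        obtain ⟨q, hq, hqn⟩ := SetLike.not_le_iff_exists.1 hall
        rw [Subgroup.index_eq_two_iff']
        refine ⟨⟨q, hq⟩, fun r => ?_⟩
        by_cases hr : (r : MulAut M22t) ∈ Inn M22t
        · exact Or.inr ⟨hr, fun h => hqn ((Subgroup.mul_mem_cancel_right _ hr).1 h)⟩
        · refine Or.inl ⟨?_, hr⟩
          show q * (r : MulAut M22t) ∈ Inn M22t
          obtain ⟨⟨d, hd⟩⟩ : Nonempty {d : ↥Dd // ψ d = q} := by
            obtain ⟨d, hd⟩ := (hQ ▸ hq : q ∈ ψ.range); exact ⟨⟨d, hd⟩⟩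
          obtain ⟨d', hd'⟩ := (hQ ▸ r.2 : (r : MulAut M22t) ∈ ψ.range)
          rw [← hd, ← hd', ← map_mul, hψ, ← D.inner14_iff]
          show D.Inner14 (g * ((d : G) * d') * g⁻¹)
          rw [show g * ((d : G) * d') * g⁻¹ = g * (d : G) * g⁻¹ * (g * (d' : G) * g⁻¹) by group]
          refine inner14_mul_not D (hpush d d.2) (hpush d' d'.2) ?_ ?_
          · exact fun h => hqn (by rw [← hd, hψ, ← D.inner14_iff]; exact h)
          · exact fun h => hr (by rw [← hd', hψ, ← D.inner14_iff]; exact h)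
      rw [this]
  have hQmul : Nat.card ↥A * (Inn M22t).relIndex Q = Nat.card ↥Q := by
    have := ((Inn M22t).subgroupOf Q).card_mul_index
    have hc : Nat.card ↥((Inn M22t).subgroupOf Q) = Nat.card ↥(Inn M22t ⊓ Q) := by
      rw [← Subgroup.inf_subgroupOf_right]
      exact Nat.card_congr (Subgroup.subgroupOfEquivOfLe inf_le_right).toEquiv
    rw [hc, hcardA] at this
    exact this
  have hQle : Nat.card ↥Q ≤ 8 := by
    rw [← hQmul]
    exact Nat.mul_le_mul (Nat.le_of_dvd (by norm_num) hA4) (Nat.le_of_dvd (by norm_num) hidxQ)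
  -- the image is not abelian
  have ha'D : a' ∈ Dd := hmemD.2 ⟨ha', ha'x, ha'e⟩
  have hb'D : b' ∈ Dd := hmemD.2 ⟨hb', hb'x, hb'e⟩
  have hnc : ψ ⟨a', ha'D⟩ * ψ ⟨b', hb'D⟩ ≠ ψ ⟨b', hb'D⟩ * ψ ⟨a', ha'D⟩ := by
    intro h
    have hz : a' * b' * a'⁻¹ * b'⁻¹ = z :=
      (comm_or D.hJ ⟨a', ha'⟩ ⟨b', hb'⟩).resolve_left fun h =>
        hab' (mul_inv_eq_iff_eq_mul.1 (mul_inv_eq_one.1 h))
    have h1 : ψ (⟨a', ha'D⟩ * ⟨b', hb'D⟩ * ⟨a', ha'D⟩⁻¹ * ⟨b', hb'D⟩⁻¹) = 1 := by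
      rw [map_mul, map_mul, map_mul, h, map_inv, map_inv]; group
    rw [hψ, D.φ_inner (c := fr.w) he (by
      show g * (a' * b' * a'⁻¹ * b'⁻¹) * g⁻¹ = e * (fr.w : G)
      rw [hz, hgu])] at h1
    exact fr.Th.t1 (fr.πw ▸ m22_conj_injective (h1.trans (map_one _).symm))
  have hQ8 : Nat.card ↥Q = 8 := by
    obtain ⟨n, hn⟩ := IsPGroup.iff_card.1 hQ2
    by_contra hne
    have hn2 : n ≤ 2 := by
      by_contra hlt
      have := Nat.pow_le_pow_right (show 0 < 2 by norm_num) (show 3 ≤ n by omega)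
      omega
    have hf : Fact (Nat.Prime 2) := ⟨Nat.prime_two⟩
    have hab2 : IsMulCommutative ↥Q := by
      interval_cases n
      · exact ⟨⟨fun p q => by
          have := (Nat.card_eq_one_iff_unique.1 (hn.trans (pow_zero 2))).1
          exact Subsingleton.elim _ _⟩⟩
      · exact (isCyclic_of_prime_card (p := 2) (by simpa using hn)).isMulCommutative
      · exact IsPGroup.isMulCommutative_of_card_eq_prime_sq (p := 2) (by simpa using hn)
    exact hnc (congrArg Subtype.val (hab2.is_comm.comm (⟨_, hQ ▸ ⟨_, rfl⟩⟩ : ↥Q) ⟨_, hQ ▸ ⟨_, rfl⟩⟩))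
  have hAcard : Nat.card ↥A = 4 := by
    have h1 := Nat.le_of_dvd (by norm_num) hA4
    have h2 := Nat.le_of_dvd (by norm_num) hidxQ
    have h3 := hQmul.trans hQ8
    nlinarith
  -- so some image is the inner automorphism of the second involution
  have hfour : ∀ s ∈ A, s = 1 ∨ s = fr.Th.t ∨ s = fr.Th.t₁ ∨ s = fr.Th.t * fr.Th.t₁ := by
    intro s hs
    have hs4 : s ^ 4 = 1 := by
      have := pow_card_eq_one' (x := (⟨s, hs⟩ : ↥A))
      rw [hAcard] at this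
      exact congrArg Subtype.val this
    by_cases hs2 : s * s = 1
    · exact fr.Th.four s (Subgroup.mem_centralizer_singleton_iff.1 (hAcent hs)) hs2
    · exfalso
      -- an element of order four would square to `t`, `t₁` or `t * t₁`, all moved by `q`
      exact no_four fr.Th hAcent hAcard hs hs2
  have ht₁A : fr.Th.t₁ ∈ A := by
    by_contra hno
    have hsub : (A : Set M22t) ⊆ {1, fr.Th.t} := fun s hs => by
      rcases hfour s hs with h | h | h | h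
      · simp [h]
      · simp [h]
      · exact absurd (h ▸ hs) hno
      · have htA : fr.Th.t ∈ A := by
          rw [hAdef, Subgroup.mem_comap, hQ]
          refine ⟨⟨a', ha'D⟩ * ⟨b', hb'D⟩ * ⟨a', ha'D⟩⁻¹ * ⟨b', hb'D⟩⁻¹, ?_⟩
          rw [hψ, D.φ_inner (c := fr.w) he (by
            show g * (a' * b' * a'⁻¹ * b'⁻¹) * g⁻¹ = e * (fr.w : G)
            rw [(comm_or D.hJ ⟨a', ha'⟩ ⟨b', hb'⟩).resolve_left fun h =>
              hab' (mul_inv_eq_iff_eq_mul.1 (mul_inv_eq_one.1 h)), hgu]), fr.πw]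
        have h2 := A.mul_mem (A.inv_mem htA) (h ▸ hs)
        rw [inv_mul_cancel_left] at h2
        exact absurd h2 hno
    have h2 := Set.ncard_le_ncard hsub (Set.toFinite _)
    rw [Set.ncard_pair (Ne.symm fr.Th.t1), ← Nat.card_coe_set_eq] at h2
    have : Nat.card ↥(A : Set M22t) = 4 := hAcard
    omega
  obtain ⟨d₁, hd₁⟩ : MulAut.conj fr.Th.t₁ ∈ ψ.range := by
    rw [← hQ]; rw [hAdef] at ht₁A; exact ht₁A
  -- hence the vector of `e` is fixed by `w₁`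
  have hew₁ : Commute e (fr.w₁ : G) := by
    obtain ⟨dh, hdh⟩ : ∃ dh, dh = g * (d₁ : G) * g⁻¹ := ⟨_, rfl⟩
    have hdhH : dh ∈ cH z := hdh ▸ hpush d₁ d₁.2
    obtain ⟨e', he', c, hc, hdec⟩ := (D.inner14_iff ⟨dh, hdhH⟩).2 (by
      rw [show (⟨dh, hdhH⟩ : ↥(cH z)) = ⟨g * (d₁ : G) * g⁻¹, hpush d₁ d₁.2⟩ from Subtype.ext hdh, ← hψ, hd₁]
      exact ⟨_, rfl⟩)
    have hπc : D.π ⟨c, hc⟩ = fr.Th.t₁ := m22_conj_injective (by
      rw [← hd₁, hψ]
      exact (D.φ_inner he' ⟨c, hc⟩ (hdh ▸ hdec)).symm)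
    obtain ⟨k, hk⟩ : ∃ k, k = fr.w₁⁻¹ * (⟨c, hc⟩ : ↥(cC z P)) := ⟨_, rfl⟩
    have hk1 : D.π k = 1 := by rw [hk, map_mul, map_inv, fr.πw₁, hπc, inv_mul_cancel]
    have hck : (⟨c, hc⟩ : ↥(cC z P)) = fr.w₁ * k := by rw [hk, mul_inv_cancel_left]
    have hdu : Commute dh (e * (fr.w : G)) := by
      rw [← hgu, hdh]
      exact (comm_z_of_cE (hmemD.1 d₁.2).1).map (MulAut.conj g).toMonoidHom
    have hdx : Commute dh (fr.x : G) := hdh ▸ (hgx.mul_left (hmemD.1 d₁.2).2.1).mul_left hgx.inv_left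
    have hcx' : Commute c (fr.x : G) := by
      have : Commute (⟨c, hc⟩ : ↥(cC z P)) fr.x := by
        rw [hck]
        exact (fr.xw₁.symm).mul_left (D.toJMod.ker_comm k hk1 fr.x)
      exact congrArg Subtype.val this.eq
    have he'x : Commute e' (fr.x : G) := by
      have h := hdx.mul_left hcx'.inv_left
      rwa [show dh = e' * c from hdec, mul_inv_cancel_right] at h
    -- act on vectors
    have hv : mk ⟨e, he⟩ = (⟨c, hc⟩ : ↥(cC z P)) • mk ⟨e, he⟩ := by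
      rw [smul_mk, mk_eq D.hJ]
      show c * e * c⁻¹ = e ∨ c * e * c⁻¹ = e * z
      have hwc : ∃ j : ℕ, c * (fr.w : G) * c⁻¹ = fr.w * z ^ j := by
        obtain ⟨k', hk'⟩ : ∃ k', k' = fr.w⁻¹ * ((⟨c, hc⟩ : ↥(cC z P)) * fr.w * (⟨c, hc⟩ : ↥(cC z P))⁻¹) := ⟨_, rfl⟩
        have hk'1 : D.π k' = 1 := by
          rw [hk']; simp only [map_mul, map_inv, fr.πw, hπc]
          rw [← fr.Th.comm.eq]; group
        have hk'2 : k' * k' = 1 := by
          have h3 : fr.w * k' * (fr.w * k') = 1 := by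
            rw [hk', mul_inv_cancel_left]
            rw [show ∀ a b : ↥(cC z P), a * b * a⁻¹ * (a * b * a⁻¹) = a * (b * b) * a⁻¹ from fun a b => by group,
              fr.ww, mul_one, mul_inv_cancel]
          rwa [show fr.w * k' * (fr.w * k') = fr.w * (k' * fr.w) * k' by group,
            (D.toJMod.ker_comm k' hk'1 fr.w).eq, show fr.w * (fr.w * k') * k' = fr.w * fr.w * (k' * k') by group,
            fr.ww, one_mul] at h3
        rcases D.ker_two hk'1 hk'2 with h | h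
        · refine ⟨0, ?_⟩
          have h' : (fr.w : G)⁻¹ * (c * (fr.w : G) * c⁻¹) = 1 := by
            refine Eq.trans ?_ h
            rw [hk']; rfl
          rw [pow_zero, mul_one]
          exact (inv_mul_eq_one.1 h').symm
        · refine ⟨1, ?_⟩
          have h' : (fr.w : G)⁻¹ * (c * (fr.w : G) * c⁻¹) = z := by
            refine Eq.trans ?_ h
            rw [hk']; rfl
          rw [pow_one]
          exact inv_mul_eq_iff_eq_mul.1 h' 
      obtain ⟨j, hj⟩ := hwc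
      have h2 : dh * (e * (fr.w : G)) * dh⁻¹ = e * fr.w := by rw [hdu.eq, mul_inv_cancel_right]
      rw [show dh = e' * c from hdec, show e' * c * (e * (fr.w : G)) * (e' * c)⁻¹ =
        e' * (c * e * c⁻¹) * ((c * (fr.w : G) * c⁻¹) * e'⁻¹) by group, hj, mul_assoc (fr.w : G),
        ((comm_z_of_cE he').inv_left.pow_right j).eq.symm, ← mul_assoc (fr.w : G),
        ← ((fr.w_fix e' he' he'x).inv_left).eq, ← mul_assoc, ← mul_assoc] at h2
      have h3 : e' * (c * e * c⁻¹) * e'⁻¹ * z ^ j = e := by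
        apply mul_right_cancel (b := (fr.w : G))
        rw [← h2, mul_assoc _ (z ^ j), mul_assoc _ (fr.w : G),
          ((show Commute z (fr.w : G) from D.comm_z fr.w).pow_left j).eq]
      have h4 : e' * (c * e * c⁻¹) * e'⁻¹ = c * e * c⁻¹ ∨ e' * (c * e * c⁻¹) * e'⁻¹ = c * e * c⁻¹ * z := by
        rcases comm_or D.hJ ⟨e', he'⟩ ⟨c * e * c⁻¹, cE_conj hc.1 he⟩ with h | h
        · exact Or.inl (mul_inv_eq_one.1 h)
        · refine Or.inr ?_
          rw [mul_inv_eq_iff_eq_mul] at h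
          rw [h]; exact (comm_z_of_cE (cE_conj hc.1 he)).eq.symm
      rcases Nat.even_or_odd j with ⟨i, rfl⟩ | ⟨i, rfl⟩
      · rw [← two_mul, pow_mul, pow_two, z_sq D.hJ, one_pow, mul_one] at h3
        rcases h4 with h | h <;> rw [h] at h3
        · exact Or.inl h3
        · exact Or.inr ((by rw [mul_assoc (c * e * c⁻¹), z_sq D.hJ, mul_one] : c * e * c⁻¹ = c * e * c⁻¹ * z * z).trans (by rw [h3]))
      · rw [pow_succ, pow_mul, pow_two, z_sq D.hJ, one_pow, one_mul] at h3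
        rcases h4 with h | h <;> rw [h] at h3
        · exact Or.inr ((by rw [mul_assoc (c * e * c⁻¹), z_sq D.hJ, mul_one] : c * e * c⁻¹ = c * e * c⁻¹ * z * z).trans (by rw [h3]))
        · rw [mul_assoc, z_sq D.hJ, mul_one] at h3; exact Or.inl h3
    obtain ⟨j, hj⟩ := D.toJMod.ker_act k hk1
    have hw₁v : fr.w₁ • mk ⟨e, he⟩ = mk ⟨e, he⟩ := by
      refine D.fix_of_smul (c := (⟨c, hc⟩ : ↥(cC z P))) (hπc.trans fr.πw₁.symm) ?_ ?_ hv.symm
      · rw [hπc, fr.Th.t₁₁]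
      · rw [show (4 : ℕ) = 2 * 2 from rfl, pow_mul, pow_two fr.w₁, fr.ww₁, one_pow]
    exact (comm_of_smul_eq D fr.w₁ ⟨e, he⟩ hw₁v).symm
  -- three conjugates in an elementary subgroup of order `2 ^ 11`
  obtain ⟨B, hBH, hBsq, hBc, hBmem⟩ := D.exists_span_good14 fr.L fr.good
  have hplane := fr.plane ⟨e, he⟩ hex hew₁
  have hw4 : fr.w ^ 4 = 1 := by rw [show (4 : ℕ) = 2 * 2 from rfl, pow_mul, pow_two fr.w, fr.ww, one_pow]
  have huB : e * (fr.w : G) ∈ B := hBmem _ ⟨⟨e, he⟩, hplane, fr.w, fr.πw ▸ fr.tU, hw4, rfl⟩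
  have hzB : z ∈ B := hBmem _ ⟨⟨z, z_mem D.hJ⟩, by
    rw [(mk_eq_zero D.hJ).2 (Or.inr rfl)]; exact zero_mem _, 1, by rw [map_one]; exact one_mem _, one_pow 4,
    by simp⟩
  have hconjB : ∀ j : ℕ, D.p ^ j * e * (D.p ^ j)⁻¹ * (fr.w : G) ∈ B := fun j => hBmem _
    ⟨cEAut ((D.pC ^ j : ↥(cC z P)) : G) (D.pC ^ j).2.1 ⟨e, he⟩, by
      rw [← smul_mk]
      exact D.toJMod.mem_fix_smul (fun x hx => by
        rw [map_pow, show D.toJMod.π D.pC = 1 from D.toJMod.πω, one_pow]; simpa using hx) hplane,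
      fr.w, fr.πw ▸ fr.tU, hw4, rfl⟩
  have hσB : ∀ b ∈ B, D.Inner14 (g⁻¹ * b * g) := by
    have hcz : ∀ b ∈ B, g⁻¹ * b * g ∈ cH z := fun b hb => pull (by
      rw [hgu]; exact comm_of_sq_all hBsq hb huB)
    intro b hb
    refine D.elem_inner14 fr.L (B := B.map (MulAut.conj g⁻¹).toMonoidHom) ?_ ?_ ?_ ⟨b, hb, by simp⟩
    · rintro _ ⟨b, hb, rfl⟩; simpa using hcz b hb
    · rintro _ ⟨b, hb, rfl⟩; rw [← map_mul, hBsq b hb, map_one]
    · rw [← Nat.card_congr (Subgroup.equivMapOfInjective B _ (MulAut.conj g⁻¹).injective).toEquiv, hBc]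
  -- elements of the kernel
  obtain ⟨K, hK⟩ : ∃ K, K = ψ.ker := ⟨_, rfl⟩
  have hKcard : Nat.card ↥K = 2 := by
    have := K.card_mul_index
    rw [hd16, hK, Subgroup.index_ker, ← hQ, hQ8, ← hK] at this
    omega
  have hker : ∀ m ∈ cE z, Commute m (fr.x : G) → Commute m (g * z * g⁻¹) → g⁻¹ * m * g ∈ cE z →
      ∃ d : ↥Dd, d ∈ K ∧ g * (d : G) * g⁻¹ = m := by
    intro m hm hmx hmu hmE
    have hdx : Commute (g⁻¹ * m * g) (fr.x : G) := (hgx.inv_left.mul_left hmx).mul_left hgx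
    have hde : Commute (g⁻¹ * m * g) e₁ := by
      have h0 : Commute (g⁻¹ * m * g) u' := by
        have := (comm_z_of_cE hm).map (MulAut.conj g⁻¹).toMonoidHom
        rw [hu']; simp [mul_assoc] at this ⊢; exact this
      exact (hu'e _ hmE hdx).2 h0
    refine ⟨⟨_, hmemD.2 ⟨hmE, hdx, hde⟩⟩, ?_, by group⟩
    rw [hK, MonoidHom.mem_ker, hψ, D.φ_eq]
    exact ⟨m, hm, 1, one_mem _, by show g * (g⁻¹ * m * g) * g⁻¹ = m * 1; group⟩
  obtain ⟨p₁, hp₁⟩ : ∃ p₁, p₁ = D.p * e * D.p⁻¹ := ⟨_, rfl⟩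
  obtain ⟨p₂, hp₂⟩ : ∃ p₂, p₂ = D.p ^ 2 * e * (D.p ^ 2)⁻¹ := ⟨_, rfl⟩
  have hpe : ∀ j : ℕ, D.p ^ j * e * (D.p ^ j)⁻¹ ∈ cE z ∧ Commute (D.p ^ j * e * (D.p ^ j)⁻¹) (fr.x : G) := fun j => by
    refine ⟨cE_conj (pow_mem D.pH j) he, ?_⟩
    have hp : Commute (D.p ^ j) (fr.x : G) := (show Commute D.p (fr.x : G) from D.comm_p fr.x).pow_left j
    exact (hp.mul_left hex).mul_left hp.inv_left
  obtain ⟨vv, hvv⟩ : ∃ vv : ℕ → G, ∀ j, vv j = g⁻¹ * (D.p ^ j * e * (D.p ^ j)⁻¹ * (fr.w : G)) * g := ⟨_, fun j => rfl⟩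
  have hconjp : ∀ j : ℕ, D.p ^ j * e * (D.p ^ j)⁻¹ * (fr.w : G) = (D.p ^ j * g) * z * (D.p ^ j * g)⁻¹ := fun j => by
    rw [show D.p ^ j * g * z * (D.p ^ j * g)⁻¹ = D.p ^ j * (g * z * g⁻¹) * (D.p ^ j)⁻¹ by group, hgu,
      show D.p ^ j * (e * (fr.w : G)) * (D.p ^ j)⁻¹ = D.p ^ j * e * ((fr.w : G) * (D.p ^ j)⁻¹) by group,
      (((show Commute D.p (fr.w : G) from D.comm_p fr.w).pow_left j).symm.inv_right).eq]
    group
  have hsides : ∀ j, vv j ∈ cE z ∨ ∃ e' ∈ cE z, Commute e' (fr.x : G) ∧ vv j = e' * (fr.w : G) := fun j => by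
    refine hshape ⟨g⁻¹ * (D.p ^ j * g), ?_⟩ (hvv j ▸ hσB _ (hconjB j)) ?_
    · rw [hvv, hconjp]; group
    · rw [hvv]
      exact ((hgx.inv_left).mul_left ((hpe j).2.mul_left hwx)).mul_left hgx
  have hside0 : u' ∈ cE z ∨ ∃ e' ∈ cE z, Commute e' (fr.x : G) ∧ u' = e' * (fr.w : G) :=
    hshape ⟨g⁻¹, by rw [hu', inv_inv]⟩ hi' hu'x
  have hw2 : (fr.w : G) * fr.w = 1 := congrArg Subtype.val fr.ww
  have hww : ∀ {s s' : G}, (s ∈ cE z ∨ ∃ e' ∈ cE z, Commute e' (fr.x : G) ∧ s = e' * (fr.w : G)) → s ∉ cE z →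
      (s' ∈ cE z ∨ ∃ e' ∈ cE z, Commute e' (fr.x : G) ∧ s' = e' * (fr.w : G)) → s' ∉ cE z → s * s' ∈ cE z := by
    intro s s' h hn h' hn'
    obtain ⟨e', he', he'x, rfl⟩ := h.resolve_left hn
    obtain ⟨e'', he'', he''x, rfl⟩ := h'.resolve_left hn'
    rw [show e' * (fr.w : G) * (e'' * fr.w) = e' * ((fr.w : G) * e'') * fr.w by group,
      ← (fr.w_fix e'' he'' he''x).eq, show e' * (e'' * (fr.w : G)) * fr.w = e' * e'' * ((fr.w : G) * fr.w) by group,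
      hw2, mul_one]
    exact mul_mem he' he''
  -- products in `E`
  have hgpush : ∀ m, g⁻¹ * (m * (e * (fr.w : G))) * g = g⁻¹ * m * g * z := fun m => by
    rw [← hgu]; group
  have hmk : ∀ j : ℕ, ∀ h : D.p ^ j * e * (D.p ^ j)⁻¹ ∈ cE z,
      mk ⟨_, h⟩ = D.toJMod.ω ^ j • mk ⟨e, he⟩ := fun j h => by
    show _ = (D.pC ^ j : ↥(cC z P)) • mk ⟨e, he⟩
    rw [smul_mk]; rfl
  obtain ⟨m, hm⟩ : ∃ m : ℕ → G, ∀ j, m j = D.p ^ j * e * (D.p ^ j)⁻¹ * e := ⟨_, fun j => rfl⟩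
  have hmE : ∀ j, m j ∈ cE z := fun j => hm j ▸ mul_mem (hpe j).1 he
  have hmx : ∀ j, Commute (m j) (fr.x : G) := fun j => hm j ▸ (hpe j).2.mul_left hex
  have hprod : ∀ j, m j = (D.p ^ j * e * (D.p ^ j)⁻¹ * (fr.w : G)) * (e * fr.w) := fun j => by
    rw [hm, show D.p ^ j * e * (D.p ^ j)⁻¹ * (fr.w : G) * (e * fr.w) =
      D.p ^ j * e * (D.p ^ j)⁻¹ * ((fr.w : G) * e) * fr.w by group, hew.eq]
    rw [show D.p ^ j * e * (D.p ^ j)⁻¹ * (e * (fr.w : G)) * fr.w =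
      D.p ^ j * e * (D.p ^ j)⁻¹ * e * ((fr.w : G) * fr.w) by group, hw2, mul_one]
  have hmσ : ∀ j, g⁻¹ * m j * g = vv j * z := fun j => by rw [hprod, hgpush, hvv]
  have hmu : ∀ j, Commute (m j) (g * z * g⁻¹) := fun j => by
    rw [hgu, hprod]
    exact comm_of_sq_all hBsq (mul_mem (hconjB j) huB) huB
  have hzu : Commute z (g * z * g⁻¹) := (comm_z_of_cH hguH).symm
  have hzσ : g⁻¹ * z * g = u' := hu'.symm
  -- three elements, two of which lie in the kernel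
  have hmk' : ∀ j, mk ⟨m j, hmE j⟩ = D.toJMod.ω ^ j • mk ⟨e, he⟩ + mk ⟨e, he⟩ := fun j => by
    rw [← hmk j (hpe j).1, ← mk_mul]; congr 1; exact Subtype.ext (hm j)
  have hv0 : mk (⟨e, he⟩ : ↥(cE z)) ≠ 0 := fun h => by
    rcases (mk_eq_zero D.hJ).1 h with h1 | h1
    exacts [he1.1 h1, he1.2 h1]
  have hωne : ∀ {i j : ℕ}, i % 3 ≠ j % 3 → D.toJMod.ω ^ i • mk ⟨e, he⟩ ≠ D.toJMod.ω ^ j • mk (⟨e, he⟩ : ↥(cE z)) := by
    intro i j hij h
    have h2 := congrArg (fun v => D.toJMod.ω ^ (2 * i) • v) h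
    simp only [D.toJMod.ωpow_add] at h2
    rw [D.toJMod.ωpow_congr (n := 2 * i + i) (m := 0) (by omega), pow_zero, one_smul] at h2
    refine hv0 (D.toJMod.ωfix _ ?_)
    rcases (by omega : (2 * i + j) % 3 = 1 ∨ (2 * i + j) % 3 = 2) with h3 | h3
    · rw [D.toJMod.ωpow_congr (m := 1) h3, pow_one] at h2; exact h2.symm
    · rw [D.toJMod.ωpow_congr (m := 2) h3, pow_two, mul_smul] at h2
      conv_lhs => arg 2; rw [h2]
      exact D.toJMod.ω3_smul _
  have hwit : ∃ m₁ ∈ cE z, ∃ m₂ ∈ cE z, m₁ ≠ 1 ∧ m₂ ≠ 1 ∧ m₁ ≠ m₂ ∧ Commute m₁ (fr.x : G) ∧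
      Commute m₂ (fr.x : G) ∧ Commute m₁ (g * z * g⁻¹) ∧ Commute m₂ (g * z * g⁻¹) ∧
      g⁻¹ * m₁ * g ∈ cE z ∧ g⁻¹ * m₂ * g ∈ cE z := by
    have hmne : ∀ j, j % 3 ≠ 0 → m j ≠ 1 ∧ m j ≠ z := fun j hj => by
      have hne : mk ⟨m j, hmE j⟩ ≠ 0 := by
        rw [hmk']
        intro h
        rw [add_eq_zero_iff_eq_neg, D.toJMod.neg_eq] at h
        exact hωne (i := j) (j := 0) (by simpa using hj) (by rw [h, pow_zero, one_smul])
      exact ⟨fun h => hne ((mk_eq_zero D.hJ).2 (Or.inl h)), fun h => hne ((mk_eq_zero D.hJ).2 (Or.inr h))⟩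
    have hmm : m 1 ≠ m 2 ∧ m 1 ≠ m 2 * z := by
      have hne : mk ⟨m 1, hmE 1⟩ ≠ mk ⟨m 2, hmE 2⟩ := by
        rw [hmk', hmk']
        exact fun h => hωne (i := 1) (j := 2) (by norm_num) (add_right_cancel h)
      refine ⟨fun h => hne ((mk_eq D.hJ).2 (Or.inl h.symm)), fun h => hne ((mk_eq D.hJ).2 (Or.inr ?_))⟩
      show m 2 = m 1 * z
      rw [h, mul_assoc, z_sq D.hJ, mul_one]
    have hzE := z_mem D.hJ
    have hz1 := z_ne D.hJ
    have hσ1 := hmσ 1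
    have hσ2 := hmσ 2
    have hσz : ∀ j, g⁻¹ * (m j * z) * g = vv j * z * u' := fun j => by
      rw [← hmσ, ← hzσ]; group
    have hσ12 : g⁻¹ * (m 1 * m 2) * g = vv 1 * z * (vv 2 * z) := by rw [← hmσ, ← hmσ]; group
    by_cases h0 : u' ∈ cE z
    · by_cases h1 : vv 1 ∈ cE z
      · exact ⟨z, hzE, m 1, hmE 1, hz1, (hmne 1 (by norm_num)).1, (hmne 1 (by norm_num)).2.symm, hzx, hmx 1, hzu,
          hmu 1, hzσ ▸ h0, hσ1 ▸ mul_mem h1 hzE⟩
      · by_cases h2 : vv 2 ∈ cE z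
        · exact ⟨z, hzE, m 2, hmE 2, hz1, (hmne 2 (by norm_num)).1, (hmne 2 (by norm_num)).2.symm, hzx, hmx 2, hzu,
            hmu 2, hzσ ▸ h0, hσ2 ▸ mul_mem h2 hzE⟩
        · refine ⟨z, hzE, m 1 * m 2, mul_mem (hmE 1) (hmE 2), hz1, ?_, ?_, hzx, (hmx 1).mul_left (hmx 2), hzu,
            (hmu 1).mul_left (hmu 2), hzσ ▸ h0, ?_⟩
          · exact fun h => hmm.1 (mul_eq_one_iff_eq_inv.1 h |>.trans
              (inv_eq_of_mul_eq_one_right (by
                rw [hprod]; exact hBsq _ (mul_mem (hconjB 2) huB))))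
          · intro h
            refine hmm.2 ?_
            have h22 : m 2 * m 2 = 1 := by rw [hprod]; exact hBsq _ (mul_mem (hconjB 2) huB)
            have h11 : m 1 = z * m 2 := by rw [h, mul_assoc, h22, mul_one]
            rw [h11, (comm_z_of_cE (hmE 2)).eq]
          · have hz2 : vv 2 * z = z * vv 2 := by
              rw [hvv]; exact (comm_z_of_cH (D.inner14_mem (hσB _ (hconjB 2)))).eq
            rw [hσ12, mul_assoc (vv 1) z, ← mul_assoc z, ← hz2,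
              show vv 1 * (vv 2 * z * z) = vv 1 * vv 2 * (z * z) by group, z_sq D.hJ, mul_one]
            exact hww (hsides 1) h1 (hsides 2) h2
    · have hpick : ∀ j, j % 3 ≠ 0 → ∃ mj ∈ cE z, mj ≠ 1 ∧ (mj = m j ∨ mj = m j * z) ∧ Commute mj (fr.x : G) ∧
          Commute mj (g * z * g⁻¹) ∧ g⁻¹ * mj * g ∈ cE z := by
        intro j hj
        by_cases hj' : vv j ∈ cE z
        · exact ⟨m j, hmE j, (hmne j hj).1, Or.inl rfl, hmx j, hmu j, hmσ j ▸ mul_mem hj' hzE⟩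
        · refine ⟨m j * z, mul_mem (hmE j) hzE, fun h => (hmne j hj).2 ?_, Or.inr rfl, (hmx j).mul_left hzx,
            (hmu j).mul_left hzu, ?_⟩
          · rw [eq_inv_of_mul_eq_one_left h, inv_eq_of_mul_eq_one_right (z_sq D.hJ)]
          · rw [hσz, mul_assoc, (comm_z_of_cH hu'H).symm.eq, ← mul_assoc]
            exact mul_mem (hww (hsides j) hj' hside0 h0) hzE
      obtain ⟨a1, ha1, ha11, ha1e, ha1x, ha1u, ha1σ⟩ := hpick 1 (by norm_num)
      obtain ⟨a2, ha2, ha21, ha2e, ha2x, ha2u, ha2σ⟩ := hpick 2 (by norm_num)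
      refine ⟨a1, ha1, a2, ha2, ha11, ha21, ?_, ha1x, ha2x, ha1u, ha2u, ha1σ, ha2σ⟩
      intro h
      rcases ha1e with rfl | rfl <;> rcases ha2e with rfl | rfl
      · exact hmm.1 h
      · exact hmm.2 h
      · exact hmm.2 (by rw [← h, mul_assoc, z_sq D.hJ, mul_one])
      · exact hmm.1 (mul_right_cancel h)
  obtain ⟨m₁, hm₁, m₂, hm₂, hm₁1, hm₂1, hne, hx₁, hx₂, hu₁', hu₂', hσ₁, hσ₂⟩ := hwit
  obtain ⟨d₁', hd₁', hd₁m⟩ := hker m₁ hm₁ hx₁ hu₁' hσ₁
  obtain ⟨d₂', hd₂', hd₂m⟩ := hker m₂ hm₂ hx₂ hu₂' hσ₂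
  have hsub : ({1, d₁', d₂'} : Set ↥Dd) ⊆ (K : Set ↥Dd) := by
    rintro x (rfl | rfl | rfl)
    exacts [one_mem _, hd₁', hd₂']
  have h3 := Set.ncard_le_ncard hsub (Set.toFinite _)
  rw [Set.ncard_insert_of_notMem, Set.ncard_pair] at h3
  · rw [← Nat.card_coe_set_eq] at h3
    have : Nat.card ↥(K : Set ↥Dd) = 2 := hKcard
    omega
  · intro h; exact hne (by rw [← hd₁m, ← hd₂m, h])
  · intro h
    rcases h with h | h
    · exact hm₁1 (by rw [← hd₁m, ← h]; simp)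
    · exact hm₂1 (by rw [← hd₂m, ← (Set.mem_singleton_iff.1 h)]; simp)

end Cfsg.Agent.Lib.J4Fusion14
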