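import Cfsg.Agent.Lib.J4Fusion14.Inner
import Cfsg.Agent.Lib.J4Fusion14.Outer
import Cfsg.Agent.Lib.ZStar.Final

/-!
# Some conjugate of `z` other than `z` lies in `C = C_H(P)`
-/

set_option autoImplicit false

namespace Cfsg.Agent.Lib.J4Fusion14

open Cfsg Cfsg.Agent.Lib.J4Type19

variable {G : Type*} [Group G] [Finite G] {z : G} {P : Subgroup G} {D : HData z P}

/-- An involution of a non-abelian simple group is not isolated. -/
theorem exists_commuting_conj [IsSimpleGroup G] (hG : ¬ IsMulCommutative G) (hz : orderOf z = 2) :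
    ∃ g : G, g * z * g⁻¹ ∈ cH z ∧ g * z * g⁻¹ ≠ z := by
  by_contra hno
  push Not at hno
  have hiso : IsIsolatedInvolution z :=
    ⟨hz, fun g hg => hno g (Subgroup.mem_centralizer_singleton_iff.2 hg.eq.symm)⟩
  have hZ := ZStar.zStar G z hiso
  have hn : (oddCore G).Normal := Subgroup.sSup_normal _ fun _ h => h.1
  have hbot : oddCore G = ⊥ := by
    rcases Subgroup.Normal.eq_bot_or_eq_top hn with h | h
    · exact h
    · exfalso
      have h2 : 2 ∣ Nat.card G := hz ▸ orderOf_dvd_natCard z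
      have hc := PSolvable.pPrimeCore_coprime (p := 2) (G := G)
      rw [show pPrimeCore 2 G = ⊤ from h, Subgroup.card_top] at hc
      exact absurd (Nat.dvd_gcd h2 dvd_rfl) (by rw [hc]; norm_num)
  have hzc : z ∈ Subgroup.center G := by
    rw [Subgroup.mem_center_iff]
    intro g
    have h := hZ g
    rw [hbot, Subgroup.mem_bot, mul_inv_eq_one, mul_inv_eq_iff_eq_mul] at h
    exact h.symm
  rcases Subgroup.Normal.eq_bot_or_eq_top (inferInstance : (Subgroup.center G).Normal) with h | h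
  · rw [h, Subgroup.mem_bot] at hzc
    rw [hzc, orderOf_one] at hz
    norm_num at hz
  · exact hG ⟨⟨fun a b => (Subgroup.mem_center_iff.1 (h ▸ Subgroup.mem_top a : a ∈ Subgroup.center G) b).symm⟩⟩

/-- The fusion statement. -/
theorem exists_conj_mem_cC_of [IsSimpleGroup G] (hG : ¬ IsMulCommutative G) (fr : Frame D)
    (hcI : ∀ {u : G}, D.Inner14 u → u * u = 1 → u ∉ cE z →
      ∃ h ∈ cH z, ∃ e ∈ cE z, Commute e (fr.x : G) ∧ h * u * h⁻¹ = e * (fr.w : G))
    (hcx : ∀ {u : G}, D.Inner14 u → u * u = 1 → Commute u (fr.x : G) → ∃ e ∈ cE z, Commute e (fr.x : G) ∧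
      (u = e ∨ u = e * (fr.w : G) ∨ u = e * (fr.w₁ : G) ∨ u = e * ((fr.w : G) * fr.w₁)))
    (hconj : ∀ {y : G}, y ∈ cH z → y ^ 3 = 1 → (¬ ∃ e ∈ cE z, ∃ q ∈ P, y = e * q) →
      ∃ h ∈ cH z, h * y * h⁻¹ = (fr.x : G))
    (hB : (∀ g : G, D.Inner14 (g * z * g⁻¹) → g * z * g⁻¹ ∈ cE z) →
      ∀ g : G, g * z * g⁻¹ ∈ cE z → g * z * g⁻¹ = z) :
    ∃ g : G, g * z * g⁻¹ ∈ cC z P ∧ g * z * g⁻¹ ≠ z := by
  by_contra hno
  push Not at hno
  have hInE := inner_mem_cE fr hcI hcx hconj hno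
  have hI : ∀ g : G, D.Inner14 (g * z * g⁻¹) → g * z * g⁻¹ = z := fun g hg => hB hInE g (hInE g hg)
  obtain ⟨g, hg, hne⟩ := exists_commuting_conj hG (hz D.hJ)
  exact hne (no_outer D hI g hg)

end Cfsg.Agent.Lib.J4Fusion14
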